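import Mathlib
import Groth.Agent.SegreOne.CMBase
import Groth.Agent.SegreDim.SupportDim
import Groth.Agent.GrLib.FreeCoh
import Groth.Agent.LocCoh.DepthLocal
import Groth.Agent.LocCoh.Vanishing
import Groth.Agent.S0605

/-! Graded modules are Cohen–Macaulay iff their local cohomology at the vertex is concentrated in one degree. -/

set_option autoImplicit false
set_option linter.unusedSectionVars false
universe u

open DirectSum MvPolynomial

namespace Groth.Agent.SegreLC

section poly

variable {k : Type u} [Field k] {R : Type u} [CommRing R] [Algebra k R] (𝒜 : ℤ → Submodule k R) [GradedAlgebra 𝒜]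
  {l D : ℕ}

/-- The weight of every parameter. -/
abbrev wD (l D : ℕ) : Fin l → ℤ := fun _ => (D : ℤ)

theorem aeval_mem_piece {z : Fin l → R} (hz : ∀ i, z i ∈ 𝒜 (D : ℤ)) {n : ℤ} {a : MvPolynomial (Fin l) k}
    (ha : a ∈ weightedHomogeneousSubmodule k (wD l D) n) : aeval z a ∈ 𝒜 n := by
  classical
  rw [a.as_sum, map_sum]
  refine Submodule.sum_mem _ fun d hd => ?_
  rw [aeval_monomial, ← Algebra.smul_def]
  refine Submodule.smul_mem _ _ ?_
  rw [← ha (mem_support_iff.1 hd), Finsupp.weight_apply]
  exact SetLike.prod_pow_mem_graded 𝒜 (fun i : Fin l => (D : ℤ)) z (fun i => d i) (fun i _ => hz i)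

theorem eq_C_of_mem_piece_of_constantCoeff_ne_zero (hD : 0 < D) {n : ℤ} {a : MvPolynomial (Fin l) k}
    (ha : a ∈ weightedHomogeneousSubmodule k (wD l D) n) (hc : constantCoeff a ≠ 0) : a = C (constantCoeff a) := by
  classical
  have hn : n = 0 := (ha hc).symm.trans (map_zero _)
  subst hn
  refine MvPolynomial.ext _ _ fun d => ?_
  rw [coeff_C]
  split_ifs with h
  · subst h; rfl
  · by_contra hd
    refine h (Finsupp.ext fun i => ?_)
    have h0 := ha hd
    rw [Finsupp.weight_apply, Finsupp.sum] at h0
    by_cases hi : i ∈ d.support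
    · have h1 := (Finset.sum_eq_zero_iff_of_nonneg (fun j _ => by positivity)).1 h0 i hi
      rcases smul_eq_zero.1 h1 with h2 | h2
      · exact h2.symm
      · exact absurd h2 (by simp [wD]; omega)
    · exact (Finsupp.notMem_support_iff.1 hi).symm

end poly

variable {k : Type u} [Field k] {R : Type u} [CommRing R] [Algebra k R] (𝒜 : ℤ → Submodule k R) [GradedAlgebra 𝒜]
  [Algebra.FiniteType k R] (hpos : ∀ n : ℤ, n < 0 → 𝒜 n = ⊥) (h0 : 𝒜 0 = Submodule.span k {(1 : R)})
  {M : Type u} [AddCommGroup M] [Module R M] [Module.Finite R M] [Module k M] [IsScalarTower k R M]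
  (ℳ : ℤ → AddSubgroup M) [Decomposition ℳ] [SetLike.GradedSMul 𝒜 ℳ] {l : ℕ}

include hpos h0 ℳ in
/-- Cohen–Macaulay graded modules have no local cohomology below their dimension. -/
theorem subsingleton_H_of_cm (hdim : Module.supportDim R M = l)
    (hcm : ∀ (q : Ideal R) [q.IsPrime], Subsingleton (LocalizedModule q.primeCompl M) ∨
      LocCoh.IsCohenMacaulayModule (Localization.AtPrime q) (LocalizedModule q.primeCompl M))
    (i : ℕ) (hi : i < l) : Subsingleton (_root_.LocCoh.H (SegreDim.irr 𝒜) i M) := by
  haveI : IsNoetherianRing R := Algebra.FiniteType.isNoetherianRing k R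
  refine (LocCoh.H_vanishing_iff_of_cm (SegreDim.irr 𝒜) M (fun p => hcm p.asIdeal) l).2 (fun p hp hsupp => ?_) i hi
  haveI : Nontrivial R := nontrivial_of_ne (0 : R) 1 fun h =>
    p.isPrime.ne_top ((Ideal.eq_top_iff_one _).2 (h ▸ p.asIdeal.zero_mem))
  have hpm : p.asIdeal = SegreDim.irr 𝒜 :=
    ((SegreDim.irr_isMaximal 𝒜 hpos h0).eq_of_le p.isPrime.ne_top hp).symm
  haveI : p.asIdeal.IsMaximal := hpm ▸ SegreDim.irr_isMaximal 𝒜 hpos h0
  rw [Module.support_eq_zeroLocus] at hsupp
  obtain ⟨Q, hQ, hQle⟩ := Ideal.exists_minimalPrimes_le (show Module.annihilator R M ≤ p.asIdeal from hsupp)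
  have hass := Module.associatedPrimes.minimalPrimes_annihilator_subset_associatedPrimes R M hQ
  rw [← hdim, ← SegreDim.ringKrullDim_quotient_eq_supportDim_of_cm 𝒜 hpos h0 ℳ hcm hass]
  exact SegreOne.le_supportDim_localized k hass hQle

include hpos h0 ℳ in
/-- Graded modules without local cohomology below their dimension are Cohen–Macaulay. -/
theorem cm_of_subsingleton_H (hdim : Module.supportDim R M = l)
    (hH : ∀ i < l, Subsingleton (_root_.LocCoh.H (SegreDim.irr 𝒜) i M))
    (q : Ideal R) [q.IsPrime] : Subsingleton (LocalizedModule q.primeCompl M) ∨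
      LocCoh.IsCohenMacaulayModule (Localization.AtPrime q) (LocalizedModule q.primeCompl M) := by
  classical
  haveI : IsNoetherianRing R := Algebra.FiniteType.isNoetherianRing k R
  haveI : Nontrivial R := nontrivial_of_ne (0 : R) 1 fun h =>
    Ideal.IsPrime.ne_top ‹_› ((Ideal.eq_top_iff_one q).2 (h ▸ q.zero_mem))
  have hann := SegreDim.annihilator_isHomogeneous 𝒜 ℳ
  obtain ⟨D, z, hD, hz, -, hint⟩ := SegreDim.exists_module_params 𝒜 (M := M) hpos h0 l
    (by rw [← Module.supportDim_eq_ringKrullDim_quotient_annihilator, hdim]) hann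
  let A := MvPolynomial (Fin l) k
  letI : Module A M := Module.compHom M (aeval (R := k) z).toRingHom
  letI : Algebra A R := (aeval (R := k) z).toRingHom.toAlgebra
  haveI : IsScalarTower A R M := IsScalarTower.of_algebraMap_smul fun a m => rfl
  haveI : Module.Finite A M := SegreOne.finite_of_integral z hint
  haveI : Module.FinitePresentation A M := Module.finitePresentation_of_finite A M
  haveI : IsRegularRing A := inferInstance
  let wgr := weightedHomogeneousSubmodule k (wD l D)
  letI : GradedAlgebra wgr := weightedGradedAlgebra k (wD l D)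
  haveI : SetLike.GradedSMul wgr ℳ :=
    ⟨fun {n g a x} ha hx => by
      show aeval z a • x ∈ ℳ _
      exact SetLike.GradedSMul.smul_mem (A := 𝒜) (B := ℳ) (aeval_mem_piece 𝒜 hz ha) hx⟩
  haveI hm : (SegreDim.irr 𝒜).IsMaximal := SegreDim.irr_isMaximal 𝒜 hpos h0
  -- the vertex of the parameter space
  let p₀ : Ideal A := (SegreDim.irr 𝒜).comap (algebraMap A R)
  have hX : ∀ i, X i ∈ p₀ := fun i => by
    show aeval z (X i) ∈ SegreDim.irr 𝒜
    rw [aeval_X]
    exact SegreDim.mem_irr_of_mem 𝒜 (by exact_mod_cast hD) (hz i)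
  have hgood : ∀ x : A, ∀ n : ℤ, x ∈ wgr n → x ∉ p₀ → IsUnit x := fun x n hx hxp => by
    by_cases hc : constantCoeff x = 0
    · refine absurd ?_ hxp
      have key : ∀ y : A, y - C (constantCoeff y) ∈ p₀ := fun y => by
        induction y using MvPolynomial.induction_on with
        | C a => rw [constantCoeff_C, sub_self]; exact p₀.zero_mem
        | add a b ha hb => rw [map_add, map_add, add_sub_add_comm]; exact p₀.add_mem ha hb
        | mul_X a i _ =>
          rw [map_mul, constantCoeff_X, mul_zero, map_zero, sub_zero]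
          exact p₀.mul_mem_left _ (hX i)
      simpa [hc] using key x
    · rw [eq_C_of_mem_piece_of_constantCoeff_ne_zero hD hx hc]
      exact (Ne.isUnit hc).map C
  -- the only point of the support over the vertex is the vertex
  have huniq : ∀ q' : PrimeSpectrum R, q'.asIdeal.comap (algebraMap A R) = p₀ → q' ∈ Module.support R M →
      q'.asIdeal = SegreDim.irr 𝒜 := by
    intro q' hq' hsupp
    rw [Module.support_eq_zeroLocus] at hsupp
    refine (hm.eq_of_le q'.isPrime.ne_top (Ideal.span_le.2 fun r hr => ?_)).symm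
    simp only [Set.mem_iUnion, Set.mem_Ioi] at hr
    obtain ⟨e, he, hr⟩ := hr
    let J := Module.annihilator R M ⊔ Ideal.span (Set.range z)
    have hJ : J.IsHomogeneous 𝒜 := hann.sup (Ideal.homogeneous_span 𝒜 _ fun _ ⟨i, hi⟩ => ⟨_, hi ▸ hz i⟩)
    have hJq : J ≤ q'.asIdeal := sup_le hsupp (Ideal.span_le.2 fun _ ⟨i, hi⟩ => hi ▸ by
      have : X i ∈ q'.asIdeal.comap (algebraMap A R) := hq'.symm ▸ hX i
      rw [Ideal.mem_comap] at this
      simpa [show algebraMap A R = (aeval (R := k) z).toRingHom from rfl] using this)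
    obtain ⟨f, hf, hfr⟩ := hint (Ideal.Quotient.mk (Module.annihilator R M) r)
    have hcongr : ∀ c : A, aeval z c - algebraMap k R (constantCoeff c) ∈ J := fun c => by
      induction c using MvPolynomial.induction_on with
      | C a => rw [aeval_C, constantCoeff_C, sub_self]; exact J.zero_mem
      | add a b ha hb =>
        rw [map_add, map_add, map_add, add_sub_add_comm]
        exact J.add_mem ha hb
      | mul_X a i _ =>
        rw [map_mul, map_mul, constantCoeff_X, mul_zero, map_zero, sub_zero, aeval_X]
        exact J.mul_mem_left _ (Ideal.mem_sup_right (Ideal.subset_span ⟨i, rfl⟩))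
    let N := f.natDegree
    have hsum : (∑ j ∈ Finset.range (N + 1), algebraMap k R (constantCoeff (f.coeff j)) * r ^ j) ∈ J := by
      have h1 : (∑ j ∈ Finset.range (N + 1), aeval z (f.coeff j) * r ^ j) ∈ Module.annihilator R M := by
        rw [← Ideal.Quotient.eq_zero_iff_mem, map_sum, ← hfr, Polynomial.eval₂_eq_sum_range]
        exact Finset.sum_congr rfl fun j _ => by rw [map_mul, map_pow]; rfl
      have h2 : (∑ j ∈ Finset.range (N + 1), aeval z (f.coeff j) * r ^ j) -
          (∑ j ∈ Finset.range (N + 1), algebraMap k R (constantCoeff (f.coeff j)) * r ^ j) ∈ J := by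
        rw [← Finset.sum_sub_distrib]
        exact Ideal.sum_mem _ fun j _ => by rw [← sub_mul]; exact J.mul_mem_right _ (hcongr _)
      have h3 := J.sub_mem (Ideal.mem_sup_left h1) h2
      rwa [sub_sub_cancel] at h3
    have hmem : ∀ j : ℕ, algebraMap k R (constantCoeff (f.coeff j)) * r ^ j ∈ 𝒜 ((j : ℤ) * e) := fun j => by
      rw [← Algebra.smul_def]
      refine Submodule.smul_mem _ _ ?_
      have := SetLike.pow_mem_graded (A := 𝒜) j hr
      rwa [nsmul_eq_mul] at this
    have htop : GrLib.proj 𝒜 ((N : ℤ) * e)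
        (∑ j ∈ Finset.range (N + 1), algebraMap k R (constantCoeff (f.coeff j)) * r ^ j) = r ^ N := by
      rw [map_sum, Finset.sum_eq_single_of_mem N (Finset.self_mem_range_succ N) fun j _ hj =>
        GrLib.proj_of_mem_ne (hmem j) (fun h => hj (by exact_mod_cast mul_right_cancel₀ he.ne' h)),
        GrLib.proj_of_mem (hmem N), hf.coeff_natDegree, map_one, map_one, one_mul]
    refine q'.isPrime.mem_of_pow_mem N ?_
    rw [← htop]
    exact hJq (hJ _ hsum)
  haveI hp₀ : p₀.IsPrime := Ideal.comap_isPrime _ _
  -- freeness at the vertex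
  let Ap := Localization.AtPrime p₀
  let Mp := LocalizedModule p₀.primeCompl M
  haveI : IsRegularLocalRing Ap := IsRegularRing.isRegularLocalRing_localization p₀
  haveI : Module.Finite Ap Mp :=
    Module.Finite.of_isLocalizedModule p₀.primeCompl (LocalizedModule.mkLinearMap p₀.primeCompl M)
  haveI : Module.Free Ap Mp := by
    rcases subsingleton_or_nontrivial Mp with hs | hn
    · infer_instance
    apply S0605.result
    refine le_antisymm (CAlgH3.depth_le_supportDim.trans (Module.supportDim_le_ringKrullDim _ _)) ?_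
    have hA : ringKrullDim A = (l : WithBot ℕ∞) := by
      rw [MvPolynomial.ringKrullDim_of_isNoetherianRing, ringKrullDim_eq_zero_of_field]; simp
    refine (le_of_le_of_eq (IsLocalization.AtPrime.ringKrullDim_eq_height p₀ Ap ▸
      Ideal.height_le_ringKrullDim_of_ne_top hp₀.ne_top) hA).trans ?_
    refine WithBot.coe_le_coe.mpr ?_
    rw [(InvLib.supportDim_depth_eq (B := R) M p₀).2]
    refine le_iInf₂ fun q' hq' => ?_
    have hi : ((l : ℕ) : ℕ∞) ≤ _root_.LocCoh.idealDepth (SegreDim.irr 𝒜) M :=
      (LocCoh.natCast_le_idealDepth_iff_H _ M l).2 hH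
    exact (LocCoh.natCast_le_idealDepth_iff_local _ M l).1 hi q' (huniq q' hq'.1 hq'.2).ge
  -- minimal generators are free
  obtain ⟨m, g, x, -, hspan, hco⟩ := GrLib.exists_min_gens (𝒜 := wgr) (ℳ := ℳ) p₀ hgood
  let π := LocalizedModule.mkLinearMap p₀.primeCompl M
  have hspan' : Submodule.span Ap (Set.range fun j => π (x j)) = ⊤ :=
    span_eq_top_of_isLocalizedModule Ap p₀.primeCompl π (by rw [hspan]) |> fun h => by
      rw [Set.range_comp' π x]; exact h
  obtain ⟨κ, a, b, hb⟩ := Module.exists_basis_of_span_of_flat (R := Ap) (fun j : ULift.{u} (Fin m) => π (x j.down))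
    (by rwa [show Set.range (fun j : ULift.{u} (Fin m) => π (x j.down)) = Set.range fun j => π (x j) from
      (ULift.down_surjective.range_comp fun j => π (x j))])
  have hasurj : Function.Surjective a := by
    intro j
    by_contra hj
    have hmem : π (x j.down) ∈ Submodule.span Ap (Set.range fun i => π (x (a i).down)) := by
      have := b.mem_span (π (x j.down))
      rwa [show (b : κ → Mp) = fun i => π (x (a i).down) from funext hb] at this
    obtain ⟨c, hc⟩ := (Finsupp.mem_span_range_iff_exists_finsupp).1 hmem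
    obtain ⟨t, ht⟩ := IsLocalization.exist_integer_multiples p₀.primeCompl c.support (fun i => c i)
    choose w hw using ht
    let v : Fin m → A := Pi.single j.down (t : A) - ∑ i ∈ c.support.attach, Pi.single (a i.1).down (w i.1 i.2)
    have hv : π (Fintype.linearCombination A x v) = 0 := by
      simp only [v, map_sub, map_sum, Fintype.linearCombination_apply_single, map_smul]
      rw [← hc, Finsupp.sum, Finset.smul_sum, ← Finset.sum_attach c.support fun i => (t : A) • c i • π (x (a i).down),
        sub_eq_zero]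
      refine Finset.sum_congr rfl fun i _ => ?_
      rw [← smul_assoc, ← IsScalarTower.algebraMap_smul Ap (w i.1 i.2), hw]
    obtain ⟨s, hs⟩ := (IsLocalizedModule.eq_zero_iff p₀.primeCompl π).1 hv
    have hzero : Fintype.linearCombination A x ((s : A) • v) = 0 := by rw [map_smul]; exact hs
    have hcoord := hco _ hzero j.down
    rw [Pi.smul_apply, smul_eq_mul] at hcoord
    have hvj : v j.down = t := by
      simp only [v, Pi.sub_apply, Pi.single_eq_same, Finset.sum_apply]
      rw [Finset.sum_eq_zero fun i _ => ?_, sub_zero]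
      exact Pi.single_eq_of_ne (fun h => hj ⟨i.1, ULift.down_injective h.symm⟩) _
    rw [hvj] at hcoord
    exact (p₀.primeCompl.mul_mem s.2 t.2) hcoord
  have hliAp : LinearIndependent Ap fun j : ULift.{u} (Fin m) => π (x j.down) := by
    have h := b.linearIndependent
    rw [show (b : κ → Mp) = (fun j : ULift.{u} (Fin m) => π (x j.down)) ∘ a from funext hb] at h
    have hai : Function.Injective a := fun i i' h' => b.injective (by rw [hb, hb, h'])
    exact (linearIndependent_equiv (Equiv.ofBijective a ⟨hai, hasurj⟩)).1 h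
  have hli : LinearIndependent A fun j : Fin m => x j := by
    have h1 : LinearIndependent Ap fun j : Fin m => π (x j) := hliAp.comp ULift.up ULift.up_injective
    have h2 : LinearIndependent A fun j : Fin m => π (x j) :=
      h1.restrict_scalars (by
        intro c d hcd
        simp only [Algebra.smul_def, mul_one] at hcd
        exact IsLocalization.injective Ap p₀.primeCompl_le_nonZeroDivisors hcd)
    exact LinearIndependent.of_comp π h2
  haveI : Module.Free A M := Module.Free.of_basis (Module.Basis.mk hli hspan.ge)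
  exact SegreOne.cm_of_projective (B := A) M q

end Groth.Agent.SegreLC
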