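import Mathlib

/-! Tensor products of complexes of vector spaces. -/

set_option autoImplicit false
set_option linter.unusedSectionVars false
universe u

open TensorProduct

namespace Groth.Agent.SegreLC

variable {k : Type u} [Field k]

section single

variable {C : ℕ → Type u} [∀ n, AddCommGroup (C n)] [∀ n, Module k (C n)] (d : ∀ n, C n →ₗ[k] C (n + 1))

/-- Coboundaries. -/
def bdry : ∀ n, Submodule k (C n)
  | 0 => ⊥
  | n + 1 => LinearMap.range (d n)

/-- Cohomology of a complex of vector spaces. -/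
abbrev Coh (n : ℕ) : Type u := ↥(LinearMap.ker (d n)) ⧸ (bdry d n).comap (LinearMap.ker (d n)).subtype

/-- The class of a cocycle. -/
abbrev cls (n : ℕ) : ↥(LinearMap.ker (d n)) →ₗ[k] Coh d n :=
  ((bdry d n).comap (LinearMap.ker (d n)).subtype).mkQ

theorem cls_eq_zero_iff {n : ℕ} {z : ↥(LinearMap.ker (d n))} : cls d n z = 0 ↔ (z : C n) ∈ bdry d n :=
  Submodule.Quotient.mk_eq_zero _

/-- Deformation of a complex onto its cohomology. -/
theorem exists_deformation (hdd : ∀ n x, d (n + 1) (d n x) = 0) :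
    ∃ (α : ∀ n, Coh d n →ₗ[k] C n) (β : ∀ n, C n →ₗ[k] Coh d n) (h : ∀ n, C (n + 1) →ₗ[k] C n),
      (∀ n c, d n (α n c) = 0) ∧ (∀ n x, β (n + 1) (d n x) = 0) ∧ (∀ n c, β n (α n c) = c) ∧
      (∀ x, α 0 (β 0 x) + h 0 (d 0 x) = x) ∧
      (∀ n x, α (n + 1) (β (n + 1) x) + d n (h n x) + h (n + 1) (d (n + 1) x) = x) ∧
      ∀ n (z : ↥(LinearMap.ker (d n))), β n z = cls d n z := by
  classical
  have hg : ∀ n, ∃ g : C (n + 1) →ₗ[k] C n, ∀ x, d n (g (d n x)) = d n x := fun n => by
    obtain ⟨s, hs⟩ := (d n).rangeRestrict.exists_rightInverse_of_surjective (d n).range_rangeRestrict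
    obtain ⟨g, hg⟩ := LinearMap.exists_extend s
    refine ⟨g, fun x => ?_⟩
    have h1 : g (d n x) = s ((d n).rangeRestrict x) := LinearMap.congr_fun hg ((d n).rangeRestrict x)
    rw [h1]
    exact congrArg Subtype.val (LinearMap.congr_fun hs ((d n).rangeRestrict x))
  choose g hg using hg
  let π : ∀ n, C n →ₗ[k] C n := fun n => match n with
    | 0 => LinearMap.id - (g 0).comp (d 0)
    | m + 1 => LinearMap.id - (d m).comp (g m) - (g (m + 1)).comp (d (m + 1))
  have hπ0 : ∀ x, π 0 x = x - g 0 (d 0 x) := fun x => rfl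
  have hπs : ∀ n x, π (n + 1) x = x - d n (g n x) - g (n + 1) (d (n + 1) x) := fun n x => rfl
  have hdπ : ∀ n x, d n (π n x) = 0 := by
    intro n x
    cases n with
    | zero => rw [hπ0, map_sub, hg, sub_self]
    | succ n => rw [hπs, map_sub, map_sub, hdd, sub_zero, hg, sub_self]
  have hπd : ∀ n x, π (n + 1) (d n x) = 0 := fun n x => by
    rw [hπs, hg, sub_self, hdd, map_zero, sub_zero]
  have hcls : ∀ n (z : ↥(LinearMap.ker (d n))), π n z - (z : C n) ∈ bdry d n := by
    rintro n ⟨z, hz⟩
    rw [LinearMap.mem_ker] at hz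
    cases n with
    | zero => rw [hπ0, hz, map_zero, sub_zero, sub_self]; exact zero_mem _
    | succ n =>
      rw [hπs, hz, map_zero, sub_zero]
      exact ⟨-(g n z), by rw [map_neg]; abel⟩
  let β : ∀ n, C n →ₗ[k] Coh d n := fun n =>
    (cls d n).comp ((π n).codRestrict (LinearMap.ker (d n)) fun x => hdπ n x)
  have hβ : ∀ n (z : ↥(LinearMap.ker (d n))), β n z = cls d n z := fun n z => by
    rw [← sub_eq_zero]
    show cls d n _ - cls d n z = 0
    rw [← map_sub, cls_eq_zero_iff]
    exact hcls n z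
  let α : ∀ n, Coh d n →ₗ[k] C n := fun n => Submodule.liftQ _ ((π n).comp (LinearMap.ker (d n)).subtype) (by
    rintro ⟨z, hz⟩ hb
    rw [Submodule.mem_comap] at hb
    cases n with
    | zero =>
      have : z = 0 := (Submodule.mem_bot k).1 hb
      subst this
      exact LinearMap.mem_ker.2 (map_zero (π 0))
    | succ n =>
      obtain ⟨w, hw⟩ := hb
      refine LinearMap.mem_ker.2 ?_
      show π (n + 1) z = 0
      rw [← show d n w = z from hw, hπd])
  have hαβ : ∀ n x, α n (β n x) = π n (π n x) := fun n x => rfl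
  let h : ∀ n, C (n + 1) →ₗ[k] C n := fun n => g n + (π n).comp (g n)
  refine ⟨α, β, h, fun n c => ?_, fun n x => ?_, fun n c => ?_, fun x => ?_, fun n x => ?_, hβ⟩
  · obtain ⟨z, rfl⟩ := Submodule.Quotient.mk_surjective _ c
    exact hdπ n z
  · show cls d (n + 1) _ = 0
    rw [cls_eq_zero_iff]
    show π (n + 1) (d n x) ∈ bdry d (n + 1)
    rw [hπd]; exact zero_mem _
  · obtain ⟨z, rfl⟩ := Submodule.Quotient.mk_surjective _ c
    refine (hβ n ⟨π n z, hdπ n z⟩).trans ?_
    rw [← sub_eq_zero]
    show cls d n _ - cls d n z = 0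
    rw [← map_sub, cls_eq_zero_iff]
    exact hcls n z
  · show π 0 (π 0 x) + (g 0 (d 0 x) + π 0 (g 0 (d 0 x))) = x
    rw [hπ0 x, map_sub]
    rw [hπ0 x]
    abel
  · show π (n + 1) (π (n + 1) x) + d n (g n x + π n (g n x)) +
      (g (n + 1) (d (n + 1) x) + π (n + 1) (g (n + 1) (d (n + 1) x))) = x
    rw [map_add, hdπ, add_zero, hπs n x, map_sub, map_sub, hπd]
    rw [hπs n x]
    abel

end single

section tot

variable {C : ℕ → Type u} [∀ n, AddCommGroup (C n)] [∀ n, Module k (C n)] (dC : ∀ n, C n →ₗ[k] C (n + 1))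
  {D : ℕ → Type u} [∀ n, AddCommGroup (D n)] [∀ n, Module k (D n)] (dD : ∀ n, D n →ₗ[k] D (n + 1))

variable (C D) in
/-- The component of bidegree `(i, j)`. -/
def totEv (i j : ℕ) : (∀ i j, C i ⊗[k] D j) →ₗ[k] C i ⊗[k] D j where
  toFun x := x i j
  map_add' _ _ := rfl
  map_smul' _ _ := rfl

/-- A component of the total differential. -/
noncomputable def totComp : ∀ i j, (∀ i j, C i ⊗[k] D j) →ₗ[k] C i ⊗[k] D j
  | 0, 0 => 0
  | i + 1, 0 => ((dC i).rTensor (D 0)).comp (totEv C D i 0)
  | 0, j + 1 => ((dD j).lTensor (C 0)).comp (totEv C D 0 j)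
  | i + 1, j + 1 => ((dC i).rTensor (D (j + 1))).comp (totEv C D i (j + 1)) +
      (-1 : k) ^ (i + 1) • ((dD j).lTensor (C (i + 1))).comp (totEv C D (i + 1) j)

/-- The total differential on all bidegrees at once. -/
noncomputable def totD : (∀ i j, C i ⊗[k] D j) →ₗ[k] (∀ i j, C i ⊗[k] D j) :=
  LinearMap.pi fun i => LinearMap.pi fun j => totComp dC dD i j

theorem totD_zero_zero (x : ∀ i j, C i ⊗[k] D j) : totD dC dD x 0 0 = 0 := rfl
theorem totD_succ_zero (x : ∀ i j, C i ⊗[k] D j) (i : ℕ) :
    totD dC dD x (i + 1) 0 = (dC i).rTensor (D 0) (x i 0) := rfl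
theorem totD_zero_succ (x : ∀ i j, C i ⊗[k] D j) (j : ℕ) :
    totD dC dD x 0 (j + 1) = (dD j).lTensor (C 0) (x 0 j) := rfl
theorem totD_succ_succ (x : ∀ i j, C i ⊗[k] D j) (i j : ℕ) :
    totD dC dD x (i + 1) (j + 1) = (dC i).rTensor (D (j + 1)) (x i (j + 1)) +
      (-1 : k) ^ (i + 1) • (dD j).lTensor (C (i + 1)) (x (i + 1) j) := rfl

variable (k C D) in
/-- The elements of total degree `n`. -/
def totDeg (n : ℕ) : Submodule k (∀ i j, C i ⊗[k] D j) where
  carrier := {x | ∀ i j, i + j ≠ n → x i j = 0}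
  add_mem' ha hb i j h := by simp [ha i j h, hb i j h]
  zero_mem' _ _ _ := rfl
  smul_mem' c x hx i j h := by simp [hx i j h]

theorem totD_mem {n : ℕ} {x : ∀ i j, C i ⊗[k] D j} (hx : x ∈ totDeg k C D n) :
    totD dC dD x ∈ totDeg k C D (n + 1) := by
  intro i j hij
  rcases i with _ | i <;> rcases j with _ | j
  · rfl
  · rw [totD_zero_succ, hx 0 j (by omega), map_zero]
  · rw [totD_succ_zero, hx i 0 (by omega), map_zero]
  · rw [totD_succ_succ, hx i (j + 1) (by omega), hx (i + 1) j (by omega), map_zero, map_zero, smul_zero,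
      add_zero]

/-- The differential in total degree `n`. -/
noncomputable def totd (n : ℕ) : totDeg k C D n →ₗ[k] totDeg k C D (n + 1) :=
  ((totD dC dD).comp (totDeg k C D n).subtype).codRestrict _ fun x => totD_mem dC dD x.2

/-- The homotopy. -/
noncomputable def totH (hC : ∀ n, C (n + 1) →ₗ[k] C n) (aC : ∀ n, C n →ₗ[k] C n)
    (hD : ∀ n, D (n + 1) →ₗ[k] D n) : (∀ i j, C i ⊗[k] D j) →ₗ[k] (∀ i j, C i ⊗[k] D j) :=
  LinearMap.pi fun i => LinearMap.pi fun j =>
    ((hC i).rTensor (D j)).comp (totEv C D (i + 1) j) +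
      (-1 : k) ^ i • (TensorProduct.map (aC i) (hD j)).comp (totEv C D i (j + 1))

theorem totH_apply (hC : ∀ n, C (n + 1) →ₗ[k] C n) (aC : ∀ n, C n →ₗ[k] C n)
    (hD : ∀ n, D (n + 1) →ₗ[k] D n) (x : ∀ i j, C i ⊗[k] D j) (i j : ℕ) :
    totH hC aC hD x i j = (hC i).rTensor (D j) (x (i + 1) j) +
      (-1 : k) ^ i • TensorProduct.map (aC i) (hD j) (x i (j + 1)) := rfl

/-- The homotopy identity. -/
theorem totKey {α : ∀ n, Coh dC n →ₗ[k] C n} {β : ∀ n, C n →ₗ[k] Coh dC n} {h : ∀ n, C (n + 1) →ₗ[k] C n}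
    {α' : ∀ n, Coh dD n →ₗ[k] D n} {β' : ∀ n, D n →ₗ[k] Coh dD n} {h' : ∀ n, D (n + 1) →ₗ[k] D n}
    (hdα : ∀ n c, dC n (α n c) = 0) (hβd : ∀ n x, β (n + 1) (dC n x) = 0)
    (hid0 : ∀ x, α 0 (β 0 x) + h 0 (dC 0 x) = x)
    (hids : ∀ n x, α (n + 1) (β (n + 1) x) + dC n (h n x) + h (n + 1) (dC (n + 1) x) = x)
    (hid0' : ∀ x, α' 0 (β' 0 x) + h' 0 (dD 0 x) = x)
    (hids' : ∀ n x, α' (n + 1) (β' (n + 1) x) + dD n (h' n x) + h' (n + 1) (dD (n + 1) x) = x)
    (x : ∀ i j, C i ⊗[k] D j) (i j : ℕ) :
    TensorProduct.map ((α i).comp (β i)) ((α' j).comp (β' j)) (x i j) +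
        totD dC dD (totH h (fun i => (α i).comp (β i)) h' x) i j +
        totH h (fun i => (α i).comp (β i)) h' (totD dC dD x) i j = x i j := by
  rcases i with _ | i <;> rcases j with _ | j
  · rw [totD_zero_zero, totH_apply, totD_succ_zero, totD_zero_succ]
    generalize x 0 0 = w
    induction w using TensorProduct.induction_on with
    | zero => simp
    | add p q hp hq =>
      simp only [map_add, smul_add] at hp hq ⊢
      conv_rhs => rw [← hp, ← hq]
      abel
    | tmul a b =>
      simp only [LinearMap.rTensor_tmul, LinearMap.lTensor_tmul, TensorProduct.map_tmul, LinearMap.comp_apply,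
        pow_zero, one_smul, add_zero]
      conv_rhs => rw [← hid0 a, TensorProduct.add_tmul]
      rw [add_comm (h 0 (dC 0 a) ⊗ₜ[k] b), ← add_assoc, ← TensorProduct.tmul_add, hid0']
  · rw [totD_zero_succ, totH_apply, totH_apply, totD_succ_succ, totD_zero_succ]
    generalize x 0 (j + 1) = w
    generalize x 1 j = v
    simp only [map_add, map_smul, pow_zero, one_smul, Nat.zero_add, pow_one, neg_smul, map_neg]
    have h1 : (dD j).lTensor (C 0) ((h 0).rTensor (D j) v) = (h 0).rTensor (D (j + 1)) ((dD j).lTensor (C 1) v) := by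
      rw [← LinearMap.comp_apply, LinearMap.lTensor_comp_rTensor, ← LinearMap.rTensor_comp_lTensor]; rfl
    rw [h1]
    have h2 : TensorProduct.map ((α 0).comp (β 0)) ((α' (j + 1)).comp (β' (j + 1))) w +
        (dD j).lTensor (C 0) (TensorProduct.map ((α 0).comp (β 0)) (h' j) w) +
        ((h 0).rTensor (D (j + 1)) ((dC 0).rTensor (D (j + 1)) w) +
        TensorProduct.map ((α 0).comp (β 0)) (h' (j + 1)) ((dD (j + 1)).lTensor (C 0) w)) = w := by
      induction w using TensorProduct.induction_on with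
      | zero => simp
      | add p q hp hq =>
        simp only [map_add] at hp hq ⊢
        conv_rhs => rw [← hp, ← hq]
        abel
      | tmul a b =>
        simp only [LinearMap.rTensor_tmul, LinearMap.lTensor_tmul, TensorProduct.map_tmul, LinearMap.comp_apply]
        conv_rhs => rw [← hid0 a, TensorProduct.add_tmul]; arg 1; rw [← hids' j b, TensorProduct.tmul_add, TensorProduct.tmul_add]
        abel
    conv_rhs => rw [← h2]
    abel
  · rw [totD_succ_zero, totH_apply, totH_apply, totD_succ_zero, totD_succ_succ]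
    generalize x (i + 1) 0 = w
    generalize x i 1 = v
    simp only [map_add, map_smul, Nat.zero_add, smul_add, smul_smul]
    have h1 : (dC i).rTensor (D 0) (TensorProduct.map ((α i).comp (β i)) (h' 0) v) = 0 := by
      induction v using TensorProduct.induction_on with
      | zero => simp
      | add p q hp hq => rw [map_add, map_add, hp, hq, add_zero]
      | tmul a b => simp [hdα]
    have h1' : TensorProduct.map ((α (i + 1)).comp (β (i + 1))) (h' 0) ((dC i).rTensor (D 1) v) = 0 := by
      clear h1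
      induction v using TensorProduct.induction_on with
      | zero => simp
      | add p q hp hq => rw [map_add, map_add, hp, hq, add_zero]
      | tmul a b => simp [hβd]
    rw [h1, h1']
    simp only [← mul_pow, neg_one_mul, neg_neg, one_pow, one_smul, smul_zero, add_zero, zero_add]
    induction w using TensorProduct.induction_on with
    | zero => simp
    | add p q hp hq =>
      simp only [map_add] at hp hq ⊢
      conv_rhs => rw [← hp, ← hq]
      abel
    | tmul a b =>
      simp only [LinearMap.rTensor_tmul, LinearMap.lTensor_tmul, TensorProduct.map_tmul, LinearMap.comp_apply]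
      conv_rhs => rw [← hids i a, TensorProduct.add_tmul, TensorProduct.add_tmul]; arg 1; arg 1; rw [← hid0' b, TensorProduct.tmul_add]
      abel
  · rw [totD_succ_succ, totH_apply, totH_apply, totH_apply, totD_succ_succ, totD_succ_succ]
    generalize x (i + 1) (j + 1) = w
    generalize x i (j + 1 + 1) = v
    generalize x (i + 1 + 1) j = v'
    simp only [map_add, map_smul, smul_add, smul_smul]
    have h1 : (dC i).rTensor (D (j + 1)) (TensorProduct.map ((α i).comp (β i)) (h' (j + 1)) v) = 0 := by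
      induction v using TensorProduct.induction_on with
      | zero => simp
      | add p q hp hq => rw [map_add, map_add, hp, hq, add_zero]
      | tmul a b => simp [hdα]
    have h1' : TensorProduct.map ((α (i + 1)).comp (β (i + 1))) (h' (j + 1)) ((dC i).rTensor (D (j + 1 + 1)) v) = 0 := by
      clear h1
      induction v using TensorProduct.induction_on with
      | zero => simp
      | add p q hp hq => rw [map_add, map_add, hp, hq, add_zero]
      | tmul a b => simp [hβd]
    have h2 : (dD j).lTensor (C (i + 1)) ((h (i + 1)).rTensor (D j) v') =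
        (h (i + 1)).rTensor (D (j + 1)) ((dD j).lTensor (C (i + 1 + 1)) v') := by
      rw [← LinearMap.comp_apply, LinearMap.lTensor_comp_rTensor, ← LinearMap.rTensor_comp_lTensor]; rfl
    rw [h1, h1', h2, ← mul_pow, neg_one_mul, neg_neg, one_pow, one_smul, one_smul, smul_zero, smul_zero,
      add_zero, zero_add, show (-1 : k) ^ (i + 1 + 1) = -((-1 : k) ^ (i + 1)) by rw [pow_succ]; ring, neg_smul]
    have h3 : TensorProduct.map ((α (i + 1)).comp (β (i + 1))) ((α' (j + 1)).comp (β' (j + 1))) w +
        (dC i).rTensor (D (j + 1)) ((h i).rTensor (D (j + 1)) w) +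
        ((h (i + 1)).rTensor (D (j + 1)) ((dC (i + 1)).rTensor (D (j + 1)) w) +
        (dD j).lTensor (C (i + 1)) (TensorProduct.map ((α (i + 1)).comp (β (i + 1))) (h' j) w) +
        TensorProduct.map ((α (i + 1)).comp (β (i + 1))) (h' (j + 1)) ((dD (j + 1)).lTensor (C (i + 1)) w)) = w := by
      induction w using TensorProduct.induction_on with
      | zero => simp
      | add p q hp hq =>
        simp only [map_add] at hp hq ⊢
        conv_rhs => rw [← hp, ← hq]
        abel
      | tmul a b =>
        simp only [LinearMap.rTensor_tmul, LinearMap.lTensor_tmul, TensorProduct.map_tmul, LinearMap.comp_apply]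
        conv_rhs => rw [← hids i a, TensorProduct.add_tmul, TensorProduct.add_tmul]; arg 1; arg 1; rw [← hids' j b, TensorProduct.tmul_add, TensorProduct.tmul_add]
        abel
    conv_rhs => rw [← h3]
    abel

variable {α : ∀ n, Coh dC n →ₗ[k] C n} {β : ∀ n, C n →ₗ[k] Coh dC n}
  {α' : ∀ n, Coh dD n →ₗ[k] D n} {β' : ∀ n, D n →ₗ[k] Coh dD n}

/-- The comparison with tensor products of cohomology. -/
noncomputable def totTheta (β : ∀ n, C n →ₗ[k] Coh dC n) (β' : ∀ n, D n →ₗ[k] Coh dD n) (n : ℕ) :
    totDeg k C D n →ₗ[k] ∀ p : Finset.HasAntidiagonal.antidiagonal n, Coh dC p.1.1 ⊗[k] Coh dD p.1.2 :=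
  LinearMap.pi fun p => ((TensorProduct.map (β p.1.1) (β' p.1.2)).comp (totEv C D p.1.1 p.1.2)).comp
    (totDeg k C D n).subtype

theorem totTheta_apply (n : ℕ) (x : totDeg k C D n) (p : Finset.HasAntidiagonal.antidiagonal n) :
    totTheta dC dD β β' n x p = TensorProduct.map (β p.1.1) (β' p.1.2) (x.1 p.1.1 p.1.2) := rfl

theorem totTheta_surjective (hdα : ∀ n c, dC n (α n c) = 0) (hdα' : ∀ n c, dD n (α' n c) = 0)
    (hβα : ∀ n c, β n (α n c) = c) (hβα' : ∀ n c, β' n (α' n c) = c) (n : ℕ)
    (c : ∀ p : Finset.HasAntidiagonal.antidiagonal n, Coh dC p.1.1 ⊗[k] Coh dD p.1.2) :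
    ∃ x : totDeg k C D n, totd dC dD n x = 0 ∧ totTheta dC dD β β' n x = c := by
  classical
  let x : ∀ i j, C i ⊗[k] D j := fun i j =>
    if hij : i + j = n then TensorProduct.map (α i) (α' j) (c ⟨(i, j), Finset.HasAntidiagonal.mem_antidiagonal.2 hij⟩) else 0
  have hxn : x ∈ totDeg k C D n := fun i j hij => dif_neg hij
  have hz1 : ∀ i j, (dC i).rTensor (D j) (x i j) = 0 ∧ (dD j).lTensor (C i) (x i j) = 0 := by
    intro i j
    simp only [x]
    split_ifs with hij
    · generalize c ⟨(i, j), _⟩ = w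
      induction w using TensorProduct.induction_on with
      | zero => simp
      | add p q hp hq => simp [hp.1, hp.2, hq.1, hq.2]
      | tmul a b => simp [hdα, hdα']
    · simp
  refine ⟨⟨x, hxn⟩, Subtype.ext (funext fun i => funext fun j => ?_), funext fun p => ?_⟩
  · show totD dC dD x i j = 0
    rcases i with _ | i <;> rcases j with _ | j
    · rfl
    · rw [totD_zero_succ, (hz1 0 j).2]
    · rw [totD_succ_zero, (hz1 i 0).1]
    · rw [totD_succ_succ, (hz1 i (j + 1)).1, (hz1 (i + 1) j).2, smul_zero, add_zero]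
  · rw [totTheta_apply]
    simp only [x]
    rw [dif_pos (Finset.HasAntidiagonal.mem_antidiagonal.1 p.2), TensorProduct.map_map,
      show (β p.1.1).comp (α p.1.1) = LinearMap.id from LinearMap.ext (hβα _),
      show (β' p.1.2).comp (α' p.1.2) = LinearMap.id from LinearMap.ext (hβα' _), TensorProduct.map_id]
    rfl

theorem totTheta_eq_zero_iff {h : ∀ n, C (n + 1) →ₗ[k] C n} {h' : ∀ n, D (n + 1) →ₗ[k] D n}
    (hkey : ∀ (x : ∀ i j, C i ⊗[k] D j) (i j : ℕ),
      TensorProduct.map ((α i).comp (β i)) ((α' j).comp (β' j)) (x i j) +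
        totD dC dD (totH h (fun i => (α i).comp (β i)) h' x) i j +
        totH h (fun i => (α i).comp (β i)) h' (totD dC dD x) i j = x i j)
    (hβd : ∀ n x, β (n + 1) (dC n x) = 0) (hβd' : ∀ n x, β' (n + 1) (dD n x) = 0)
    (n : ℕ) (z : totDeg k C D n) (hz : totd dC dD n z = 0) :
    totTheta dC dD β β' n z = 0 ↔ z ∈ bdry (totd dC dD) n := by
  constructor
  · intro hθ
    have hz0 : totD dC dD z.1 = 0 := congrArg Subtype.val hz
    have hzb : ∀ i j, totD dC dD (totH h (fun i => (α i).comp (β i)) h' z.1) i j = z.1 i j := by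
      intro i j
      have h1 := hkey z.1 i j
      rw [hz0, map_zero] at h1
      conv_rhs => rw [← h1]
      by_cases hij : i + j = n
      · have h0 : TensorProduct.map (β i) (β' j) (z.1 i j) = 0 :=
          congrFun hθ ⟨(i, j), Finset.HasAntidiagonal.mem_antidiagonal.2 hij⟩
        rw [← TensorProduct.map_map, h0, map_zero, zero_add]
        exact (add_zero _).symm
      · rw [z.2 i j hij, map_zero, zero_add]
        exact (add_zero _).symm
    cases n with
    | zero =>
      refine (Submodule.mem_bot k).2 (Subtype.ext (funext fun i => funext fun j => ?_))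
      show z.1 i j = 0
      by_cases hij : i + j = 0
      · obtain ⟨rfl, rfl⟩ : i = 0 ∧ j = 0 := by omega
        rw [← hzb, totD_zero_zero]
      · exact z.2 i j hij
    | succ m =>
      have hHm : totH h (fun i => (α i).comp (β i)) h' z.1 ∈ totDeg k C D m := fun i j hij => by
        rw [totH_apply, z.2 (i + 1) j (by omega), z.2 i (j + 1) (by omega), map_zero, map_zero, smul_zero,
          add_zero]
      exact ⟨⟨_, hHm⟩, Subtype.ext (funext fun i => funext fun j => hzb i j)⟩
  · intro hb
    cases n with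
    | zero =>
      rw [(Submodule.mem_bot k).1 hb, map_zero]
    | succ m =>
      obtain ⟨w, rfl⟩ := hb
      refine funext fun p => ?_
      rw [totTheta_apply]
      obtain ⟨⟨i, j⟩, hp⟩ := p
      have hC0 : ∀ (i j : ℕ) (v : C i ⊗[k] D j),
          TensorProduct.map (β (i + 1)) (β' j) ((dC i).rTensor (D j) v) = 0 := fun i j v => by
        induction v using TensorProduct.induction_on with
        | zero => simp
        | add p q hp hq => simp [hp, hq]
        | tmul a b => simp [hβd]
      have hD0 : ∀ (i j : ℕ) (v : C i ⊗[k] D j),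
          TensorProduct.map (β i) (β' (j + 1)) ((dD j).lTensor (C i) v) = 0 := fun i j v => by
        induction v using TensorProduct.induction_on with
        | zero => simp
        | add p q hp hq => simp [hp, hq]
        | tmul a b => simp [hβd']
      show TensorProduct.map (β i) (β' j) (totD dC dD w.1 i j) = 0
      rcases i with _ | i <;> rcases j with _ | j
      · rw [totD_zero_zero, map_zero]
      · rw [totD_zero_succ, hD0]
      · rw [totD_succ_zero, hC0]
      · rw [totD_succ_succ, map_add, map_smul, hC0, hD0, smul_zero, add_zero]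

end tot

end Groth.Agent.SegreLC
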