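import Mathlib
import Groth.Agent.SegreLC.Kunneth

/-! The connecting isomorphism of a short exact sequence of complexes of vector spaces. -/

set_option autoImplicit false
set_option linter.unusedSectionVars false
universe u

namespace Groth.Agent.SegreLC

variable {k : Type u} [Field k] {L : ℕ → Type u} [∀ n, AddCommGroup (L n)] [∀ n, Module k (L n)]
  {dL : ∀ n, L n →ₗ[k] L (n + 1)} {Q : ℕ → Type u} [∀ n, AddCommGroup (Q n)] [∀ n, Module k (Q n)]
  {dQ : ∀ n, Q n →ₗ[k] Q (n + 1)} {p : ∀ n, L n →ₗ[k] Q n}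
  (hcomm : ∀ n x, p (n + 1) (dL n x) = dQ n (p n x))

/-- The kernel complex. -/
noncomputable def kerd (n : ℕ) : LinearMap.ker (p n) →ₗ[k] LinearMap.ker (p (n + 1)) :=
  ((dL n).comp (LinearMap.ker (p n)).subtype).codRestrict _ fun x => by
    rw [LinearMap.mem_ker, LinearMap.comp_apply, hcomm, Submodule.subtype_apply, LinearMap.mem_ker.1 x.2, map_zero]

theorem kerd_apply (n : ℕ) (x : LinearMap.ker (p n)) : (kerd hcomm n x : L (n + 1)) = dL n x := rfl

variable (hsurj : ∀ n, Function.Surjective (p n)) (hdd : ∀ n x, dL (n + 1) (dL n x) = 0)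
include hdd

include hsurj in
/-- Connecting isomorphism when the middle complex is exact. -/
theorem exists_connEquiv (n : ℕ)
    (hex : ∀ z, dL (n + 1) z = 0 → ∃ w, dL n w = z) (hex' : ∀ z, dL (n + 2) z = 0 → ∃ w, dL (n + 1) w = z) :
    Nonempty (Coh dQ (n + 1) ≃ₗ[k] Coh (kerd hcomm) (n + 2)) := by
  obtain ⟨s, hs⟩ := (p (n + 1)).exists_rightInverse_of_surjective (LinearMap.range_eq_top.2 (hsurj _))
  have hs' : ∀ q, p (n + 1) (s q) = q := fun q => LinearMap.congr_fun hs q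
  let f : LinearMap.ker (dQ (n + 1)) →ₗ[k] LinearMap.ker (p (n + 2)) :=
    ((dL (n + 1)).comp (s.comp (LinearMap.ker (dQ (n + 1))).subtype)).codRestrict _ fun q => by
      rw [LinearMap.mem_ker, LinearMap.comp_apply, hcomm, LinearMap.comp_apply, hs']
      exact q.2
  let Φ : LinearMap.ker (dQ (n + 1)) →ₗ[k] Coh (kerd hcomm) (n + 2) :=
    (cls (kerd hcomm) (n + 2)).comp (f.codRestrict _ fun q =>
      LinearMap.mem_ker.2 (Subtype.ext (hdd (n + 1) _)))
  have hΦ : Function.Surjective Φ := by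
    intro c
    obtain ⟨z, rfl⟩ := Submodule.Quotient.mk_surjective _ c
    obtain ⟨x, hx⟩ := hex' z.1.1 (congrArg Subtype.val (LinearMap.mem_ker.1 z.2))
    have hq : dQ (n + 1) (p (n + 1) x) = 0 := by rw [← hcomm, hx]; exact z.1.2
    refine ⟨⟨p (n + 1) x, hq⟩, ?_⟩
    rw [← sub_eq_zero]
    show cls (kerd hcomm) (n + 2) _ - cls (kerd hcomm) (n + 2) z = 0
    rw [← map_sub, cls_eq_zero_iff]
    refine ⟨⟨s (p (n + 1) x) - x, by rw [LinearMap.mem_ker, map_sub, hs', sub_self]⟩, Subtype.ext ?_⟩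
    show dL (n + 1) (s (p (n + 1) x) - x) = dL (n + 1) (s (p (n + 1) x)) - z.1.1
    rw [map_sub, hx]
  have hker : LinearMap.ker Φ = (bdry dQ (n + 1)).comap (LinearMap.ker (dQ (n + 1))).subtype := by
    refine le_antisymm (fun q hq => ?_) (fun q hq => ?_)
    · obtain ⟨w, hw⟩ := (cls_eq_zero_iff (kerd hcomm)).1 (LinearMap.mem_ker.1 hq)
      have hw' : dL (n + 1) w.1 = dL (n + 1) (s q.1) := congrArg Subtype.val hw
      obtain ⟨x, hx⟩ := hex (s q.1 - w.1) (by rw [map_sub, hw', sub_self])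
      exact ⟨p n x, by
        rw [← hcomm, hx, map_sub, hs', LinearMap.mem_ker.1 w.2, sub_zero]; rfl⟩
    · obtain ⟨y, hy⟩ := hq
      obtain ⟨x, rfl⟩ := hsurj n y
      refine LinearMap.mem_ker.2 ((cls_eq_zero_iff (kerd hcomm)).2 ?_)
      refine ⟨⟨s q.1 - dL n x, by
        rw [LinearMap.mem_ker, map_sub, hs', hcomm, hy]
        exact sub_self _⟩, Subtype.ext ?_⟩
      show dL (n + 1) (s q.1 - dL n x) = dL (n + 1) (s q.1)
      rw [map_sub, hdd, sub_zero]
  exact ⟨(Submodule.quotEquivOfEq _ _ hker.symm).trans (Φ.quotKerEquivOfSurjective hΦ)⟩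

include hsurj in
/-- The degree-zero comparison is bijective when the kernel complex is acyclic in low degrees. -/
theorem bijective_H0 (h0 : Subsingleton (Coh (kerd hcomm) 0)) (h1 : Subsingleton (Coh (kerd hcomm) 1)) :
    (∀ y, dL 0 y = 0 → p 0 y = 0 → y = 0) ∧ ∀ q, dQ 0 q = 0 → ∃ y, dL 0 y = 0 ∧ p 0 y = q := by
  constructor
  · intro y hy hpy
    have h := (cls_eq_zero_iff (kerd hcomm) (n := 0)
      (z := ⟨⟨y, hpy⟩, LinearMap.mem_ker.2 (Subtype.ext hy)⟩)).1 (Subsingleton.elim _ _)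
    exact congrArg Subtype.val ((Submodule.mem_bot k).1 h)
  · intro q hq
    obtain ⟨x, rfl⟩ := hsurj 0 q
    obtain ⟨v, hv⟩ := (cls_eq_zero_iff (kerd hcomm) (n := 1)
      (z := ⟨⟨dL 0 x, by rw [LinearMap.mem_ker, hcomm, hq]⟩, LinearMap.mem_ker.2 (Subtype.ext (hdd 0 x))⟩)).1
      (Subsingleton.elim _ _)
    have hv' : dL 0 v.1 = dL 0 x := congrArg Subtype.val hv
    exact ⟨x - v.1, by rw [map_sub, hv', sub_self], by rw [map_sub, LinearMap.mem_ker.1 v.2, sub_zero]⟩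

include hsurj in
/-- Conversely, low-degree vanishing of the kernel complex. -/
theorem subsingleton_low (hinj : ∀ y, dL 0 y = 0 → p 0 y = 0 → y = 0)
    (hsur : ∀ q, dQ 0 q = 0 → ∃ y, dL 0 y = 0 ∧ p 0 y = q) (hex : ∀ z, dL 1 z = 0 → ∃ w, dL 0 w = z) :
    Subsingleton (Coh (kerd hcomm) 0) ∧ Subsingleton (Coh (kerd hcomm) 1) := by
  constructor
  · refine subsingleton_of_forall_eq 0 fun c => ?_
    obtain ⟨z, rfl⟩ := Submodule.Quotient.mk_surjective _ c
    have : z = 0 := Subtype.ext (Subtype.ext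
      (hinj z.1.1 (congrArg Subtype.val (LinearMap.mem_ker.1 z.2)) z.1.2))
    rw [this]; rfl
  · refine subsingleton_of_forall_eq 0 fun c => ?_
    obtain ⟨z, rfl⟩ := Submodule.Quotient.mk_surjective _ c
    obtain ⟨x, hx⟩ := hex z.1.1 (congrArg Subtype.val (LinearMap.mem_ker.1 z.2))
    obtain ⟨y, hy, hyq⟩ := hsur (p 0 x) (by rw [← hcomm, hx]; exact z.1.2)
    refine (cls_eq_zero_iff (kerd hcomm)).2 ⟨⟨x - y, by rw [LinearMap.mem_ker, map_sub, hyq, sub_self]⟩,
      Subtype.ext ?_⟩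
    show dL 0 (x - y) = z.1.1
    rw [map_sub, hy, sub_zero, hx]

end Groth.Agent.SegreLC
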