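import Mathlib
import Groth.Prelude.Def_GrLC
import Groth.Agent.LocCoh.Vanishing

/-! Acyclic resolutions compute torsion cohomology (ungraded). -/

set_option autoImplicit false
set_option linter.unusedSectionVars false
universe u

namespace Groth.Agent.SegreLC

variable {R : Type u} [CommRing R]

/-- Acyclicity for the torsion functor of an ideal. -/
def Acyc (I : Ideal R) (M : Type u) [AddCommGroup M] [Module R M] : Prop :=
  ∀ i : ℕ, 0 < i → Subsingleton (_root_.LocCoh.H I i M)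

variable {I : Ideal R}

theorem acyc_equiv {M N : Type u} [AddCommGroup M] [Module R M] [AddCommGroup N] [Module R N]
    (e : M ≃ₗ[R] N) (h : Acyc I M) : Acyc I N := fun i hi => by
  haveI := h i hi
  exact (LocCoh.Hequiv I i e).toEquiv.symm.subsingleton

theorem acyc_prod {M N : Type u} [AddCommGroup M] [Module R M] [AddCommGroup N] [Module R N]
    (hM : Acyc I M) (hN : Acyc I N) : Acyc I (M × N) := fun i hi => by
  haveI := hM i hi
  haveI := hN i hi
  exact LocCoh.subsingleton_mid (f := LinearMap.inl R M N) (g := LinearMap.snd R M N)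
    LinearMap.inl_injective LinearMap.snd_surjective Function.Exact.inl_snd i

theorem gam_lift {M N P : Type u} [AddCommGroup M] [Module R M] [AddCommGroup N] [Module R N]
    [AddCommGroup P] [Module R P] {f : M →ₗ[R] N} {g : N →ₗ[R] P} (hf : Function.Injective f)
    (hg : Function.Surjective g) (hfg : Function.Exact f g) (h1 : Subsingleton (_root_.LocCoh.H I 1 M))
    {p : P} (hp : p ∈ GrLC.gam I P) : ∃ n ∈ GrLC.gam I N, g n = p := by
  let a := (LocCoh.H0Equiv I P).symm ⟨p, hp⟩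
  obtain ⟨b, hb⟩ := (LocCoh.Hmap_connecting_exact hf hg hfg 0 a).1 (@Subsingleton.elim _ h1 _ _)
  refine ⟨(LocCoh.H0Equiv I N b : N), (LocCoh.H0Equiv I N b).2, ?_⟩
  rw [← LocCoh.H0Equiv_natural g b, hb, LinearEquiv.apply_symm_apply]

section exact

variable {P : Type u} [AddCommGroup P] [Module R P] {C : ℕ → Type u} [∀ n, AddCommGroup (C n)]
  [∀ n, Module R (C n)] {ε : P →ₗ[R] C 0} {d : ∀ n, C n →ₗ[R] C (n + 1)}
  (hε : Function.Injective ε) (h0 : Function.Exact ε (d 0)) (hd : ∀ n, Function.Exact (d n) (d (n + 1)))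
include hε h0 hd

theorem acyc_ker (hP : Acyc I P) (hC : ∀ n, Acyc I (C n)) : ∀ n, Acyc I (LinearMap.ker (d n)) := by
  intro n
  induction n with
  | zero =>
    exact acyc_equiv ((LinearEquiv.ofInjective ε hε).trans
      (LinearEquiv.ofEq _ _ h0.linearMap_ker_eq.symm)) hP
  | succ n ih =>
    intro i hi
    haveI := hC n i hi
    haveI := ih (i + 1) (Nat.succ_pos i)
    exact LocCoh.subsingleton_right (f := (LinearMap.ker (d n)).subtype)
      (g := LinearMap.codRestrict (LinearMap.ker (d (n + 1))) (d n) fun x => (hd n).apply_apply_eq_zero x)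
      Subtype.coe_injective
      (fun z => by
        obtain ⟨x, hx⟩ := (hd n z.1).1 z.2
        exact ⟨x, Subtype.ext hx⟩)
      (fun x => ⟨fun hx => ⟨⟨x, congrArg Subtype.val hx⟩, rfl⟩, fun ⟨y, hy⟩ => hy ▸ Subtype.ext y.2⟩) i

/-- Torsion of an exact complex of acyclic modules is exact. -/
theorem exists_gam_preimage (hP : Acyc I P) (hC : ∀ n, Acyc I (C n)) (n : ℕ) {z : C (n + 1)}
    (hz : z ∈ GrLC.gam I (C (n + 1))) (hdz : d (n + 1) z = 0) : ∃ w ∈ GrLC.gam I (C n), d n w = z := by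
  obtain ⟨w, hw, hwz⟩ := gam_lift (f := (LinearMap.ker (d n)).subtype)
    (g := LinearMap.codRestrict (LinearMap.ker (d (n + 1))) (d n) fun x => (hd n).apply_apply_eq_zero x)
    Subtype.coe_injective
    (fun z => by
      obtain ⟨x, hx⟩ := (hd n z.1).1 z.2
      exact ⟨x, Subtype.ext hx⟩)
    (fun x => ⟨fun hx => ⟨⟨x, congrArg Subtype.val hx⟩, rfl⟩, fun ⟨y, hy⟩ => hy ▸ Subtype.ext y.2⟩)
    (acyc_ker hε h0 hd hP hC n 1 Nat.one_pos) (p := (⟨z, hdz⟩ : LinearMap.ker (d (n + 1))))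
    (by
      obtain ⟨k, hk⟩ := hz
      exact ⟨k, fun r hr => Subtype.ext (hk r hr)⟩)
  exact ⟨w, hw, congrArg Subtype.val hwz⟩

theorem exists_gam_preimage_zero {z : C 0} (hz : z ∈ GrLC.gam I (C 0)) (hdz : d 0 z = 0) :
    ∃ p ∈ GrLC.gam I P, ε p = z := by
  obtain ⟨p, hp⟩ := (h0 z).1 hdz
  obtain ⟨k, hk⟩ := hz
  exact ⟨p, ⟨k, fun r hr => hε (by rw [map_smul, hp, map_zero]; exact hk r hr)⟩, hp⟩

end exact

section compare

variable {P : Type u} [AddCommGroup P] [Module R P]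
  {L : ℕ → Type u} [∀ n, AddCommGroup (L n)] [∀ n, Module R (L n)]
  {εL : P →ₗ[R] L 0} {dL : ∀ n, L n →ₗ[R] L (n + 1)}
  (hεL : Function.Injective εL) (hL0 : Function.Exact εL (dL 0))
  (hLd : ∀ n, Function.Exact (dL n) (dL (n + 1))) (hLa : ∀ n, Acyc I (L n))
  {E : ℕ → Type u} [∀ n, AddCommGroup (E n)] [∀ n, Module R (E n)]
  {εE : P →ₗ[R] E 0} {dE : ∀ n, E n →ₗ[R] E (n + 1)}
  (hεE : Function.Injective εE) (hE0 : Function.Exact εE (dE 0))
  (hEd : ∀ n, Function.Exact (dE n) (dE (n + 1))) (hEa : ∀ n, Acyc I (E n))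
  {u : ∀ n, L n →ₗ[R] E n} (hu₀ : ∀ p, u 0 (εL p) = εE p) (hu : ∀ n x, u (n + 1) (dL n x) = dE n (u n x))
include hεL hL0 hLd hLa hεE hE0 hEd hEa hu₀ hu

/-- A chain map of acyclic resolutions is bijective on torsion cohomology. -/
theorem gam_compare :
    (∀ z, dL 0 z = 0 → u 0 z = 0 → z = 0) ∧
    (∀ n, ∀ z ∈ GrLC.gam I (L (n + 1)), dL (n + 1) z = 0 → ∀ w ∈ GrLC.gam I (E n), dE n w = u (n + 1) z →
      ∃ x ∈ GrLC.gam I (L n), dL n x = z) ∧
    (∀ e ∈ GrLC.gam I (E 0), dE 0 e = 0 → ∃ x ∈ GrLC.gam I (L 0), dL 0 x = 0 ∧ u 0 x = e) ∧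
    (∀ n, ∀ e ∈ GrLC.gam I (E (n + 1)), dE (n + 1) e = 0 →
      ∃ x ∈ GrLC.gam I (L (n + 1)), dL (n + 1) x = 0 ∧ ∃ y ∈ GrLC.gam I (E n), u (n + 1) x + dE n y = e) := by
  let εC : L 0 →ₗ[R] L 1 × E 0 := (dL 0).prod (u 0)
  let dC : ∀ n, L (n + 1) × E n →ₗ[R] L (n + 2) × E (n + 1) := fun n =>
    ((dL (n + 1)).comp (LinearMap.fst R _ _)).prod
      ((u (n + 1)).comp (LinearMap.fst R _ _) - (dE n).comp (LinearMap.snd R _ _))
  have hεC : Function.Injective εC := by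
    refine (injective_iff_map_eq_zero _).2 fun x hx => ?_
    obtain ⟨p, rfl⟩ := (hL0 x).1 (congrArg Prod.fst hx)
    have h2 : u 0 (εL p) = 0 := congrArg Prod.snd hx
    rw [hu₀] at h2
    rw [hεE (h2.trans (map_zero εE).symm), map_zero]
  have hC0 : Function.Exact εC (dC 0) := by
    rintro ⟨l, e⟩
    constructor
    · intro h
      have h1 : dL 1 l = 0 := congrArg Prod.fst h
      have h2 : u 1 l - dE 0 e = 0 := congrArg Prod.snd h
      obtain ⟨x, rfl⟩ := (hLd 0 l).1 h1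
      rw [hu, ← map_sub] at h2
      obtain ⟨p, hp⟩ := (hE0 _).1 h2
      refine ⟨x - εL p, Prod.ext ?_ ?_⟩
      · show dL 0 (x - εL p) = dL 0 x
        rw [map_sub, hL0.apply_apply_eq_zero, sub_zero]
      · show u 0 (x - εL p) = e
        rw [map_sub, hu₀, hp, sub_sub_cancel]
    · rintro ⟨x, hx⟩
      rw [← hx]
      refine Prod.ext ?_ ?_
      · exact (hLd 0).apply_apply_eq_zero x
      · show u 1 (dL 0 x) - dE 0 (u 0 x) = 0
        rw [hu, sub_self]
  have hCd : ∀ n, Function.Exact (dC n) (dC (n + 1)) := by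
    rintro n ⟨l, e⟩
    constructor
    · intro h
      have h1 : dL (n + 2) l = 0 := congrArg Prod.fst h
      have h2 : u (n + 2) l - dE (n + 1) e = 0 := congrArg Prod.snd h
      obtain ⟨x, rfl⟩ := (hLd (n + 1) l).1 h1
      rw [hu, ← map_sub] at h2
      obtain ⟨y, hy⟩ := (hEd n _).1 h2
      refine ⟨(x, y), Prod.ext rfl ?_⟩
      show u (n + 1) x - dE n y = e
      rw [hy, sub_sub_cancel]
    · rintro ⟨⟨x, y⟩, hx⟩
      rw [← hx]
      refine Prod.ext ?_ ?_
      · exact (hLd (n + 1)).apply_apply_eq_zero x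
      · show u (n + 2) (dL (n + 1) x) - dE (n + 1) (u (n + 1) x - dE n y) = 0
        rw [hu, map_sub, (hEd n).apply_apply_eq_zero, sub_zero, sub_self]
  have hCa : ∀ n, Acyc I (L (n + 1) × E n) := fun n => acyc_prod (hLa (n + 1)) (hEa n)
  have hpair : ∀ {n m : ℕ} {a : L n} {b : E m}, a ∈ GrLC.gam I (L n) → b ∈ GrLC.gam I (E m) →
      (a, b) ∈ GrLC.gam I (L n × E m) := by
    rintro n m a b ⟨i, hi⟩ ⟨j, hj⟩
    exact ⟨i + j, fun r hr => Prod.ext (hi r (Ideal.pow_le_pow_right (Nat.le_add_right i j) hr))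
      (hj r (Ideal.pow_le_pow_right (Nat.le_add_left j i) hr))⟩
  have hfst : ∀ {n m : ℕ} {p : L n × E m}, p ∈ GrLC.gam I (L n × E m) →
      p.1 ∈ GrLC.gam I (L n) ∧ p.2 ∈ GrLC.gam I (E m) := fun {n m p} ⟨i, hi⟩ =>
    ⟨⟨i, fun r hr => congrArg Prod.fst (hi r hr)⟩, ⟨i, fun r hr => congrArg Prod.snd (hi r hr)⟩⟩
  refine ⟨fun z h1 h2 => hεC ((Prod.ext h1 h2 : εC z = 0).trans (map_zero εC).symm),
    fun n z hz hdz w hw hwz => ?_, fun e he hde => ?_, fun n e he hde => ?_⟩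
  · have hd0 : dC n (z, w) = 0 := Prod.ext hdz (by show u (n + 1) z - dE n w = 0; rw [hwz, sub_self])
    cases n with
    | zero =>
      obtain ⟨x, hx, hxz⟩ := exists_gam_preimage_zero (C := fun n => L (n + 1) × E n) (d := dC) hεC hC0 hCd
        (hpair hz hw) hd0
      exact ⟨x, hx, congrArg Prod.fst hxz⟩
    | succ n =>
      obtain ⟨x, hx, hxz⟩ := exists_gam_preimage (C := fun n => L (n + 1) × E n) (d := dC) hεC hC0 hCd
        (hLa 0) hCa n (hpair hz hw) hd0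
      exact ⟨x.1, (hfst hx).1, congrArg Prod.fst hxz⟩
  · have hd0 : dC 0 ((0, e) : L 1 × E 0) = 0 := Prod.ext (map_zero (dL 1)) (by
      show u 1 0 - dE 0 e = 0
      rw [map_zero, hde, sub_zero])
    obtain ⟨x, hx, hxz⟩ := exists_gam_preimage_zero (C := fun n => L (n + 1) × E n) (d := dC) hεC hC0 hCd
      (hpair (zero_mem _) he) hd0
    exact ⟨x, hx, congrArg Prod.fst hxz, congrArg Prod.snd hxz⟩
  · have hd0 : dC (n + 1) ((0, e) : L (n + 2) × E (n + 1)) = 0 := Prod.ext (map_zero (dL (n + 2))) (by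
      show u (n + 2) 0 - dE (n + 1) e = 0
      rw [map_zero, hde, sub_zero])
    obtain ⟨x, hx, hxz⟩ := exists_gam_preimage (C := fun n => L (n + 1) × E n) (d := dC) hεC hC0 hCd
      (hLa 0) hCa n (hpair (zero_mem _) he) hd0
    refine ⟨x.1, (hfst hx).1, congrArg Prod.fst hxz, -x.2, neg_mem (hfst hx).2, ?_⟩
    rw [map_neg, ← sub_eq_add_neg]
    exact congrArg Prod.snd hxz

end compare

end Groth.Agent.SegreLC
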