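import Mathlib
import Groth.Prelude.Def_GrLC
import Groth.Agent.GrLib.Hull
import Groth.Agent.GrLib.StarInj

/-! Torsion in *injective modules over a positively graded algebra. -/

set_option autoImplicit false
set_option linter.unusedSectionVars false
universe u

open DirectSum

namespace Groth.Agent.SegreLC

variable {R : Type u} [CommRing R] {σ : Type u} [SetLike σ R] [AddSubgroupClass σ R] {𝒜 : ℤ → σ} [GradedRing 𝒜]

section high

variable {mR : HomogeneousIdeal 𝒜} (hmR : mR.toIdeal = Ideal.span (⋃ n ∈ Set.Ioi (0 : ℤ), (𝒜 n : Set R)))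
  [IsNoetherianRing R]
include hmR

theorem high_le_pow (N : ℕ) : ∃ C : ℕ, ∀ c : ℤ, (C : ℤ) ≤ c → ∀ r ∈ 𝒜 c, r ∈ mR.toIdeal ^ N := by
  classical
  obtain ⟨G, hG, hGs⟩ : ∃ G : Finset R, ((G : Set R) ⊆ ⋃ n ∈ Set.Ioi (0 : ℤ), (𝒜 n : Set R)) ∧
      Ideal.span (G : Set R) = mR.toIdeal := by
    have hfg : (Submodule.span R (⋃ n ∈ Set.Ioi (0 : ℤ), (𝒜 n : Set R))).FG := IsNoetherian.noetherian _
    obtain ⟨G, hG, hGs⟩ := Submodule.fg_span_iff_fg_span_finset_subset _ |>.1 hfg
    exact ⟨G, hG, hmR ▸ hGs.symm⟩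
  have hdeg : ∀ g ∈ G, ∃ d : ℤ, 0 < d ∧ g ∈ 𝒜 d := fun g hg => by
    have h := hG hg
    simp only [Set.mem_iUnion, Set.mem_Ioi] at h
    obtain ⟨d, hd, hgd⟩ := h
    exact ⟨d, hd, hgd⟩
  choose deg hdeg0 hdegm using hdeg
  let D : ℕ := ∑ g ∈ G.attach, (deg g.1 g.2).toNat
  have hD : ∀ g (hg : g ∈ G), deg g hg ≤ D := fun g hg =>
    (Int.self_le_toNat _).trans (Int.ofNat_le.2
      (Finset.single_le_sum (f := fun g : G => (deg g.1 g.2).toNat) (fun _ _ => Nat.zero_le _)
        (Finset.mem_attach G ⟨g, hg⟩)))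
  induction N with
  | zero => exact ⟨0, fun c _ r _ => by simp⟩
  | succ N ih =>
    obtain ⟨C, hC⟩ := ih
    refine ⟨C + D + 1, fun c hc r hr => ?_⟩
    have hrm : r ∈ Submodule.span R (G : Set R) := by
      show r ∈ Ideal.span (G : Set R)
      rw [hGs, hmR]
      exact Ideal.subset_span (Set.mem_iUnion₂.mpr ⟨c, Set.mem_Ioi.mpr (by omega), hr⟩)
    have key : ∀ x ∈ Submodule.span R (G : Set R), ∀ a : R,
        GrLib.proj 𝒜 c (a * x) ∈ mR.toIdeal ^ (N + 1) := by
      intro x hx
      induction hx using Submodule.span_induction with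
      | mem x hx =>
        intro a
        rw [mul_comm, ← smul_eq_mul, GrLib.proj_smul' (hdegm x hx), smul_eq_mul, pow_succ']
        refine Ideal.mul_mem_mul ?_ (hC _ ?_ _ (GrLib.proj_mem 𝒜 _ a))
        · rw [← hGs]; exact Ideal.subset_span hx
        · have := hD x hx
          omega
      | zero => intro a; rw [mul_zero, map_zero]; exact zero_mem _
      | add x y _ _ hx hy => intro a; rw [mul_add, map_add]; exact add_mem (hx a) (hy a)
      | smul s x _ hx => intro a; rw [smul_eq_mul, ← mul_assoc]; exact hx (a * s)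
    have := key r hrm 1
    rwa [one_mul, GrLib.proj_of_mem hr] at this

theorem high_kill {M : Type u} [AddCommGroup M] [Module R M] {x : M} (hx : x ∈ GrLC.gam mR.toIdeal M) :
    ∃ C : ℕ, ∀ c : ℤ, (C : ℤ) ≤ c → ∀ r ∈ 𝒜 c, r • x = 0 := by
  obtain ⟨N, hN⟩ := hx
  obtain ⟨C, hC⟩ := high_le_pow hmR N
  exact ⟨C, fun c hc r hr => hN r (hC c hc r hr)⟩

end high

section pi

variable {ι : Type} [Fintype ι] (X : ι → GrLC.GMod.{u} 𝒜)

/-- The pieces of a finite product. -/
def piGr (n : ℤ) : AddSubgroup (∀ i, (X i).carrier) where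
  carrier := {x | ∀ i, x i ∈ (X i).gr n}
  add_mem' ha hb i := add_mem (ha i) (hb i)
  zero_mem' i := zero_mem _
  neg_mem' ha i := neg_mem (ha i)

/-- A finite product of graded modules. -/
noncomputable def piGMod : GrLC.GMod.{u} 𝒜 where
  carrier := ∀ i, (X i).carrier
  gr := piGr X
  dec := GrLib.decompositionOfProj (piGr X)
    (fun n => AddMonoidHom.mk' (fun x i => GrLib.proj (X i).gr n (x i)) fun x y => funext fun i => map_add _ _ _)
    (fun n x hx => funext fun i => GrLib.proj_of_mem (hx i))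
    (fun n m hne x hx => funext fun i => GrLib.proj_of_mem_ne (hx i) hne)
    (eq_top_iff.2 fun x _ => by
      classical
      rw [← Finset.univ_sum_single x]
      refine sum_mem fun i _ => ?_
      generalize x i = v
      refine GrLib.induction (X i).gr (motive := fun v => Pi.single i v ∈ ⨆ n, piGr X n) ?_ ?_ ?_ v
      · rw [Pi.single_zero]; exact zero_mem _
      · intro g y hy
        refine AddSubgroup.mem_iSup_of_mem g fun j => ?_
        rcases eq_or_ne j i with rfl | hji
        · rw [Pi.single_eq_same]; exact hy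
        · rw [Pi.single_eq_of_ne hji]; exact zero_mem _
      · intro a b ha hb; rw [Pi.single_add]; exact add_mem ha hb)
  gsmul := ⟨fun {_ _ _ _} hr hx i => SetLike.GradedSMul.smul_mem hr (hx i)⟩

end pi

section split

variable [IsNoetherianRing R] {mR : HomogeneousIdeal 𝒜}
  (hmR : mR.toIdeal = Ideal.span (⋃ n ∈ Set.Ioi (0 : ℤ), (𝒜 n : Set R)))
include hmR

/-- A *injective module is torsion plus pieces on which some parameter acts bijectively. -/
theorem exists_split (X : GrLC.GMod.{u} 𝒜) (hX : GrLC.IsStarInj 𝒜 X.gr) {l : ℕ} (f : Fin l → R)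
    (D : Fin l → ℤ) (hf : ∀ i, f i ∈ 𝒜 (D i)) (hrad : mR.toIdeal ≤ (Ideal.span (Set.range f)).radical) :
    ∃ (a : X.carrier →ₗ[R] X.carrier) (B : Fin l → GrLC.GMod.{u} 𝒜) (p : ∀ i, X.carrier →ₗ[R] (B i).carrier)
      (s : ∀ i, (B i).carrier →ₗ[R] X.carrier),
      GrLC.IsGrHom X.gr X.gr a ∧ (∀ x, a x ∈ GrLC.gam mR.toIdeal X.carrier) ∧
      (∀ i, GrLC.IsGrHom X.gr (B i).gr (p i)) ∧ (∀ i, GrLC.IsGrHom (B i).gr X.gr (s i)) ∧
      (∀ i, Function.Bijective fun b : (B i).carrier => f i • b) ∧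
      ∀ x, a x + ∑ i, s i (p i x) = x := by
  classical
  have hΓ : (GrLC.gam mR.toIdeal X.carrier).IsHomogeneous X.gr :=
    GrLib.isHomogeneous_gam (𝒜 := 𝒜) (ℳ := X.gr) mR.isHomogeneous
  obtain ⟨H, hH, r, hΓH, hess, hr, hrH, hfix, -⟩ := GrLib.exists_hull_inside (𝒜 := 𝒜) hX hΓ
  -- the hull is torsion
  have hHtors : ∀ g, ∀ y ∈ X.gr g, y ∈ H → y ∈ GrLC.gam mR.toIdeal X.carrier := by
    intro g y hy hyH
    suffices hle : mR.toIdeal ≤ ((Submodule.span R {y}).annihilator).radical by
      obtain ⟨N, hN⟩ := Ideal.exists_pow_le_of_le_radical_of_fg hle (IsNoetherian.noetherian _)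
      exact ⟨N, fun t ht => (Submodule.mem_annihilator_span_singleton _ _).1 (hN ht)⟩
    rw [hmR, Ideal.span_le]
    intro t ht
    simp only [Set.mem_iUnion, Set.mem_Ioi] at ht
    obtain ⟨c, hc, htc⟩ := ht
    let ch : ℕ →o Submodule R R := ⟨fun k => (Submodule.span R {t ^ k • y}).annihilator,
      monotone_nat_of_le_succ fun k s hs => by
        rw [Submodule.mem_annihilator_span_singleton] at hs ⊢
        rw [pow_succ', mul_smul, smul_comm, hs, smul_zero]⟩
    obtain ⟨k, hk⟩ := (monotone_stabilizes_iff_noetherian.2 (inferInstance : IsNoetherianRing R)) ch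
    refine ⟨k, ?_⟩
    rw [Submodule.mem_annihilator_span_singleton]
    by_contra h0
    obtain ⟨b, s, hs, hs0, hsQ⟩ := hess _ (t ^ k • y)
      (GrLib.smul_mem (SetLike.pow_mem_graded k htc) hy) (H.smul_mem _ hyH) h0
    obtain ⟨l', hl'⟩ := hsQ
    have htm : t ∈ mR.toIdeal := by
      rw [hmR]; exact Ideal.subset_span (Set.mem_iUnion₂.mpr ⟨c, Set.mem_Ioi.mpr hc, htc⟩)
    have h1 : s ∈ ch (k + l') := by
      show s ∈ (Submodule.span R {t ^ (k + l') • y}).annihilator
      rw [Submodule.mem_annihilator_span_singleton, add_comm k l', pow_add, mul_smul, smul_comm]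
      exact hl' _ (Ideal.pow_mem_pow htm l')
    rw [← hk (k + l') (Nat.le_add_right k l')] at h1
    exact hs0 ((Submodule.mem_annihilator_span_singleton _ _).1 h1)
  have hrΓ : ∀ x, r x ∈ GrLC.gam mR.toIdeal X.carrier := fun x => by
    refine GrLib.mem_of_proj_mem (ℳ := X.gr) (p := GrLC.gam mR.toIdeal X.carrier) fun g => ?_
    exact hHtors g _ (GrLib.proj_mem X.gr g _) (hH g (hrH ⟨x, rfl⟩))
  -- the localised pieces
  have hI : ∀ i, (Ideal.span {f i} : Ideal R).IsHomogeneous 𝒜 := fun i =>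
    Ideal.homogeneous_span 𝒜 _ fun a ha => ⟨D i, (Set.mem_singleton_iff.1 ha) ▸ hf i⟩
  have hK : ∀ i, (GrLC.gam (Ideal.span {f i}) X.carrier).IsHomogeneous X.gr := fun i =>
    GrLib.isHomogeneous_gam (𝒜 := 𝒜) (ℳ := X.gr) (hI i)
  let B : Fin l → GrLC.GMod.{u} 𝒜 := fun i =>
    { carrier := X.carrier ⧸ GrLC.gam (Ideal.span {f i}) X.carrier
      gr := GrLib.qGr X.gr (GrLC.gam (Ideal.span {f i}) X.carrier)
      dec := GrLib.qDecomp X.gr (hK i) }
  let p : ∀ i, X.carrier →ₗ[R] (B i).carrier := fun i => (GrLC.gam (Ideal.span {f i}) X.carrier).mkQ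
  have hp : ∀ i, GrLC.IsGrHom X.gr (B i).gr (p i) := fun i g x hx => GrLib.mk_mem_qGr hx
  let π : X.carrier →ₗ[R] (piGMod B).carrier := LinearMap.pi p
  have hπ : GrLC.IsGrHom X.gr (piGMod B).gr π := fun g x hx i => hp i g x hx
  have hker : LinearMap.ker π ≤ LinearMap.ker (LinearMap.id - r) := by
    intro x hx
    rw [LinearMap.mem_ker, LinearMap.sub_apply, LinearMap.id_apply, sub_eq_zero, eq_comm]
    refine hfix x (hΓH ?_)
    have hx' : ∀ i, x ∈ GrLC.gam (Ideal.span {f i}) X.carrier := fun i =>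
      (Submodule.Quotient.mk_eq_zero _).1 (congrFun hx i)
    have hle : mR.toIdeal ≤ ((Submodule.span R {x}).annihilator).radical := by
      refine hrad.trans (Ideal.radical_le_radical_iff.2 (Ideal.span_le.2 ?_))
      rintro _ ⟨i, rfl⟩
      obtain ⟨n, hn⟩ := hx' i
      exact ⟨n, (Submodule.mem_annihilator_span_singleton _ _).2
        (hn _ (Ideal.pow_mem_pow (Ideal.mem_span_singleton_self _) n))⟩
    obtain ⟨N, hN⟩ := Ideal.exists_pow_le_of_le_radical_of_fg hle (IsNoetherian.noetherian _)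
    exact ⟨N, fun t ht => (Submodule.mem_annihilator_span_singleton _ _).1 (hN ht)⟩
  have hc : GrLC.IsGrHom X.gr X.gr (LinearMap.id - r : X.carrier →ₗ[R] X.carrier) := fun g x hx =>
    sub_mem hx (hr g x hx)
  obtain ⟨h, hh, he⟩ := GrLib.exists_factor hX (f := π) hπ hc hker
  let s : ∀ i, (B i).carrier →ₗ[R] X.carrier := fun i => h ∘ₗ LinearMap.single R (fun j => (B j).carrier) i
  refine ⟨r, B, p, s, hr, hrΓ, hp, fun i g b hb => hh g _ fun j => ?_, fun i => ⟨?_, ?_⟩, fun x => ?_⟩
  · show (Pi.single i b : ∀ j, (B j).carrier) j ∈ (B j).gr g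
    rcases eq_or_ne j i with rfl | hji
    · rw [Pi.single_eq_same]; exact hb
    · rw [Pi.single_eq_of_ne hji]; exact zero_mem _
  · intro b b' hbb
    obtain ⟨x, rfl⟩ := Submodule.Quotient.mk_surjective _ b
    obtain ⟨y, rfl⟩ := Submodule.Quotient.mk_surjective _ b'
    replace hbb : (Submodule.Quotient.mk (f i • x) : X.carrier ⧸ GrLC.gam (Ideal.span {f i}) X.carrier) =
        Submodule.Quotient.mk (f i • y) := hbb
    rw [Submodule.Quotient.eq, ← smul_sub] at hbb
    refine (Submodule.Quotient.eq _).2 ?_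
    obtain ⟨n, hn⟩ := hbb
    refine ⟨n + 1, fun t ht => ?_⟩
    rw [pow_succ, Ideal.span_singleton_pow, Ideal.span_singleton_mul_span_singleton,
      Ideal.mem_span_singleton'] at ht
    obtain ⟨t, rfl⟩ := ht
    rw [← mul_assoc, mul_smul]
    exact hn _ (Ideal.mul_mem_left _ _ (Ideal.pow_mem_pow (Ideal.mem_span_singleton_self _) n))
  · intro b
    obtain ⟨x, rfl⟩ := Submodule.Quotient.mk_surjective _ b
    induction x using GrLib.induction X.gr with
    | zero => exact ⟨0, smul_zero _⟩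
    | add a b ha hb =>
      obtain ⟨a', ha'⟩ := ha
      obtain ⟨b', hb'⟩ := hb
      exact ⟨a' + b', by
        show f i • (a' + b') = _
        rw [smul_add, Submodule.Quotient.mk_add]
        exact congrArg₂ (· + ·) ha' hb'⟩
    | hom g x hx =>
      let ch : ℕ →o Submodule R R := ⟨fun k => (Submodule.span R {f i ^ k}).annihilator,
        monotone_nat_of_le_succ fun k s hs => by
          rw [Submodule.mem_annihilator_span_singleton, smul_eq_mul] at hs ⊢
          rw [pow_succ, ← mul_assoc, hs, zero_mul]⟩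
      obtain ⟨k, hk⟩ := (monotone_stabilizes_iff_noetherian.2 (inferInstance : IsNoetherianRing R)) ch
      have hpow : f i ^ (k + 1) ∈ 𝒜 (((k + 1 : ℕ)) • D i) := SetLike.pow_mem_graded _ (hf i)
      letI := GrLib.shiftDecomp 𝒜 (-(((k + 1 : ℕ)) • D i))
      obtain ⟨q, hq, hqe⟩ := GrLib.exists_factor_deg (ℳ := GrLib.shiftGr 𝒜 (-(((k + 1 : ℕ)) • D i))) (𝒩 := 𝒜) hX
        (f := LinearMap.toSpanSingleton R R (f i ^ (k + 1)))
        (fun m t ht => by
          rw [GrLib.mem_shiftGr] at ht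
          rw [LinearMap.toSpanSingleton_apply, smul_eq_mul]
          have := SetLike.mul_mem_graded ht hpow
          rwa [neg_add_cancel_right] at this)
        (g := LinearMap.toSpanSingleton R X.carrier (f i ^ k • x))
        (d := g - D i)
        (fun m t ht => by
          rw [GrLib.mem_shiftGr] at ht
          rw [LinearMap.toSpanSingleton_apply]
          have h1 := GrLib.smul_mem (𝒜 := 𝒜) (ℳ := X.gr) ht
            (GrLib.smul_mem (𝒜 := 𝒜) (ℳ := X.gr) (SetLike.pow_mem_graded k (hf i)) hx)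
          rw [show m + (g - D i) = m + -((k + 1) • D i) + (k • D i + g) by rw [succ_nsmul]; abel]
          exact h1)
        (fun t ht => by
          rw [LinearMap.mem_ker, LinearMap.toSpanSingleton_apply] at ht ⊢
          have h1 : t ∈ ch (k + 1) := (Submodule.mem_annihilator_span_singleton _ _).2 ht
          rw [← hk (k + 1) (Nat.le_succ k)] at h1
          have h2 := (Submodule.mem_annihilator_span_singleton _ _).1 h1
          rw [smul_eq_mul] at h2
          rw [← mul_smul, h2, zero_smul])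
      refine ⟨Submodule.Quotient.mk (q 1), (Submodule.Quotient.eq _).2 ⟨k, fun t ht => ?_⟩⟩
      rw [Ideal.span_singleton_pow, Ideal.mem_span_singleton'] at ht
      obtain ⟨t, rfl⟩ := ht
      have h3 : q (f i ^ (k + 1)) = f i ^ k • x := by
        simpa using LinearMap.congr_fun hqe (1 : R)
      rw [smul_sub, sub_eq_zero, mul_smul, mul_smul, ← mul_smul (f i ^ k), ← pow_succ, ← map_smul, smul_eq_mul,
        mul_one, h3]
  · show r x + ∑ i, h (Pi.single i (p i x)) = x
    have hsum : (∑ i, h (Pi.single i (p i x))) = h (π x) := by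
      rw [← map_sum]; exact congrArg h (Finset.univ_sum_single _)
    rw [hsum, show h (π x) = (LinearMap.id - r : X.carrier →ₗ[R] X.carrier) x from LinearMap.congr_fun he x,
      LinearMap.sub_apply, LinearMap.id_apply, add_sub_cancel]

end split

end Groth.Agent.SegreLC
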