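import Mathlib
import Groth.Prelude.Def_GrSeg
import Groth.Agent.SegreDim.Diag
import Groth.Agent.SegreOne.Pieces
import Groth.Agent.SegreLC.Torsion
import Groth.Agent.SegreLC.Acyclic
import Groth.Agent.LocCoh.Injectives

/-! The Segre product of graded modules and its torsion. -/

set_option autoImplicit false
set_option linter.unusedSectionVars false
universe u

open DirectSum TensorProduct

namespace Groth.Agent.SegreLC

variable {k : Type u} [Field k] {R : Type u} [CommRing R] [Algebra k R] {𝒜 : ℤ → Submodule k R} [GradedAlgebra 𝒜]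

/-- The scalars of a bundled graded module over a graded algebra. -/
noncomputable instance gmodModule (X : GrLC.GMod.{u} 𝒜) : Module k X.carrier :=
  Module.compHom X.carrier (algebraMap k R)

instance gmodTower (X : GrLC.GMod.{u} 𝒜) : IsScalarTower k R X.carrier :=
  IsScalarTower.of_algebraMap_smul fun _ _ => rfl

variable {S : Type u} [CommRing S] [Algebra k S] {ℬ : ℤ → Submodule k S} [GradedAlgebra ℬ]
  {T : Type u} [CommRing T] [Algebra k T] {𝒯 : ℤ → Submodule k T} [GradedAlgebra 𝒯]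
  {ψ : T →ₐ[k] R ⊗[k] S} (hdegT : ∀ n : ℤ, (𝒯 n).map ψ.toLinearMap = GrSeg.segrePiece k 𝒜 ℬ n)

/-- The span of all pieces of the Segre product. -/
noncomputable def segSub (X : GrLC.GMod.{u} 𝒜) (Y : GrLC.GMod.{u} ℬ) : Submodule k (X.carrier ⊗[k] Y.carrier) :=
  ⨆ n : ℤ, GrSeg.segrePiece k X.gr Y.gr n

theorem piece_le_segSub (X : GrLC.GMod.{u} 𝒜) (Y : GrLC.GMod.{u} ℬ) (n : ℤ) :
    GrSeg.segrePiece k X.gr Y.gr n ≤ segSub X Y := le_iSup (fun n => GrSeg.segrePiece k X.gr Y.gr n) n

include hdegT in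
theorem act_mem_segSub {X : GrLC.GMod.{u} 𝒜} {Y : GrLC.GMod.{u} ℬ} (t : T) {w : X.carrier ⊗[k] Y.carrier}
    (hw : w ∈ segSub X Y) : GrSeg.act k R S X.carrier Y.carrier (ψ t) w ∈ segSub X Y := by
  induction t using GrLib.induction 𝒯 with
  | zero => simp
  | add a b ha hb => rw [map_add, map_add, LinearMap.add_apply]; exact add_mem ha hb
  | hom c t ht =>
    have hψ : ψ t ∈ GrSeg.segrePiece k 𝒜 ℬ c := by rw [← hdegT]; exact ⟨t, ht, rfl⟩
    refine Submodule.iSup_induction _
      (motive := fun w => GrSeg.act k R S X.carrier Y.carrier (ψ t) w ∈ segSub X Y) hw ?_ ?_ ?_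
    · intro n x hx
      exact piece_le_segSub X Y _ (SegreOne.act_mem_piece' 𝒜 ℬ X.gr Y.gr hψ hx)
    · rw [map_zero]; exact zero_mem _
    · intro x y hx hy; rw [map_add]; exact add_mem hx hy

/-- The action of the Segre ring. -/
noncomputable def segModule (X : GrLC.GMod.{u} 𝒜) (Y : GrLC.GMod.{u} ℬ) : Module T ↥(segSub X Y) where
  smul t w := ⟨GrSeg.act k R S X.carrier Y.carrier (ψ t) w.1, act_mem_segSub hdegT t w.2⟩
  one_smul w := Subtype.ext (show GrSeg.act k R S X.carrier Y.carrier (ψ 1) w.1 = w.1 by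
    rw [map_one, SegreDim.act_one])
  mul_smul t t' w := Subtype.ext (show GrSeg.act k R S X.carrier Y.carrier (ψ (t * t')) w.1 =
      GrSeg.act k R S X.carrier Y.carrier (ψ t) (GrSeg.act k R S X.carrier Y.carrier (ψ t') w.1) by
    rw [map_mul, SegreDim.act_mul])
  smul_zero t := Subtype.ext (map_zero (GrSeg.act k R S X.carrier Y.carrier (ψ t)))
  smul_add t a b := Subtype.ext (map_add (GrSeg.act k R S X.carrier Y.carrier (ψ t)) a.1 b.1)
  add_smul t t' w := Subtype.ext (show GrSeg.act k R S X.carrier Y.carrier (ψ (t + t')) w.1 =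
      GrSeg.act k R S X.carrier Y.carrier (ψ t) w.1 + GrSeg.act k R S X.carrier Y.carrier (ψ t') w.1 by
    rw [map_add, map_add, LinearMap.add_apply])
  zero_smul w := Subtype.ext (show GrSeg.act k R S X.carrier Y.carrier (ψ 0) w.1 = 0 by
    rw [map_zero, map_zero, LinearMap.zero_apply])

variable (X : GrLC.GMod.{u} 𝒜) (Y : GrLC.GMod.{u} ℬ)

/-- The projection onto a diagonal piece. -/
noncomputable def segProjAux (n : ℤ) : X.carrier ⊗[k] Y.carrier →ₗ[k] X.carrier ⊗[k] Y.carrier :=
  TensorProduct.map (SegreDim.pieceProj 𝒜 X.gr n) (SegreDim.pieceProj ℬ Y.gr n)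

theorem segProjAux_mem (n : ℤ) (w : X.carrier ⊗[k] Y.carrier) :
    segProjAux X Y n w ∈ GrSeg.segrePiece k X.gr Y.gr n := by
  induction w using TensorProduct.induction_on with
  | zero => simp
  | add p q hp hq => rw [map_add]; exact add_mem hp hq
  | tmul a b => exact Submodule.subset_span ⟨_, (decompose X.gr a n).2, _, (decompose Y.gr b n).2, rfl⟩

theorem segProjAux_of_mem {n m : ℤ} {w : X.carrier ⊗[k] Y.carrier} (hw : w ∈ GrSeg.segrePiece k X.gr Y.gr m) :
    segProjAux X Y n w = if m = n then w else 0 := by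
  induction hw using Submodule.span_induction with
  | mem w hw =>
    obtain ⟨a, ha, b, hb, rfl⟩ := hw
    show TensorProduct.map _ _ (a ⊗ₜ[k] b) = _
    rw [TensorProduct.map_tmul, SegreDim.pieceProj_apply, SegreDim.pieceProj_apply]
    split_ifs with h
    · subst h; rw [decompose_of_mem_same X.gr ha, decompose_of_mem_same Y.gr hb]
    · rw [decompose_of_mem_ne X.gr ha h, TensorProduct.zero_tmul]
  | zero => simp
  | add p q _ _ hp hq => rw [map_add, hp, hq]; split_ifs <;> simp
  | smul c p _ hp => rw [map_smul, hp]; split_ifs <;> simp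

/-- The pieces of the Segre product. -/
noncomputable def segGr (n : ℤ) : AddSubgroup ↥(segSub X Y) where
  carrier := {w | w.1 ∈ GrSeg.segrePiece k X.gr Y.gr n}
  add_mem' {a b} ha hb := (GrSeg.segrePiece k X.gr Y.gr n).add_mem ha hb
  zero_mem' := (GrSeg.segrePiece k X.gr Y.gr n).zero_mem
  neg_mem' {a} ha := (GrSeg.segrePiece k X.gr Y.gr n).neg_mem ha

/-- The decomposition of the Segre product. -/
noncomputable abbrev segDecomp : Decomposition (segGr X Y) :=
  GrLib.decompositionOfProj (segGr X Y)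
    (fun n => AddMonoidHom.mk' (fun w => (⟨segProjAux X Y n w.1, piece_le_segSub X Y n (segProjAux_mem X Y n w.1)⟩ :
      ↥(segSub X Y))) fun a b => Subtype.ext (map_add (segProjAux X Y n) a.1 b.1))
    (fun n w hw => Subtype.ext (by
      show segProjAux X Y n w.1 = w.1
      rw [segProjAux_of_mem X Y hw, if_pos rfl]))
    (fun n m hne w hw => Subtype.ext (by
      show segProjAux X Y n w.1 = 0
      rw [segProjAux_of_mem X Y hw, if_neg hne]))
    (eq_top_iff.2 fun w _ => by
      obtain ⟨w, hw⟩ := w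
      refine Submodule.iSup_induction' (fun n : ℤ => GrSeg.segrePiece k X.gr Y.gr n)
        (motive := fun w hw => (⟨w, hw⟩ : ↥(segSub X Y)) ∈ ⨆ n, segGr X Y n) ?_ ?_ ?_ hw
      · intro n x hx
        exact AddSubgroup.mem_iSup_of_mem n hx
      · exact zero_mem _
      · intro x y hx hy h1 h2
        exact add_mem h1 h2)

/-- The Segre product of graded modules. -/
noncomputable def seg : GrLC.GMod.{u} 𝒯 :=
  letI := segModule hdegT X Y
  { carrier := ↥(segSub X Y)
    gr := segGr X Y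
    dec := segDecomp X Y
    gsmul := ⟨fun {a n t w} ht hw => by
      show GrSeg.act k R S X.carrier Y.carrier (ψ t) w.1 ∈ GrSeg.segrePiece k X.gr Y.gr (a + n)
      refine SegreOne.act_mem_piece' 𝒜 ℬ X.gr Y.gr ?_ hw
      rw [← hdegT]; exact ⟨t, ht, rfl⟩⟩ }

/-- The inclusion of the Segre product. -/
noncomputable def segInc : (seg hdegT X Y).carrier →ₗ[k] X.carrier ⊗[k] Y.carrier where
  toFun w := w.1
  map_add' _ _ := rfl
  map_smul' c w := by
    show GrSeg.act k R S X.carrier Y.carrier (ψ (algebraMap k T c)) w.1 = c • w.1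
    rw [AlgHom.commutes, Algebra.algebraMap_eq_smul_one, map_smul, LinearMap.smul_apply, SegreDim.act_one]

theorem segInc_injective : Function.Injective (segInc hdegT X Y) := fun _ _ h => Subtype.ext h

theorem segInc_smul (t : T) (w : (seg hdegT X Y).carrier) :
    segInc hdegT X Y (t • w) = GrSeg.act k R S X.carrier Y.carrier (ψ t) (segInc hdegT X Y w) := rfl

theorem segInc_mem (w : (seg hdegT X Y).carrier) : segInc hdegT X Y w ∈ segSub X Y :=
  (show ↥(segSub X Y) from w).2

theorem mem_seg_gr {n : ℤ} {w : (seg hdegT X Y).carrier} :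
    w ∈ (seg hdegT X Y).gr n ↔ segInc hdegT X Y w ∈ GrSeg.segrePiece k X.gr Y.gr n := Iff.rfl

theorem exists_seg {w : X.carrier ⊗[k] Y.carrier} (hw : w ∈ segSub X Y) :
    ∃ v : (seg hdegT X Y).carrier, segInc hdegT X Y v = w := ⟨(⟨w, hw⟩ : ↥(segSub X Y)), rfl⟩

theorem isSegreMod_seg : GrSeg.IsSegreMod ψ X.gr Y.gr (seg hdegT X Y).gr (segInc hdegT X Y) where
  injective := segInc_injective hdegT X Y
  image_piece n := Set.ext fun w => ⟨fun ⟨v, hv, hvw⟩ => hvw ▸ hv,
    fun hw => by
      obtain ⟨v, rfl⟩ := exists_seg hdegT X Y (piece_le_segSub X Y n hw)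
      exact ⟨v, hw, rfl⟩⟩
  map_smul := segInc_smul hdegT X Y

section functor

variable {X Y} {X' : GrLC.GMod.{u} 𝒜} {Y' : GrLC.GMod.{u} ℬ}

theorem map_mem_piece {f : X.carrier →ₗ[R] X'.carrier} (hf : GrLC.IsGrHom X.gr X'.gr f)
    {g : Y.carrier →ₗ[S] Y'.carrier} (hg : GrLC.IsGrHom Y.gr Y'.gr g) {n : ℤ} {w : X.carrier ⊗[k] Y.carrier}
    (hw : w ∈ GrSeg.segrePiece k X.gr Y.gr n) :
    TensorProduct.map (f.restrictScalars k) (g.restrictScalars k) w ∈ GrSeg.segrePiece k X'.gr Y'.gr n := by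
  induction hw using Submodule.span_induction with
  | mem w hw =>
    obtain ⟨a, ha, b, hb, rfl⟩ := hw
    exact Submodule.subset_span ⟨f a, hf n a ha, g b, hg n b hb, rfl⟩
  | zero => simp
  | add p q _ _ hp hq => rw [map_add]; exact add_mem hp hq
  | smul c p _ hp => rw [map_smul]; exact Submodule.smul_mem _ c hp

theorem map_mem_segSub {f : X.carrier →ₗ[R] X'.carrier} (hf : GrLC.IsGrHom X.gr X'.gr f)
    {g : Y.carrier →ₗ[S] Y'.carrier} (hg : GrLC.IsGrHom Y.gr Y'.gr g) {w : X.carrier ⊗[k] Y.carrier}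
    (hw : w ∈ segSub X Y) :
    TensorProduct.map (f.restrictScalars k) (g.restrictScalars k) w ∈ segSub X' Y' := by
  refine Submodule.iSup_induction _
    (motive := fun w => TensorProduct.map (f.restrictScalars k) (g.restrictScalars k) w ∈ segSub X' Y') hw ?_ ?_ ?_
  · intro n x hx; exact piece_le_segSub X' Y' n (map_mem_piece hf hg hx)
  · rw [map_zero]; exact zero_mem _
  · intro x y hx hy; rw [map_add]; exact add_mem hx hy

theorem map_act {f : X.carrier →ₗ[R] X'.carrier} {g : Y.carrier →ₗ[S] Y'.carrier} (z : R ⊗[k] S)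
    (w : X.carrier ⊗[k] Y.carrier) :
    TensorProduct.map (f.restrictScalars k) (g.restrictScalars k) (GrSeg.act k R S X.carrier Y.carrier z w) =
      GrSeg.act k R S X'.carrier Y'.carrier z (TensorProduct.map (f.restrictScalars k) (g.restrictScalars k) w) := by
  induction z using TensorProduct.induction_on with
  | zero => simp
  | add p q hp hq => simp [hp, hq]
  | tmul r s =>
    induction w using TensorProduct.induction_on with
    | zero => simp
    | add p q hp hq => simp [hp, hq]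
    | tmul a b =>
      rw [GrSeg.act_tmul, TensorProduct.map_tmul, TensorProduct.map_tmul, GrSeg.act_tmul]
      simp

/-- The Segre product of two maps. -/
noncomputable def segMap (f : X.carrier →ₗ[R] X'.carrier) (hf : GrLC.IsGrHom X.gr X'.gr f)
    (g : Y.carrier →ₗ[S] Y'.carrier) (hg : GrLC.IsGrHom Y.gr Y'.gr g) :
    (seg hdegT X Y).carrier →ₗ[T] (seg hdegT X' Y').carrier where
  toFun w := (⟨TensorProduct.map (f.restrictScalars k) (g.restrictScalars k) (segInc hdegT X Y w),
    map_mem_segSub hf hg (segInc_mem hdegT X Y w)⟩ : ↥(segSub X' Y'))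
  map_add' v w := Subtype.ext (show TensorProduct.map (f.restrictScalars k) (g.restrictScalars k)
      (segInc hdegT X Y (v + w)) = TensorProduct.map (f.restrictScalars k) (g.restrictScalars k)
      (segInc hdegT X Y v) + TensorProduct.map (f.restrictScalars k) (g.restrictScalars k) (segInc hdegT X Y w)
    by rw [map_add, map_add])
  map_smul' t w := segInc_injective hdegT X' Y' (by
    show TensorProduct.map (f.restrictScalars k) (g.restrictScalars k) (segInc hdegT X Y (t • w)) = _
    rw [segInc_smul, map_act]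
    rfl)

theorem segInc_segMap (f : X.carrier →ₗ[R] X'.carrier) (hf : GrLC.IsGrHom X.gr X'.gr f)
    (g : Y.carrier →ₗ[S] Y'.carrier) (hg : GrLC.IsGrHom Y.gr Y'.gr g) (w : (seg hdegT X Y).carrier) :
    segInc hdegT X' Y' (segMap hdegT f hf g hg w) =
      TensorProduct.map (f.restrictScalars k) (g.restrictScalars k) (segInc hdegT X Y w) := rfl

theorem segMap_grHom (f : X.carrier →ₗ[R] X'.carrier) (hf : GrLC.IsGrHom X.gr X'.gr f)
    (g : Y.carrier →ₗ[S] Y'.carrier) (hg : GrLC.IsGrHom Y.gr Y'.gr g) :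
    GrLC.IsGrHom (seg hdegT X Y).gr (seg hdegT X' Y').gr (segMap hdegT f hf g hg) :=
  fun _ _ hw => map_mem_piece hf hg hw

end functor

theorem acyc_of_sum {Q : Type u} [AddCommGroup Q] [Module T Q] {I : Ideal T} {κ : Type} [Fintype κ]
    (Z : κ → Type u) [∀ i, AddCommGroup (Z i)] [∀ i, Module T (Z i)] (f : ∀ i, Q →ₗ[T] Z i) (g : ∀ i, Z i →ₗ[T] Q)
    (hsum : ∀ x, ∑ i, g i (f i x) = x) {j : ℕ} (hZ : ∀ i, Subsingleton (_root_.LocCoh.H I j (Z i))) :
    Subsingleton (_root_.LocCoh.H I j Q) := by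
  let Φ : (Q →ₗ[T] Q) →+ (_root_.LocCoh.H I j Q →ₗ[T] _root_.LocCoh.H I j Q) :=
    AddMonoidHom.mk' (LocCoh.Hmap I j) (LocCoh.Hmap_add j)
  refine subsingleton_of_forall_eq 0 fun x => ?_
  have hid : (∑ i, (g i).comp (f i)) = LinearMap.id := LinearMap.ext fun x => by
    rw [LinearMap.sum_apply]; exact hsum x
  have h : Φ (∑ i, (g i).comp (f i)) x = 0 := by
    rw [map_sum, LinearMap.sum_apply]
    refine Finset.sum_eq_zero fun i _ => ?_
    show LocCoh.Hmap I j ((g i).comp (f i)) x = 0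
    rw [LocCoh.Hmap_comp, LinearMap.comp_apply, @Subsingleton.elim _ (hZ i) (LocCoh.Hmap I j (f i) x) 0, map_zero]
  rw [hid] at h
  show x = 0
  rw [← h]
  show x = LocCoh.Hmap I j LinearMap.id x
  rw [LocCoh.Hmap_id]
  rfl

section torsion

variable [IsNoetherianRing R] [IsNoetherianRing S] [IsNoetherianRing T]
  {mR : HomogeneousIdeal 𝒜} (hmR : mR.toIdeal = Ideal.span (⋃ n ∈ Set.Ioi (0 : ℤ), (𝒜 n : Set R)))
  {mS : HomogeneousIdeal ℬ} (hmS : mS.toIdeal = Ideal.span (⋃ n ∈ Set.Ioi (0 : ℤ), (ℬ n : Set S)))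
  {mT : HomogeneousIdeal 𝒯} (hmT : mT.toIdeal = Ideal.span (⋃ n ∈ Set.Ioi (0 : ℤ), (𝒯 n : Set T)))
include hmR hmS hmT

/-- Tensors with a torsion factor are torsion. -/
theorem mem_gam_seg {v : (seg hdegT X Y).carrier}
    (hv : segInc hdegT X Y v ∈ Submodule.span k {w : X.carrier ⊗[k] Y.carrier | ∃ a b, w = a ⊗ₜ[k] b ∧
      (a ∈ GrLC.gam mR.toIdeal X.carrier ∨ b ∈ GrLC.gam mS.toIdeal Y.carrier)}) :
    v ∈ GrLC.gam mT.toIdeal (seg hdegT X Y).carrier := by
  suffices hC : ∃ C : ℕ, ∀ c : ℤ, (C : ℤ) ≤ c → ∀ z ∈ GrSeg.segrePiece k 𝒜 ℬ c,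
      GrSeg.act k R S X.carrier Y.carrier z (segInc hdegT X Y v) = 0 by
    obtain ⟨C, hC⟩ := hC
    suffices hle : mT.toIdeal ≤ ((Submodule.span T {v}).annihilator).radical by
      obtain ⟨N, hN⟩ := Ideal.exists_pow_le_of_le_radical_of_fg hle (IsNoetherian.noetherian _)
      exact ⟨N, fun t ht => (Submodule.mem_annihilator_span_singleton _ _).1 (hN ht)⟩
    rw [hmT, Ideal.span_le]
    intro t ht
    simp only [Set.mem_iUnion, Set.mem_Ioi] at ht
    obtain ⟨c, hc, htc⟩ := ht
    refine ⟨C, (Submodule.mem_annihilator_span_singleton _ _).2 (segInc_injective hdegT X Y ?_)⟩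
    rw [segInc_smul, map_zero]
    refine hC ((C : ℕ) • c) ?_ _ (by rw [← hdegT]; exact ⟨_, SetLike.pow_mem_graded C htc, rfl⟩)
    rw [nsmul_eq_mul]
    exact le_mul_of_one_le_right (Int.natCast_nonneg C) (by omega)
  generalize segInc hdegT X Y v = w at hv
  induction hv using Submodule.span_induction with
  | zero => exact ⟨0, fun c _ z _ => map_zero _⟩
  | add p q _ _ hp hq =>
    obtain ⟨C, hC⟩ := hp
    obtain ⟨C', hC'⟩ := hq
    exact ⟨C + C', fun c hc z hz => by rw [map_add, hC c (by omega) z hz, hC' c (by omega) z hz, add_zero]⟩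
  | smul a p _ hp =>
    obtain ⟨C, hC⟩ := hp
    exact ⟨C, fun c hc z hz => by rw [map_smul, hC c hc z hz, smul_zero]⟩
  | mem w hw =>
    obtain ⟨a, b, rfl, ha | hb⟩ := hw
    · obtain ⟨C, hC⟩ := high_kill hmR ha
      refine ⟨C, fun c hc z hz => ?_⟩
      induction hz using Submodule.span_induction with
      | mem z hz => obtain ⟨r, hr, s, -, rfl⟩ := hz; rw [GrSeg.act_tmul, hC c hc r hr, zero_tmul]
      | zero => simp
      | add p q _ _ hp hq => rw [map_add, LinearMap.add_apply, hp, hq, add_zero]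
      | smul e p _ hp => rw [map_smul, LinearMap.smul_apply, hp, smul_zero]
    · obtain ⟨C, hC⟩ := high_kill hmS hb
      refine ⟨C, fun c hc z hz => ?_⟩
      induction hz using Submodule.span_induction with
      | mem z hz => obtain ⟨r, -, s, hs, rfl⟩ := hz; rw [GrSeg.act_tmul, hC c hc s hs, tmul_zero]
      | zero => simp
      | add p q _ _ hp hq => rw [map_add, LinearMap.add_apply, hp, hq, add_zero]
      | smul e p _ hp => rw [map_smul, LinearMap.smul_apply, hp, smul_zero]

theorem isPowerTorsion_seg (h : (∀ x, x ∈ GrLC.gam mR.toIdeal X.carrier) ∨ ∀ y, y ∈ GrLC.gam mS.toIdeal Y.carrier) :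
    _root_.LocCoh.IsPowerTorsion mT.toIdeal (seg hdegT X Y).carrier := fun v => by
  refine mem_gam_seg hdegT X Y hmR hmS hmT ?_
  generalize segInc hdegT X Y v = w
  induction w using TensorProduct.induction_on with
  | zero => exact zero_mem _
  | add p q hp hq => exact add_mem hp hq
  | tmul a b => exact Submodule.subset_span ⟨a, b, rfl, h.imp (fun h => h a) (fun h => h b)⟩

end torsion

section bijective

variable {X Y} {D : ℤ} {f : R} (hf : f ∈ 𝒜 D) (hfX : Function.Bijective fun x : X.carrier => f • x)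
  {g : S} (hg : g ∈ ℬ D) (hgY : Function.Bijective fun y : Y.carrier => g • y) {t : T} (htψ : ψ t = f ⊗ₜ[k] g)
include hf hfX hg hgY htψ

theorem bijective_smul_seg : Function.Bijective fun v : (seg hdegT X Y).carrier => t • v := by
  refine ⟨fun v v' h => segInc_injective hdegT X Y ?_, fun q => ?_⟩
  · have h' := congrArg (segInc hdegT X Y) h
    simp only [segInc_smul, htψ] at h'
    have heq : GrSeg.act k R S X.carrier Y.carrier (f ⊗ₜ[k] g) =
        TensorProduct.map (Algebra.lsmul k k X.carrier f) (Algebra.lsmul k k Y.carrier g) :=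
      TensorProduct.ext' fun a b => by rw [GrSeg.act_tmul, TensorProduct.map_tmul]; rfl
    rw [heq, ← LinearMap.rTensor_comp_lTensor, LinearMap.comp_apply, LinearMap.comp_apply] at h'
    exact Module.Flat.lTensor_preserves_injective_linearMap _ hgY.1
      (Module.Flat.rTensor_preserves_injective_linearMap _ hfX.1 h')
  · induction q using GrLib.induction (seg hdegT X Y).gr with
    | zero => exact ⟨0, smul_zero _⟩
    | add a b ha hb =>
      obtain ⟨a', ha'⟩ := ha
      obtain ⟨b', hb'⟩ := hb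
      exact ⟨a' + b', by show t • (a' + b') = a + b; rw [smul_add]; exact congrArg₂ (· + ·) ha' hb'⟩
    | hom n q hq =>
      suffices h : segInc hdegT X Y q ∈ (GrSeg.segrePiece k X.gr Y.gr (n - D)).map
          (GrSeg.act k R S X.carrier Y.carrier (f ⊗ₜ[k] g)) by
        obtain ⟨w, hw, hwq⟩ := h
        obtain ⟨v, rfl⟩ := exists_seg hdegT X Y (piece_le_segSub X Y _ hw)
        exact ⟨v, segInc_injective hdegT X Y (by show segInc hdegT X Y (t • v) = _; rw [segInc_smul, htψ, hwq])⟩
      refine Submodule.span_le.mpr ?_ hq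
      rintro _ ⟨x, hx, y, hy, rfl⟩
      obtain ⟨x', hx'⟩ := hfX.2 x
      obtain ⟨y', hy'⟩ := hgY.2 y
      refine ⟨_ ⊗ₜ[k] _, Submodule.subset_span ⟨_, GrLib.proj_mem X.gr (n - D) x', _,
        GrLib.proj_mem Y.gr (n - D) y', rfl⟩, ?_⟩
      dsimp only at hx' hy'
      rw [GrSeg.act_tmul, ← GrLib.proj_smul' hf, ← GrLib.proj_smul' hg, hx', hy', GrLib.proj_of_mem hx,
        GrLib.proj_of_mem hy]

end bijective

end Groth.Agent.SegreLC
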