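import Mathlib
import Groth.Agent.SegreLC.Acyclic
import Groth.Agent.SegreLC.Kunneth
import Groth.Agent.SegreLC.Seg
import Groth.Agent.GrLib.Derived
import Groth.Agent.GrLib.Acyclic

/-! The pieces of torsion complexes, and comparison of resolutions. -/

set_option autoImplicit false
set_option linter.unusedSectionVars false
universe u

open DirectSum

namespace Groth.Agent.SegreLC

section cohIso

variable {k : Type u} [Field k] {C : ℕ → Type u} [∀ n, AddCommGroup (C n)] [∀ n, Module k (C n)]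
  {dC : ∀ n, C n →ₗ[k] C (n + 1)} {D : ℕ → Type u} [∀ n, AddCommGroup (D n)] [∀ n, Module k (D n)]
  {dD : ∀ n, D n →ₗ[k] D (n + 1)}

theorem map_mem_bdry {f : ∀ n, C n →ₗ[k] D n} (hf : ∀ n x, f (n + 1) (dC n x) = dD n (f n x)) (n : ℕ) {x : C n}
    (hx : x ∈ bdry dC n) : f n x ∈ bdry dD n := by
  cases n with
  | zero => rw [(Submodule.mem_bot k).1 hx, map_zero]; exact zero_mem _
  | succ n => obtain ⟨y, rfl⟩ := hx; exact ⟨f n y, (hf n y).symm⟩

/-- The map on cohomology. -/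
noncomputable def cohMap (f : ∀ n, C n →ₗ[k] D n) (hf : ∀ n x, f (n + 1) (dC n x) = dD n (f n x)) (n : ℕ) :
    Coh dC n →ₗ[k] Coh dD n :=
  Submodule.mapQ _ _ ((f n).restrict fun x hx => by
    rw [LinearMap.mem_ker] at hx ⊢
    rw [← hf, hx, map_zero]) fun x hx => map_mem_bdry hf n hx

theorem cohMap_cls (f : ∀ n, C n →ₗ[k] D n) (hf : ∀ n x, f (n + 1) (dC n x) = dD n (f n x)) (n : ℕ)
    (z : LinearMap.ker (dC n)) : cohMap f hf n (cls dC n z) = cls dD n ⟨f n z, by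
      rw [LinearMap.mem_ker, ← hf, LinearMap.mem_ker.1 z.2, map_zero]⟩ := rfl

/-- Isomorphic complexes have isomorphic cohomology. -/
theorem nonempty_cohEquiv (f : ∀ n, C n →ₗ[k] D n) (hf : ∀ n x, f (n + 1) (dC n x) = dD n (f n x))
    (hb : ∀ n, Function.Bijective (f n)) (n : ℕ) : Nonempty (Coh dC n ≃ₗ[k] Coh dD n) := by
  refine ⟨LinearEquiv.ofBijective (cohMap f hf n) ⟨(injective_iff_map_eq_zero _).2 fun c hc => ?_, fun c => ?_⟩⟩
  · obtain ⟨z, rfl⟩ := Submodule.Quotient.mk_surjective _ c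
    have h := (cls_eq_zero_iff dD).1 hc
    refine (cls_eq_zero_iff dC).2 ?_
    cases n with
    | zero =>
      exact (Submodule.mem_bot k).2 ((hb 0).1 (((Submodule.mem_bot k).1 h).trans (map_zero _).symm))
    | succ n =>
      obtain ⟨y, hy⟩ := h
      obtain ⟨x, rfl⟩ := (hb n).2 y
      exact ⟨x, (hb (n + 1)).1 ((hf n x).trans hy)⟩
  · obtain ⟨z, rfl⟩ := Submodule.Quotient.mk_surjective _ c
    obtain ⟨x, hx⟩ := (hb n).2 z.1
    have hx0 : dC n x = 0 := (hb (n + 1)).1 (by rw [hf, hx, map_zero]; exact z.2)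
    exact ⟨cls dC n ⟨x, hx0⟩, congrArg (cls dD n) (Subtype.ext hx)⟩

end cohIso

variable {k : Type u} [Field k] {R : Type u} [CommRing R] [Algebra k R] {𝒜 : ℤ → Submodule k R} [GradedAlgebra 𝒜]

/-- A piece, as a subspace. -/
noncomputable def kpiece (X : GrLC.GMod.{u} 𝒜) (d : ℤ) : Submodule k X.carrier where
  carrier := (X.gr d : Set X.carrier)
  add_mem' ha hb := (X.gr d).add_mem ha hb
  zero_mem' := (X.gr d).zero_mem
  smul_mem' c _ hx := SegreDim.smul_mem_piece 𝒜 X.gr c hx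

/-- The torsion part of a piece. -/
noncomputable def gamPiece (I : Ideal R) (X : GrLC.GMod.{u} 𝒜) (d : ℤ) : Submodule k X.carrier :=
  kpiece X d ⊓ (GrLC.gam I X.carrier).restrictScalars k

variable (X : ℕ → GrLC.GMod.{u} 𝒜) (dX : ∀ n, (X n).carrier →ₗ[R] (X (n + 1)).carrier)
  (hdX : ∀ n, GrLC.IsGrHom (X n).gr (X (n + 1)).gr (dX n))

/-- The torsion complex in one degree. -/
noncomputable def gamd (I : Ideal R) (d : ℤ) (n : ℕ) : gamPiece I (X n) d →ₗ[k] gamPiece I (X (n + 1)) d :=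
  (((dX n).restrictScalars k).comp (gamPiece I (X n) d).subtype).codRestrict _ fun x =>
    ⟨hdX n d _ x.2.1, GrLib.map_gam_le (dX n) (Submodule.mem_map_of_mem x.2.2)⟩

theorem gamd_apply (I : Ideal R) (d : ℤ) (n : ℕ) (x : gamPiece I (X n) d) :
    (gamd X dX hdX I d n x : (X (n + 1)).carrier) = dX n x := rfl

section hcomp

variable {M : Type u} [AddCommGroup M] [Module R M] {τ : Type u} [SetLike τ M] [AddSubgroupClass τ M]
  {ℳ : ℤ → τ} [Decomposition ℳ] [SetLike.GradedSMul 𝒜 ℳ] (E : GrLC.StarInjRes 𝒜 ℳ) (a : HomogeneousIdeal 𝒜)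
  [Nontrivial R] (h0 : 𝒜 0 = Submodule.span k {(1 : R)})

include h0 in
/-- A piece of graded local cohomology, as the cohomology of the torsion complex in that degree. -/
theorem exists_hcompEquiv (n : ℕ) (d : ℤ) :
    ∃ _ : Coh (gamd E.X E.d E.d_grHom a.toIdeal d) n ≃+ E.Hcomp a n d,
      Module.rank k (Coh (gamd E.X E.d E.d_grHom a.toIdeal d) n) =
        Module.rank (GrLC.deg0 𝒜) (E.Hcomp a n d) := by
  let Z := LinearMap.ker (gamd E.X E.d E.d_grHom a.toIdeal d n)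
  have hmem : ∀ z : Z, (z.1.1 : (E.X n).carrier) ∈ E.cocyc a n := fun z =>
    ⟨z.1.2.2, congrArg Subtype.val (LinearMap.mem_ker.1 z.2)⟩
  let Φ : Z →+ E.Hcomp a n d :=
    { toFun := fun z => ⟨E.toH a n ⟨z.1.1, hmem z⟩, ⟨z.1.1, hmem z⟩, z.1.2.1, rfl⟩
      map_zero' := Subtype.ext (map_zero (E.toH a n))
      map_add' := fun z w => Subtype.ext (map_add (E.toH a n) ⟨z.1.1, hmem z⟩ ⟨w.1.1, hmem w⟩) }
  have hsurj : Function.Surjective Φ := by
    rintro ⟨x, z, hz, rfl⟩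
    exact ⟨⟨⟨z.1, hz, z.2.1⟩, LinearMap.mem_ker.2 (Subtype.ext (LinearMap.mem_ker.1 z.2.2))⟩, rfl⟩
  have hker : ∀ z : Z, Φ z = 0 ↔ z.1 ∈ bdry (gamd E.X E.d E.d_grHom a.toIdeal d) n := by
    intro z
    refine (Subtype.ext_iff.trans (GrLib.toH_eq_zero (E := E) a (z := ⟨z.1.1, hmem z⟩))).trans ⟨fun h => ?_, fun h => ?_⟩
    · cases n with
      | zero => exact (Submodule.mem_bot k).2 (Subtype.ext ((Submodule.mem_bot R).1 h))
      | succ n =>
        obtain ⟨w, hw, hwz⟩ := h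
        have hhom : GrLC.gam a.toIdeal (E.X n).carrier |>.IsHomogeneous (E.X n).gr :=
          GrLib.isHomogeneous_gam (𝒜 := 𝒜) (ℳ := (E.X n).gr) a.isHomogeneous
        refine ⟨⟨GrLib.proj (E.X n).gr d w, GrLib.proj_mem (E.X n).gr d w, hhom d hw⟩, Subtype.ext ?_⟩
        show E.d n (GrLib.proj (E.X n).gr d w) = z.1.1
        rw [← GrLib.proj_map (E.d_grHom n), hwz]
        exact GrLib.proj_of_mem z.1.2.1
    · cases n with
      | zero =>
        exact (Submodule.mem_bot R).2 (congrArg Subtype.val ((Submodule.mem_bot k).1 h))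
      | succ n =>
        obtain ⟨w, hw⟩ := h
        exact ⟨w.1, w.2.2, congrArg Subtype.val hw⟩
  let Φ' : Coh (gamd E.X E.d E.d_grHom a.toIdeal d) n →+ E.Hcomp a n d :=
    QuotientAddGroup.lift _ Φ fun z hz => (hker z).2 hz
  have hb : Function.Bijective Φ' := by
    refine ⟨(injective_iff_map_eq_zero _).2 fun c hc => ?_, fun x => ?_⟩
    · obtain ⟨z, rfl⟩ := Submodule.Quotient.mk_surjective _ c
      exact (cls_eq_zero_iff _).2 ((hker z).1 hc)
    · obtain ⟨z, hz⟩ := hsurj x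
      exact ⟨Submodule.Quotient.mk z, hz⟩
  let i : k → GrLC.deg0 𝒜 := fun c => ⟨algebraMap k R c, SetLike.algebraMap_mem_graded 𝒜 c⟩
  have hi : Function.Bijective i := by
    refine ⟨fun c c' h => (algebraMap k R).injective (congrArg Subtype.val h), fun x => ?_⟩
    obtain ⟨c, hc⟩ := Submodule.mem_span_singleton.1 (show (x : R) ∈ Submodule.span k {(1 : R)} from h0 ▸ x.2)
    exact ⟨c, Subtype.ext ((Algebra.algebraMap_eq_smul_one c).trans hc)⟩
  refine ⟨AddEquiv.ofBijective Φ' hb, rank_eq_of_equiv_equiv i (AddEquiv.ofBijective Φ' hb) hi ?_⟩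
  intro c x
  obtain ⟨z, rfl⟩ := Submodule.Quotient.mk_surjective _ x
  rfl

include h0 in
/-- The dimension of a piece of graded local cohomology. -/
theorem finrank_Hcomp (n : ℕ) (d : ℤ) :
    Module.finrank (GrLC.deg0 𝒜) (E.Hcomp a n d) =
      Module.finrank k (Coh (gamd E.X E.d E.d_grHom a.toIdeal d) n) :=
  let ⟨_, h⟩ := exists_hcompEquiv E a h0 n d
  (congrArg Cardinal.toNat h).symm

end hcomp

section compare

variable {P : GrLC.GMod.{u} 𝒜} (ε : P.carrier →ₗ[R] (X 0).carrier) (hε : GrLC.IsGrHom P.gr (X 0).gr ε)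
  (hεi : Function.Injective ε) (h0 : Function.Exact ε (dX 0)) (hex : ∀ n, Function.Exact (dX n) (dX (n + 1)))
  {M : Type u} [AddCommGroup M] [Module R M] {τ : Type u} [SetLike τ M] [AddSubgroupClass τ M]
  {ℳ : ℤ → τ} [Decomposition ℳ] [SetLike.GradedSMul 𝒜 ℳ] (E : GrLC.StarInjRes 𝒜 ℳ)
  (φ : P.carrier →ₗ[R] M) (hφ : GrLC.IsGrHom P.gr ℳ φ)

/-- A partial lift into a resolution. -/
def LiftTo (n : ℕ) : Type u :=
  { u : (X n).carrier →ₗ[R] (E.X n).carrier //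
    GrLC.IsGrHom (X n).gr (E.X n).gr u ∧ ∀ x, dX n x = 0 → E.d n (u x) = 0 }

include hdX hε hεi h0 hex hφ in
theorem exists_liftTo : ∃ u : ∀ n, (X n).carrier →ₗ[R] (E.X n).carrier,
    (∀ n, GrLC.IsGrHom (X n).gr (E.X n).gr (u n)) ∧ (∀ p, u 0 (ε p) = E.ε (φ p)) ∧
      ∀ n x, u (n + 1) (dX n x) = E.d n (u n x) := by
  obtain ⟨u₀, hu₀, e₀⟩ := GrLib.exists_extend (E.starInj 0) hε hεi (g := E.ε ∘ₗ φ)
    (fun g m hm => E.ε_grHom g _ (hφ g m hm))
  have hu₀' : ∀ x, dX 0 x = 0 → E.d 0 (u₀ x) = 0 := fun x hx => by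
    obtain ⟨p, rfl⟩ := (h0 x).1 hx
    rw [show u₀ (ε p) = E.ε (φ p) from LinearMap.congr_fun e₀ p]
    exact GrLib.d_comp_ε E _
  have step : ∀ n (v : LiftTo X dX E n), ∃ v' : LiftTo X dX E (n + 1), ∀ x, v'.1 (dX n x) = E.d n (v.1 x) := by
    intro n v
    obtain ⟨w, hw, e⟩ := GrLib.exists_factor (E.starInj (n + 1)) (hdX n) (g := E.d n ∘ₗ v.1)
      (fun g m hm => E.d_grHom n g _ (v.2.1 g m hm)) (fun x hx => v.2.2 x hx)
    refine ⟨⟨w, hw, fun x hx => ?_⟩, LinearMap.congr_fun e⟩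
    obtain ⟨y, rfl⟩ := (hex n x).1 hx
    rw [show w (dX n y) = E.d n (v.1 y) from LinearMap.congr_fun e y]
    exact GrLib.d_comp_d E n _
  let v : ∀ n, LiftTo X dX E n := fun n =>
    Nat.rec (motive := fun n => LiftTo X dX E n) ⟨u₀, hu₀, hu₀'⟩ (fun n v => (step n v).choose) n
  exact ⟨fun n => (v n).1, fun n => (v n).2.1, LinearMap.congr_fun e₀, fun n => (step n (v n)).choose_spec⟩

include hdX hε hεi h0 hex hφ in
/-- An acyclic resolution computes the pieces of graded local cohomology. -/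
theorem nonempty_cohEquiv_of_acyclic [IsNoetherianRing R] (a : HomogeneousIdeal 𝒜) (hφb : Function.Bijective φ)
    (hXa : ∀ n, Acyc a.toIdeal (X n).carrier) (n : ℕ) (d : ℤ) :
    Nonempty (Coh (gamd X dX hdX a.toIdeal d) n ≃ₗ[k] Coh (gamd E.X E.d E.d_grHom a.toIdeal d) n) := by
  obtain ⟨u, hu, hu₀, hud⟩ := exists_liftTo X dX hdX ε hε hεi h0 hex E φ hφ
  obtain ⟨c1, c2, c3, c4⟩ := gam_compare (I := a.toIdeal) (L := fun n => (X n).carrier) (εL := ε) (dL := dX)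
    hεi h0 hex hXa (E := fun n => (E.X n).carrier) (εE := E.ε ∘ₗ φ) (dE := E.d)
    (E.ε_injective.comp hφb.1)
    (fun x => ⟨fun hx => by
      obtain ⟨m, rfl⟩ := GrLib.exists_ε_eq E hx
      obtain ⟨p, rfl⟩ := hφb.2 m
      exact ⟨p, rfl⟩, fun ⟨p, hp⟩ => hp ▸ GrLib.d_comp_ε E _⟩)
    (fun n x => ⟨GrLib.exists_d_eq E n, fun ⟨y, hy⟩ => hy ▸ GrLib.d_comp_d E n y⟩)
    (fun n i hi => GrLib.subsingleton_H_of_isStarInj (E.starInj n) a hi) hu₀ hud
  let f : ∀ n, gamPiece a.toIdeal (X n) d →ₗ[k] gamPiece a.toIdeal (E.X n) d := fun n =>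
    (((u n).restrictScalars k).comp (gamPiece a.toIdeal (X n) d).subtype).codRestrict _ fun x =>
      ⟨hu n d _ x.2.1, GrLib.map_gam_le (u n) (Submodule.mem_map_of_mem x.2.2)⟩
  have hf : ∀ n x, f (n + 1) (gamd X dX hdX a.toIdeal d n x) = gamd E.X E.d E.d_grHom a.toIdeal d n (f n x) :=
    fun n x => Subtype.ext (hud n x.1)
  have hhom : ∀ (Y : GrLC.GMod.{u} 𝒜), (GrLC.gam a.toIdeal Y.carrier).IsHomogeneous Y.gr := fun Y =>
    GrLib.isHomogeneous_gam (𝒜 := 𝒜) (ℳ := Y.gr) a.isHomogeneous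
  refine ⟨LinearEquiv.ofBijective (cohMap f hf n) ⟨(injective_iff_map_eq_zero _).2 fun c hc => ?_, fun c => ?_⟩⟩
  · obtain ⟨z, rfl⟩ := Submodule.Quotient.mk_surjective _ c
    have h := (cls_eq_zero_iff _).1 hc
    have hdz : dX n z.1.1 = 0 := congrArg Subtype.val (LinearMap.mem_ker.1 z.2)
    refine (cls_eq_zero_iff _).2 ?_
    cases n with
    | zero =>
      exact (Submodule.mem_bot k).2 (Subtype.ext (c1 z.1.1 hdz (congrArg Subtype.val ((Submodule.mem_bot k).1 h))))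
    | succ m =>
      obtain ⟨w, hw⟩ := h
      obtain ⟨x, hx, hxz⟩ := c2 m z.1.1 z.1.2.2 hdz w.1 w.2.2 (congrArg Subtype.val hw)
      refine ⟨⟨GrLib.proj (X m).gr d x, GrLib.proj_mem (X m).gr d x, hhom _ d hx⟩, Subtype.ext ?_⟩
      show dX m (GrLib.proj (X m).gr d x) = z.1.1
      rw [← GrLib.proj_map (hdX m), hxz]
      exact GrLib.proj_of_mem z.1.2.1
  · obtain ⟨z, rfl⟩ := Submodule.Quotient.mk_surjective _ c
    have hdz : E.d n z.1.1 = 0 := congrArg Subtype.val (LinearMap.mem_ker.1 z.2)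
    cases n with
    | zero =>
      obtain ⟨x, hx, hdx, hux⟩ := c3 z.1.1 z.1.2.2 hdz
      refine ⟨cls (gamd X dX hdX a.toIdeal d) 0 ⟨⟨GrLib.proj (X 0).gr d x, GrLib.proj_mem (X 0).gr d x, hhom _ d hx⟩,
        LinearMap.mem_ker.2 (Subtype.ext ?_)⟩, congrArg (cls _ 0) (Subtype.ext (Subtype.ext ?_))⟩
      · show dX 0 (GrLib.proj (X 0).gr d x) = 0
        rw [← GrLib.proj_map (hdX 0), hdx, map_zero]
      · show u 0 (GrLib.proj (X 0).gr d x) = z.1.1
        rw [← GrLib.proj_map (hu 0), hux]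
        exact GrLib.proj_of_mem z.1.2.1
    | succ m =>
      obtain ⟨x, hx, hdx, y, hy, hxy⟩ := c4 m z.1.1 z.1.2.2 hdz
      refine ⟨cls (gamd X dX hdX a.toIdeal d) (m + 1) ⟨⟨GrLib.proj (X (m + 1)).gr d x, GrLib.proj_mem (X (m + 1)).gr d x,
        hhom _ d hx⟩, LinearMap.mem_ker.2 (Subtype.ext ?_)⟩, ?_⟩
      · show dX (m + 1) (GrLib.proj (X (m + 1)).gr d x) = 0
        rw [← GrLib.proj_map (hdX (m + 1)), hdx, map_zero]
      · refine (cohMap_cls f hf (m + 1) _).trans ((Submodule.Quotient.eq _).2 ?_)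
        refine ⟨⟨-(GrLib.proj (E.X m).gr d y), neg_mem (GrLib.proj_mem (E.X m).gr d y), neg_mem (hhom _ d hy)⟩, Subtype.ext ?_⟩
        show E.d m (-(GrLib.proj (E.X m).gr d y)) = u (m + 1) (GrLib.proj (X (m + 1)).gr d x) - z.1.1
        rw [map_neg, ← GrLib.proj_map (hu (m + 1)), ← GrLib.proj_map (E.d_grHom m), eq_sub_iff_add_eq,
          neg_add_eq_iff_eq_add, ← map_add, add_comm (E.d m y), hxy]
        exact (GrLib.proj_of_mem (ℳ := (E.X (m + 1)).gr) z.1.2.1).symm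

end compare

end Groth.Agent.SegreLC
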