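import Mathlib
import Groth.Agent.SegreLC.Compare

/-! The pieces of a resolution, as complexes of vector spaces. -/

set_option autoImplicit false
set_option linter.unusedSectionVars false
universe u

open DirectSum

namespace Groth.Agent.SegreLC

variable {k : Type u} [Field k] {R : Type u} [CommRing R] [Algebra k R] {𝒜 : ℤ → Submodule k R} [GradedAlgebra 𝒜]
  {M : Type u} [AddCommGroup M] [Module R M] {τ : Type u} [SetLike τ M] [AddSubgroupClass τ M]
  {ℳ : ℤ → τ} [Decomposition ℳ] [SetLike.GradedSMul 𝒜 ℳ] (E : GrLC.StarInjRes 𝒜 ℳ)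
  (a : HomogeneousIdeal 𝒜) (d : ℤ)

/-- A piece of a term of a resolution. -/
def PC (i : ℕ) : Type u := ↥(kpiece (E.X i) d)

noncomputable instance (i : ℕ) : AddCommGroup (PC E d i) := inferInstanceAs (AddCommGroup ↥(kpiece (E.X i) d))

noncomputable instance (i : ℕ) : Module k (PC E d i) := inferInstanceAs (Module k ↥(kpiece (E.X i) d))

/-- The inclusion of a piece. -/
noncomputable def pInc (i : ℕ) : PC E d i →ₗ[k] (E.X i).carrier := (kpiece (E.X i) d).subtype

theorem pInc_injective (i : ℕ) : Function.Injective (pInc E d i) := fun _ _ h => Subtype.ext h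

theorem pInc_mem (i : ℕ) (x : PC E d i) : pInc E d i x ∈ (E.X i).gr d := (show ↥(kpiece (E.X i) d) from x).2

theorem exists_pInc {i : ℕ} {x : (E.X i).carrier} (hx : x ∈ (E.X i).gr d) : ∃ y : PC E d i, pInc E d i y = x :=
  ⟨(⟨x, hx⟩ : ↥(kpiece (E.X i) d)), rfl⟩

/-- The projection onto a piece. -/
noncomputable def pq (i : ℕ) : (E.X i).carrier →ₗ[k] PC E d i :=
  (SegreDim.pieceProj 𝒜 (E.X i).gr d).codRestrict (kpiece (E.X i) d) fun x => GrLib.proj_mem (E.X i).gr d x

theorem pInc_pq (i : ℕ) : (pInc E d i).comp (pq E d i) = SegreDim.pieceProj 𝒜 (E.X i).gr d := rfl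

theorem pq_pInc (i : ℕ) (x : PC E d i) : pq E d i (pInc E d i x) = x :=
  pInc_injective E d i (GrLib.proj_of_mem (ℳ := (E.X i).gr) (pInc_mem E d i x))

/-- The differential of a resolution in one degree. -/
noncomputable def pd (i : ℕ) : PC E d i →ₗ[k] PC E d (i + 1) :=
  (pq E d (i + 1)).comp (((E.d i).restrictScalars k).comp (pInc E d i))

theorem pInc_pd (i : ℕ) (x : PC E d i) : pInc E d (i + 1) (pd E d i x) = E.d i (pInc E d i x) :=
  GrLib.proj_of_mem (ℳ := (E.X (i + 1)).gr) (E.d_grHom i d _ (pInc_mem E d i x))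

theorem pq_comm (i : ℕ) (x : (E.X i).carrier) : pq E d (i + 1) (E.d i x) = pd E d i (pq E d i x) :=
  pInc_injective E d (i + 1) (by
    rw [pInc_pd]
    exact GrLib.proj_map (E.d_grHom i) d x)

theorem pd_pd (i : ℕ) (x : PC E d i) : pd E d (i + 1) (pd E d i x) = 0 :=
  pInc_injective E d (i + 1 + 1) (by rw [pInc_pd, pInc_pd, map_zero]; exact GrLib.d_comp_d E i _)

theorem pd_exact (i : ℕ) (z : PC E d (i + 1)) (hz : pd E d (i + 1) z = 0) : ∃ w, pd E d i w = z := by
  have h := congrArg (pInc E d (i + 1 + 1)) hz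
  rw [pInc_pd, map_zero] at h
  obtain ⟨w, hw⟩ := GrLib.exists_d_eq E i h
  refine ⟨pq E d i w, ?_⟩
  rw [← pq_comm, hw, pq_pInc]

theorem subsingleton_coh_pd (i : ℕ) : Subsingleton (Coh (pd E d) (i + 1)) :=
  subsingleton_of_forall_eq 0 fun c => by
    obtain ⟨z, rfl⟩ := Submodule.Quotient.mk_surjective _ c
    exact (cls_eq_zero_iff _).2 (pd_exact E d i z.1 (LinearMap.mem_ker.1 z.2))

/-- The torsion in a piece. -/
noncomputable def gamIn (i : ℕ) : Submodule k (PC E d i) :=
  ((GrLC.gam a.toIdeal (E.X i).carrier).restrictScalars k).comap (pInc E d i)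

/-- The torsion-free quotient of a piece. -/
def BC (i : ℕ) : Type u := PC E d i ⧸ gamIn E a d i

noncomputable instance (i : ℕ) : AddCommGroup (BC E a d i) := inferInstanceAs (AddCommGroup (PC E d i ⧸ gamIn E a d i))

noncomputable instance (i : ℕ) : Module k (BC E a d i) := inferInstanceAs (Module k (PC E d i ⧸ gamIn E a d i))

/-- The projection to the torsion-free quotient. -/
noncomputable def bπ (i : ℕ) : PC E d i →ₗ[k] BC E a d i := (gamIn E a d i).mkQ

theorem bπ_surjective (i : ℕ) : Function.Surjective (bπ E a d i) := Submodule.mkQ_surjective _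

theorem bπ_eq_zero_iff (i : ℕ) (x : PC E d i) :
    bπ E a d i x = 0 ↔ pInc E d i x ∈ GrLC.gam a.toIdeal (E.X i).carrier := Submodule.Quotient.mk_eq_zero _

/-- The differential of the torsion-free quotient. -/
noncomputable def bd (i : ℕ) : BC E a d i →ₗ[k] BC E a d (i + 1) :=
  (gamIn E a d i).liftQ ((bπ E a d (i + 1)).comp (pd E d i)) fun x hx => by
    rw [LinearMap.mem_ker, LinearMap.comp_apply, bπ_eq_zero_iff, pInc_pd]
    exact GrLib.map_gam_le (E.d i) (Submodule.mem_map_of_mem hx)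

theorem bπ_comm (i : ℕ) (x : PC E d i) : bπ E a d (i + 1) (pd E d i x) = bd E a d i (bπ E a d i x) := rfl

theorem bd_bd (i : ℕ) (x : BC E a d i) : bd E a d (i + 1) (bd E a d i x) = 0 := by
  obtain ⟨x, rfl⟩ := bπ_surjective E a d i x
  rw [← bπ_comm, ← bπ_comm, pd_pd, map_zero]

/-- The embedding of the torsion-free quotient of a piece into the torsion-free quotient. -/
noncomputable def bInc (i : ℕ) :
    BC E a d i →ₗ[k] ((E.X i).carrier ⧸ (GrLC.gam a.toIdeal (E.X i).carrier).restrictScalars k) :=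
  (gamIn E a d i).liftQ (((GrLC.gam a.toIdeal (E.X i).carrier).restrictScalars k).mkQ.comp (pInc E d i)) fun x hx => by
    rw [LinearMap.mem_ker, LinearMap.comp_apply, Submodule.mkQ_apply, Submodule.Quotient.mk_eq_zero]
    exact hx

theorem bInc_injective (i : ℕ) : Function.Injective (bInc E a d i) := (injective_iff_map_eq_zero _).2 fun c hc => by
  obtain ⟨x, rfl⟩ := bπ_surjective E a d i c
  rw [bπ_eq_zero_iff]
  exact (Submodule.Quotient.mk_eq_zero _).1 hc

theorem bInc_bπ (i : ℕ) : (bInc E a d i).comp (bπ E a d i) =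
    ((GrLC.gam a.toIdeal (E.X i).carrier).restrictScalars k).mkQ.comp (pInc E d i) := rfl

end Groth.Agent.SegreLC
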