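import Mathlib
import Groth.Agent.SegreLC.Kunneth

/-! Tensor products of complexes of vector spaces. -/

set_option autoImplicit false
set_option linter.unusedSectionVars false
universe u

open TensorProduct

namespace Groth.Agent.SegreLC

variable {k : Type u} [Field k]
variable {C : ℕ → Type u} [∀ n, AddCommGroup (C n)] [∀ n, Module k (C n)] (dC : ∀ n, C n →ₗ[k] C (n + 1))
  {D : ℕ → Type u} [∀ n, AddCommGroup (D n)] [∀ n, Module k (D n)] (dD : ∀ n, D n →ₗ[k] D (n + 1))


theorem nonempty_quot_equiv {V W : Type u} [AddCommGroup V] [Module k V] [AddCommGroup W] [Module k W]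
    {p : Submodule k V} (Θ : V →ₗ[k] W) (hΘ : Function.Surjective Θ) (hker : LinearMap.ker Θ = p) :
    Nonempty ((V ⧸ p) ≃ₗ[k] W) :=
  ⟨(Submodule.quotEquivOfEq _ _ hker.symm).trans (Θ.quotKerEquivOfSurjective hΘ)⟩

/-- Künneth formula over a field. -/
theorem exists_totEquiv (hC : ∀ n x, dC (n + 1) (dC n x) = 0) (hD : ∀ n x, dD (n + 1) (dD n x) = 0) (n : ℕ) :
    Nonempty (Coh (totd dC dD) n ≃ₗ[k]
      ∀ p : Finset.HasAntidiagonal.antidiagonal n, Coh dC p.1.1 ⊗[k] Coh dD p.1.2) := by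
  obtain ⟨α, β, h, hdα, hβd, hβα, hid0, hids, -⟩ := exists_deformation dC hC
  obtain ⟨α', β', h', hdα', hβd', hβα', hid0', hids', -⟩ := exists_deformation dD hD
  have hkey := totKey dC dD (β := β) (β' := β') hdα hβd hid0 hids hid0' hids'
  let Θ := (totTheta dC dD β β' n).comp (LinearMap.ker (totd dC dD n)).subtype
  have hΘ : Function.Surjective Θ := fun c => by
    obtain ⟨x, hx, hxc⟩ := totTheta_surjective dC dD hdα hdα' hβα hβα' n c
    exact ⟨⟨x, hx⟩, hxc⟩
  have hker : LinearMap.ker Θ = (bdry (totd dC dD) n).comap (LinearMap.ker (totd dC dD n)).subtype :=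
    Submodule.ext fun z => totTheta_eq_zero_iff dC dD hkey hβd hβd' n z.1 (LinearMap.mem_ker.1 z.2)
  exact nonempty_quot_equiv (V := ↥(LinearMap.ker (totd dC dD n))) (W := ∀ p : Finset.HasAntidiagonal.antidiagonal n, Coh dC p.1.1 ⊗[k] Coh dD p.1.2) Θ hΘ hker

/-- Exactness of a total complex. -/
theorem tot_exact (hC : ∀ n x, dC (n + 1) (dC n x) = 0) (hD : ∀ n x, dD (n + 1) (dD n x) = 0) (n : ℕ)
    (hvan : ∀ i j, i + j = n + 1 → Subsingleton (Coh dC i) ∨ Subsingleton (Coh dD j))
    (z : totDeg k C D (n + 1)) (hz : totd dC dD (n + 1) z = 0) : ∃ w, totd dC dD n w = z := by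
  obtain ⟨e⟩ := exists_totEquiv dC dD hC hD (n + 1)
  have h0 : e (cls (totd dC dD) (n + 1) ⟨z, hz⟩) = 0 := funext fun p => by
    rcases hvan _ _ (Finset.HasAntidiagonal.mem_antidiagonal.1 p.2) with h | h <;>
    · generalize e (cls (totd dC dD) (n + 1) ⟨z, hz⟩) p = w
      induction w using TensorProduct.induction_on with
      | zero => rfl
      | add a b ha hb => rw [ha, hb, Pi.zero_apply, add_zero]
      | tmul a b => first | rw [Subsingleton.elim a 0, TensorProduct.zero_tmul]; rfl | rw [Subsingleton.elim b 0, TensorProduct.tmul_zero]; rfl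
  exact (cls_eq_zero_iff (totd dC dD)).1 (e.map_eq_zero_iff.1 h0)

end Groth.Agent.SegreLC
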