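import Mathlib
import Groth.Agent.SegreLC.Seg

/-! Segre products of *injective modules are acyclic, and their torsion. -/

set_option autoImplicit false
set_option linter.unusedSectionVars false
universe u

open DirectSum TensorProduct

namespace Groth.Agent.SegreLC

section params

variable {R : Type u} [CommRing R] {σ : Type u} [SetLike σ R] [AddSubgroupClass σ R] {𝒜 : ℤ → σ} [GradedRing 𝒜]
  [IsNoetherianRing R]

/-- Parameters of a common degree. -/
theorem exists_params_deg {mR : HomogeneousIdeal 𝒜}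
    (hmR : mR.toIdeal = Ideal.span (⋃ n ∈ Set.Ioi (0 : ℤ), (𝒜 n : Set R))) :
    ∃ D₀ : ℕ, 0 < D₀ ∧ ∀ D : ℕ, D₀ ∣ D → 0 < D → ∃ (l : ℕ) (f : Fin l → R),
      (∀ i, f i ∈ 𝒜 (D : ℤ)) ∧ mR.toIdeal ≤ (Ideal.span (Set.range f)).radical := by
  classical
  obtain ⟨G, hG, hGs⟩ := Submodule.fg_span_iff_fg_span_finset_subset _ |>.1
    (IsNoetherian.noetherian (Submodule.span R (⋃ n ∈ Set.Ioi (0 : ℤ), (𝒜 n : Set R))))
  have hdeg : ∀ g : G, ∃ d : ℕ, 0 < d ∧ (g : R) ∈ 𝒜 (d : ℤ) := fun g => by
    have h := hG g.2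
    simp only [Set.mem_iUnion, Set.mem_Ioi] at h
    obtain ⟨d, hd, hgd⟩ := h
    obtain ⟨e, rfl⟩ := Int.eq_ofNat_of_zero_le hd.le
    exact ⟨e, by exact_mod_cast hd, hgd⟩
  choose deg hdeg0 hdegm using hdeg
  refine ⟨∏ g : G, deg g, Finset.prod_pos fun g _ => hdeg0 g, fun D hD hD0 => ?_⟩
  let e := G.equivFin
  refine ⟨G.card, fun i => ((e.symm i : G) : R) ^ (D / deg (e.symm i)), fun i => ?_, ?_⟩
  · have h := SetLike.pow_mem_graded (A := 𝒜) (D / deg (e.symm i)) (hdegm (e.symm i))
    rw [nsmul_eq_mul, ← Nat.cast_mul,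
      Nat.div_mul_cancel ((Finset.dvd_prod_of_mem deg (Finset.mem_univ _)).trans hD)] at h
    exact h
  · rw [hmR]
    refine (le_of_eq hGs).trans (Ideal.span_le.2 fun g hg => ?_)
    refine ⟨D / deg ⟨g, hg⟩, Ideal.subset_span ⟨e ⟨g, hg⟩, ?_⟩⟩
    show ((e.symm (e ⟨g, hg⟩) : G) : R) ^ _ = _
    rw [Equiv.symm_apply_apply]

end params

variable {k : Type u} [Field k] {R : Type u} [CommRing R] [Algebra k R] {𝒜 : ℤ → Submodule k R} [GradedAlgebra 𝒜]
  {S : Type u} [CommRing S] [Algebra k S] {ℬ : ℤ → Submodule k S} [GradedAlgebra ℬ]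
  {T : Type u} [CommRing T] [Algebra k T] {𝒯 : ℤ → Submodule k T} [GradedAlgebra 𝒯]
  {ψ : T →ₐ[k] R ⊗[k] S} (hdegT : ∀ n : ℤ, (𝒯 n).map ψ.toLinearMap = GrSeg.segrePiece k 𝒜 ℬ n)
  [IsNoetherianRing R] [IsNoetherianRing S] [IsNoetherianRing T]
  {mR : HomogeneousIdeal 𝒜} (hmR : mR.toIdeal = Ideal.span (⋃ n ∈ Set.Ioi (0 : ℤ), (𝒜 n : Set R)))
  {mS : HomogeneousIdeal ℬ} (hmS : mS.toIdeal = Ideal.span (⋃ n ∈ Set.Ioi (0 : ℤ), (ℬ n : Set S)))
  {mT : HomogeneousIdeal 𝒯} (hmT : mT.toIdeal = Ideal.span (⋃ n ∈ Set.Ioi (0 : ℤ), (𝒯 n : Set T)))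

theorem subsingleton_H_of_torsion_add {Q : Type u} [AddCommGroup Q] [Module T Q] {I : Ideal T}
    (a : Q →ₗ[T] Q) (ha : ∀ x, a x ∈ GrLC.gam I Q) {κ : Type} [Fintype κ]
    (Z : κ → Type u) [∀ i, AddCommGroup (Z i)] [∀ i, Module T (Z i)] (f : ∀ i, Q →ₗ[T] Z i) (g : ∀ i, Z i →ₗ[T] Q)
    (hsum : ∀ x, a x + ∑ i, g i (f i x) = x) {j : ℕ} (hj : 0 < j)
    (hZ : ∀ i, Subsingleton (_root_.LocCoh.H I j (Z i))) : Subsingleton (_root_.LocCoh.H I j Q) := by
  haveI : Subsingleton (_root_.LocCoh.H I j (GrLC.gam I Q)) :=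
    LocCoh.subsingleton_H_of_powerTorsion j _ (fun x => by
      obtain ⟨n, hn⟩ := x.2
      exact ⟨n, fun r hr => Subtype.ext (hn r hr)⟩) hj
  let Φ : (Q →ₗ[T] Q) →+ (_root_.LocCoh.H I j Q →ₗ[T] _root_.LocCoh.H I j Q) :=
    AddMonoidHom.mk' (LocCoh.Hmap I j) (LocCoh.Hmap_add j)
  refine subsingleton_of_forall_eq 0 fun x => ?_
  have hid : a + (∑ i, (g i).comp (f i)) = LinearMap.id := LinearMap.ext fun x => by
    rw [LinearMap.add_apply, LinearMap.sum_apply]; exact hsum x
  have h : Φ (a + ∑ i, (g i).comp (f i)) x = 0 := by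
    rw [map_add, LinearMap.add_apply, map_sum, LinearMap.sum_apply]
    have h1 : Φ a x = 0 := by
      show LocCoh.Hmap I j a x = 0
      rw [show a = (GrLC.gam I Q).subtype ∘ₗ a.codRestrict _ ha from rfl, LocCoh.Hmap_comp, LinearMap.comp_apply,
        Subsingleton.elim (LocCoh.Hmap I j (a.codRestrict _ ha) x) 0, map_zero]
    rw [h1, zero_add]
    refine Finset.sum_eq_zero fun i _ => ?_
    show LocCoh.Hmap I j ((g i).comp (f i)) x = 0
    rw [LocCoh.Hmap_comp, LinearMap.comp_apply, @Subsingleton.elim _ (hZ i) (LocCoh.Hmap I j (f i) x) 0, map_zero]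
  rw [hid] at h
  show x = 0
  rw [← h]
  show x = LocCoh.Hmap I j LinearMap.id x
  rw [LocCoh.Hmap_id]
  rfl

theorem idHom (X : GrLC.GMod.{u} 𝒜) : GrLC.IsGrHom X.gr X.gr (LinearMap.id : X.carrier →ₗ[R] X.carrier) :=
  fun _ _ h => h

include hmT in
theorem segLift_mem {D : ℕ} (hD : 0 < D) {t : T} (ht : t ∈ 𝒯 (D : ℤ)) : t ∈ mT.toIdeal := by
  rw [hmT]
  exact Ideal.subset_span (Set.mem_iUnion₂.mpr ⟨_, Set.mem_Ioi.mpr (by exact_mod_cast hD), ht⟩)

variable {X : GrLC.GMod.{u} 𝒜} (hX : GrLC.IsStarInj 𝒜 X.gr) {Y : GrLC.GMod.{u} ℬ} (hY : GrLC.IsStarInj ℬ Y.gr)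
include hmR hmS hmT hX hY

/-- Segre products of *injective modules are acyclic. -/
theorem acyc_seg : Acyc mT.toIdeal (seg hdegT X Y).carrier := by
  intro j hj
  obtain ⟨DR, hDR, hpR⟩ := exists_params_deg hmR
  obtain ⟨DS, hDS, hpS⟩ := exists_params_deg hmS
  have hD : 0 < DR * DS := Nat.mul_pos hDR hDS
  obtain ⟨lR, f, hf, hfr⟩ := hpR (DR * DS) (dvd_mul_right _ _) hD
  obtain ⟨lS, g, hg, hgr⟩ := hpS (DR * DS) (dvd_mul_left _ _) hD
  obtain ⟨a, B, p, s, ha, haΓ, hp, hs, hB, hsum⟩ := exists_split hmR X hX f (fun _ => _) hf hfr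
  obtain ⟨a', B', p', s', ha', ha'Γ, hp', hs', hB', hsum'⟩ := exists_split hmS Y hY g (fun _ => _) hg hgr
  refine subsingleton_H_of_torsion_add (segMap hdegT a ha LinearMap.id (idHom Y))
    (fun v => mem_gam_seg hdegT X Y hmR hmS hmT ?_) (fun i => (seg hdegT (B i) Y).carrier)
    (fun i => segMap hdegT (p i) (hp i) LinearMap.id (idHom Y))
    (fun i => segMap hdegT (s i) (hs i) LinearMap.id (idHom Y)) (fun v => segInc_injective hdegT X Y ?_) hj
    (fun i => ?_)
  · rw [segInc_segMap]
    generalize segInc hdegT X Y v = w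
    induction w using TensorProduct.induction_on with
    | zero => rw [map_zero]; exact zero_mem _
    | add p q hp hq => rw [map_add]; exact add_mem hp hq
    | tmul x y => exact Submodule.subset_span ⟨a x, y, TensorProduct.map_tmul _ _ x y, Or.inl (haΓ x)⟩
  · rw [map_add, map_sum]
    simp only [segInc_segMap]
    generalize segInc hdegT X Y v = w
    induction w using TensorProduct.induction_on with
    | zero => simp
    | add p q hp hq =>
      simp only [map_add, Finset.sum_add_distrib]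
      conv_rhs => rw [← hp, ← hq]
      abel
    | tmul x y =>
      simp only [TensorProduct.map_tmul, LinearMap.coe_restrictScalars, LinearMap.id_apply]
      rw [← TensorProduct.sum_tmul, ← TensorProduct.add_tmul, hsum]
  · refine subsingleton_H_of_torsion_add (segMap hdegT LinearMap.id (idHom (B i)) a' ha')
      (fun v => mem_gam_seg hdegT (B i) Y hmR hmS hmT ?_) (fun j' => (seg hdegT (B i) (B' j')).carrier)
      (fun j' => segMap hdegT LinearMap.id (idHom (B i)) (p' j') (hp' j'))
      (fun j' => segMap hdegT LinearMap.id (idHom (B i)) (s' j') (hs' j'))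
      (fun v => segInc_injective hdegT (B i) Y ?_) hj (fun j' => ?_)
    · rw [segInc_segMap]
      generalize segInc hdegT (B i) Y v = w
      induction w using TensorProduct.induction_on with
      | zero => rw [map_zero]; exact zero_mem _
      | add p q hp hq => rw [map_add]; exact add_mem hp hq
      | tmul x y => exact Submodule.subset_span ⟨x, a' y, TensorProduct.map_tmul _ _ x y, Or.inr (ha'Γ y)⟩
    · rw [map_add, map_sum]
      simp only [segInc_segMap]
      generalize segInc hdegT (B i) Y v = w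
      induction w using TensorProduct.induction_on with
      | zero => simp
      | add p q hp hq =>
        simp only [map_add, Finset.sum_add_distrib]
        conv_rhs => rw [← hp, ← hq]
        abel
      | tmul x y =>
        simp only [TensorProduct.map_tmul, LinearMap.coe_restrictScalars, LinearMap.id_apply]
        rw [← TensorProduct.tmul_sum, ← TensorProduct.tmul_add, hsum']
    · obtain ⟨t, ht, htψ⟩ := SegreOne.exists_lift 𝒜 ℬ 𝒯 ψ hdegT (hf i) (hg j')
      exact LocCoh.subsingleton_H_of_bijective_smul (Ideal.le_radical (segLift_mem hmT hD ht))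
        (bijective_smul_seg hdegT (hf i) (hB i) (hg j') (hB' j') htψ) j

/-- The torsion of a Segre product of *injective modules is the kernel of the tensor of two maps with the
torsion submodules as kernels. -/
theorem mem_gam_seg_iff {Xb Yb : Type u} [AddCommGroup Xb] [Module k Xb] [AddCommGroup Yb] [Module k Yb]
    (π : X.carrier →ₗ[k] Xb) (hπ : ∀ x, π x = 0 ↔ x ∈ GrLC.gam mR.toIdeal X.carrier)
    (π' : Y.carrier →ₗ[k] Yb) (hπ' : ∀ y, π' y = 0 ↔ y ∈ GrLC.gam mS.toIdeal Y.carrier)
    (v : (seg hdegT X Y).carrier) :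
    v ∈ GrLC.gam mT.toIdeal (seg hdegT X Y).carrier ↔ TensorProduct.map π π' (segInc hdegT X Y v) = 0 := by
  classical
  obtain ⟨DR, hDR, hpR⟩ := exists_params_deg hmR
  obtain ⟨DS, hDS, hpS⟩ := exists_params_deg hmS
  have hD : 0 < DR * DS := Nat.mul_pos hDR hDS
  obtain ⟨lR, f, hf, hfr⟩ := hpR (DR * DS) (dvd_mul_right _ _) hD
  obtain ⟨lS, g, hg, hgr⟩ := hpS (DR * DS) (dvd_mul_left _ _) hD
  obtain ⟨a, B, p, s, ha, haΓ, hp, hs, hB, hsum⟩ := exists_split hmR X hX f (fun _ => _) hf hfr
  obtain ⟨a', B', p', s', ha', ha'Γ, hp', hs', hB', hsum'⟩ := exists_split hmS Y hY g (fun _ => _) hg hgr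
  -- the splitting of a tensor
  have hdec : ∀ w : X.carrier ⊗[k] Y.carrier,
      TensorProduct.map (a.restrictScalars k) LinearMap.id w +
        (∑ i, TensorProduct.map ((s i).restrictScalars k ∘ₗ (p i).restrictScalars k) (a'.restrictScalars k) w) +
        (∑ i, ∑ j, TensorProduct.map ((s i).restrictScalars k) ((s' j).restrictScalars k)
          (TensorProduct.map ((p i).restrictScalars k) ((p' j).restrictScalars k) w)) = w := by
    intro w
    induction w using TensorProduct.induction_on with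
    | zero => simp
    | add u v hu hv =>
      simp only [map_add, Finset.sum_add_distrib]
      conv_rhs => rw [← hu, ← hv]
      abel
    | tmul x y =>
      simp only [TensorProduct.map_tmul, LinearMap.coe_restrictScalars, LinearMap.id_apply, LinearMap.comp_apply]
      rw [add_assoc, ← Finset.sum_add_distrib]
      simp only [← TensorProduct.tmul_sum, ← TensorProduct.tmul_add, hsum']
      rw [← TensorProduct.sum_tmul, ← TensorProduct.add_tmul, hsum]
  -- torsion modules vanish under the projections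
  have hkill : ∀ {R' : Type u} [CommRing R'] {V W : Type u} [AddCommGroup V] [Module R' V] [AddCommGroup W]
      [Module R' W] (I : Ideal R') (φ : V →ₗ[R'] W) (e : R'), e ∈ I → Function.Bijective (fun b : W => e • b) →
      ∀ x ∈ GrLC.gam I V, φ x = 0 := by
    intro R' _ V W _ _ _ _ I φ e heI hbij x hx
    obtain ⟨n, hn⟩ := hx
    have hb : Function.Injective (fun b : W => e ^ n • b) := by rw [← smul_iterate]; exact hbij.1.iterate n
    refine hb ?_
    show e ^ n • φ x = e ^ n • (0 : W)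
    rw [smul_zero, ← map_smul, hn _ (Ideal.pow_mem_pow heI n), map_zero]
  have hfm : ∀ i, f i ∈ mR.toIdeal := fun i => by
    rw [hmR]; exact Ideal.subset_span (Set.mem_iUnion₂.mpr ⟨_, Set.mem_Ioi.mpr (by exact_mod_cast hD), hf i⟩)
  have hgm : ∀ j, g j ∈ mS.toIdeal := fun j => by
    rw [hmS]; exact Ideal.subset_span (Set.mem_iUnion₂.mpr ⟨_, Set.mem_Ioi.mpr (by exact_mod_cast hD), hg j⟩)
  constructor
  · intro hv
    have h0 : ∀ i j, TensorProduct.map ((p i).restrictScalars k) ((p' j).restrictScalars k)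
        (segInc hdegT X Y v) = 0 := fun i j => by
      obtain ⟨t, ht, htψ⟩ := SegreOne.exists_lift 𝒜 ℬ 𝒯 ψ hdegT (hf i) (hg j)
      rw [← segInc_segMap hdegT (p i) (hp i) (p' j) (hp' j), hkill mT.toIdeal
        (segMap hdegT (p i) (hp i) (p' j) (hp' j)) t (segLift_mem hmT hD ht)
        (bijective_smul_seg hdegT (hf i) (hB i) (hg j) (hB' j) htψ) v hv, map_zero]
    rw [← hdec (segInc hdegT X Y v)]
    simp only [h0, map_zero, Finset.sum_const_zero, add_zero, map_add, map_sum]
    generalize segInc hdegT X Y v = w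
    induction w using TensorProduct.induction_on with
    | zero => simp
    | add u v hu hv => simp only [map_add, Finset.sum_add_distrib]; rw [add_add_add_comm, hu, hv, add_zero]
    | tmul x y =>
      simp only [TensorProduct.map_tmul, LinearMap.coe_restrictScalars, LinearMap.id_apply, LinearMap.comp_apply]
      rw [(hπ _).2 (haΓ x), (hπ' _).2 (ha'Γ y)]
      simp
  · intro hv
    refine mem_gam_seg hdegT X Y hmR hmS hmT ?_
    rw [← hdec (segInc hdegT X Y v)]
    refine add_mem (add_mem ?_ (sum_mem fun i _ => ?_)) (sum_mem fun i _ => sum_mem fun j _ => ?_)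
    · generalize segInc hdegT X Y v = w
      induction w using TensorProduct.induction_on with
      | zero => rw [map_zero]; exact zero_mem _
      | add p q hp hq => rw [map_add]; exact add_mem hp hq
      | tmul x y => exact Submodule.subset_span ⟨a x, y, TensorProduct.map_tmul _ _ x y, Or.inl (haΓ x)⟩
    · generalize segInc hdegT X Y v = w
      induction w using TensorProduct.induction_on with
      | zero => rw [map_zero]; exact zero_mem _
      | add p q hp hq => rw [map_add]; exact add_mem hp hq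
      | tmul x y => exact Submodule.subset_span ⟨_, a' y, TensorProduct.map_tmul _ _ x y, Or.inr (ha'Γ y)⟩
    · obtain ⟨u, hu⟩ : ∃ u : Xb →ₗ[k] (B i).carrier, u.comp π = (p i).restrictScalars k := by
        obtain ⟨s₀, hs₀⟩ := π.rangeRestrict.exists_rightInverse_of_surjective π.range_rangeRestrict
        obtain ⟨u, hu⟩ := LinearMap.exists_extend (((p i).restrictScalars k).comp s₀)
        refine ⟨u, LinearMap.ext fun x => ?_⟩
        rw [LinearMap.comp_apply, show u (π x) = (p i).restrictScalars k (s₀ (π.rangeRestrict x)) from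
          LinearMap.congr_fun hu (π.rangeRestrict x), ← sub_eq_zero, ← map_sub]
        refine hkill mR.toIdeal (p i) (f i) (hfm i) (hB i) _ ((hπ _).1 ?_)
        rw [map_sub, sub_eq_zero]
        exact congrArg Subtype.val (LinearMap.congr_fun hs₀ (π.rangeRestrict x))
      obtain ⟨u', hu'⟩ : ∃ u' : Yb →ₗ[k] (B' j).carrier, u'.comp π' = (p' j).restrictScalars k := by
        obtain ⟨s₀, hs₀⟩ := π'.rangeRestrict.exists_rightInverse_of_surjective π'.range_rangeRestrict
        obtain ⟨u, hu⟩ := LinearMap.exists_extend (((p' j).restrictScalars k).comp s₀)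
        refine ⟨u, LinearMap.ext fun x => ?_⟩
        rw [LinearMap.comp_apply, show u (π' x) = (p' j).restrictScalars k (s₀ (π'.rangeRestrict x)) from
          LinearMap.congr_fun hu (π'.rangeRestrict x), ← sub_eq_zero, ← map_sub]
        refine hkill mS.toIdeal (p' j) (g j) (hgm j) (hB' j) _ ((hπ' _).1 ?_)
        rw [map_sub, sub_eq_zero]
        exact congrArg Subtype.val (LinearMap.congr_fun hs₀ (π'.rangeRestrict x))
      rw [← hu, ← hu', ← TensorProduct.map_map, hv, map_zero, map_zero]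
      exact zero_mem _

end Groth.Agent.SegreLC
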