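import Mathlib
import Groth.Agent.SegreLC.SegInj
import Groth.Agent.SegreLC.KunnethEquiv
import Groth.Agent.SegreLC.Connect
import Groth.Agent.SegreLC.Compare

/-! The total resolution of a Segre product of graded modules. -/

set_option autoImplicit false
set_option linter.unusedSectionVars false
set_option maxHeartbeats 500000
universe u

open DirectSum TensorProduct

namespace Groth.Agent.SegreLC

section totMap

variable {k : Type u} [Field k] {C : ℕ → Type u} [∀ n, AddCommGroup (C n)] [∀ n, Module k (C n)]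
  {dC : ∀ n, C n →ₗ[k] C (n + 1)} {D : ℕ → Type u} [∀ n, AddCommGroup (D n)] [∀ n, Module k (D n)]
  {dD : ∀ n, D n →ₗ[k] D (n + 1)}
  {C' : ℕ → Type u} [∀ n, AddCommGroup (C' n)] [∀ n, Module k (C' n)]
  {dC' : ∀ n, C' n →ₗ[k] C' (n + 1)} {D' : ℕ → Type u} [∀ n, AddCommGroup (D' n)] [∀ n, Module k (D' n)]
  {dD' : ∀ n, D' n →ₗ[k] D' (n + 1)}

/-- Componentwise tensor maps. -/
noncomputable def totMap (f : ∀ n, C n →ₗ[k] C' n) (g : ∀ n, D n →ₗ[k] D' n) :
    (∀ i j, C i ⊗[k] D j) →ₗ[k] (∀ i j, C' i ⊗[k] D' j) :=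
  LinearMap.pi fun i => LinearMap.pi fun j => (TensorProduct.map (f i) (g j)).comp (totEv C D i j)

theorem totMap_apply (f : ∀ n, C n →ₗ[k] C' n) (g : ∀ n, D n →ₗ[k] D' n) (x : ∀ i j, C i ⊗[k] D j) (i j : ℕ) :
    totMap f g x i j = TensorProduct.map (f i) (g j) (x i j) := rfl

theorem totMap_mem (f : ∀ n, C n →ₗ[k] C' n) (g : ∀ n, D n →ₗ[k] D' n) {n : ℕ} {x : ∀ i j, C i ⊗[k] D j}
    (hx : x ∈ totDeg k C D n) : totMap f g x ∈ totDeg k C' D' n := fun i j hij => by
  rw [totMap_apply, hx i j hij, map_zero]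

theorem totD_natural (f : ∀ n, C n →ₗ[k] C' n) (hf : ∀ n x, f (n + 1) (dC n x) = dC' n (f n x))
    (g : ∀ n, D n →ₗ[k] D' n) (hg : ∀ n x, g (n + 1) (dD n x) = dD' n (g n x)) (x : ∀ i j, C i ⊗[k] D j) :
    totD dC' dD' (totMap f g x) = totMap f g (totD dC dD x) := by
  have h1 : ∀ i j (w : C i ⊗[k] D j), (dC' i).rTensor (D' j) (TensorProduct.map (f i) (g j) w) =
      TensorProduct.map (f (i + 1)) (g j) ((dC i).rTensor (D j) w) := fun i j w => by
    induction w using TensorProduct.induction_on with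
    | zero => simp
    | add p q hp hq => rw [map_add, map_add, map_add, map_add, hp, hq]
    | tmul a b => simp [hf]
  have h2 : ∀ i j (w : C i ⊗[k] D j), (dD' j).lTensor (C' i) (TensorProduct.map (f i) (g j) w) =
      TensorProduct.map (f i) (g (j + 1)) ((dD j).lTensor (C i) w) := fun i j w => by
    induction w using TensorProduct.induction_on with
    | zero => simp
    | add p q hp hq => rw [map_add, map_add, map_add, map_add, hp, hq]
    | tmul a b => simp [hg]
  funext i j
  rcases i with _ | i <;> rcases j with _ | j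
  · rw [totMap_apply, totD_zero_zero, totD_zero_zero, map_zero]
  · rw [totMap_apply, totD_zero_succ, totD_zero_succ, totMap_apply, h2]
  · rw [totMap_apply, totD_succ_zero, totD_succ_zero, totMap_apply, h1]
  · rw [totMap_apply, totD_succ_succ, totD_succ_succ, totMap_apply, totMap_apply, h1, h2, map_add, map_smul]

/-- The map of total complexes. -/
noncomputable def totp (f : ∀ n, C n →ₗ[k] C' n) (g : ∀ n, D n →ₗ[k] D' n) (n : ℕ) :
    totDeg k C D n →ₗ[k] totDeg k C' D' n :=
  ((totMap f g).comp (totDeg k C D n).subtype).codRestrict _ fun x => totMap_mem f g x.2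

theorem totp_comm (f : ∀ n, C n →ₗ[k] C' n) (hf : ∀ n x, f (n + 1) (dC n x) = dC' n (f n x))
    (g : ∀ n, D n →ₗ[k] D' n) (hg : ∀ n x, g (n + 1) (dD n x) = dD' n (g n x)) (n : ℕ) (x : totDeg k C D n) :
    totp f g (n + 1) (totd dC dD n x) = totd dC' dD' n (totp f g n x) :=
  Subtype.ext (totD_natural f hf g hg x.1).symm

theorem totD_totD (hC : ∀ n x, dC (n + 1) (dC n x) = 0) (hD : ∀ n x, dD (n + 1) (dD n x) = 0)
    (x : ∀ i j, C i ⊗[k] D j) : totD dC dD (totD dC dD x) = 0 := by
  have hcd : ∀ (a b : ℕ) (z : C a ⊗[k] D b),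
      (dC a).rTensor (D (b + 1)) ((dD b).lTensor (C a) z) = (dD b).lTensor (C (a + 1)) ((dC a).rTensor (D b) z) :=
    fun a b z => by rw [← LinearMap.comp_apply, LinearMap.rTensor_comp_lTensor, ← LinearMap.lTensor_comp_rTensor]; rfl
  have hcc : ∀ (a b : ℕ) (z : C a ⊗[k] D b), (dC (a + 1)).rTensor (D b) ((dC a).rTensor (D b) z) = 0 :=
    fun a b z => by
      rw [← LinearMap.rTensor_comp_apply, show (dC (a + 1)).comp (dC a) = 0 from LinearMap.ext (hC a),
        LinearMap.rTensor_zero]
      rfl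
  have hdd : ∀ (a b : ℕ) (z : C a ⊗[k] D b), (dD (b + 1)).lTensor (C a) ((dD b).lTensor (C a) z) = 0 :=
    fun a b z => by
      rw [← LinearMap.lTensor_comp_apply, show (dD (b + 1)).comp (dD b) = 0 from LinearMap.ext (hD b),
        LinearMap.lTensor_zero]
      rfl
  funext i j
  show totD _ _ _ i j = 0
  rcases i with _ | i <;> rcases j with _ | j
  · rfl
  · rw [totD_zero_succ]
    cases j with
    | zero => rw [totD_zero_zero, map_zero]
    | succ j => rw [totD_zero_succ, hdd]
  · rw [totD_succ_zero]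
    cases i with
    | zero => rw [totD_zero_zero, map_zero]
    | succ i => rw [totD_succ_zero, hcc]
  · rw [totD_succ_succ]
    rcases i with _ | i <;> rcases j with _ | j
    · rw [totD_zero_succ, totD_succ_zero, hcd]
      simp
    · rw [totD_zero_succ, totD_succ_succ, map_add, map_smul, hcd, hdd]
      simp
    · rw [totD_succ_succ, totD_succ_zero, map_add, map_smul, hcd, hcc]
      simp [pow_succ]
    · rw [totD_succ_succ, totD_succ_succ, map_add, map_smul, map_add, map_smul, hcd, hcc, hdd]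
      simp [pow_succ]

/-- The kernel of the first differentials of a tensor product. -/
theorem exists_map_preimage {M₀ M₁ M₂ N₀ N₁ N₂ : Type u} [AddCommGroup M₀] [Module k M₀] [AddCommGroup M₁]
    [Module k M₁] [AddCommGroup M₂] [Module k M₂] [AddCommGroup N₀] [Module k N₀] [AddCommGroup N₁] [Module k N₁]
    [AddCommGroup N₂] [Module k N₂] {f : M₀ →ₗ[k] M₁} {g : M₁ →ₗ[k] M₂} (hf : Function.Injective f)
    (hfg : Function.Exact f g) {f' : N₀ →ₗ[k] N₁} {g' : N₁ →ₗ[k] N₂} (hfg' : Function.Exact f' g')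
    {z : M₁ ⊗[k] N₁} (h1 : g.rTensor N₁ z = 0) (h2 : g'.lTensor M₁ z = 0) :
    ∃ v, TensorProduct.map f f' v = z := by
  obtain ⟨u, rfl⟩ := (Module.Flat.rTensor_exact N₁ hfg z).1 h1
  have h3 : f.rTensor N₂ (g'.lTensor M₀ u) = 0 := by
    rw [← LinearMap.comp_apply, LinearMap.rTensor_comp_lTensor, ← LinearMap.lTensor_comp_rTensor]
    exact h2
  obtain ⟨v, rfl⟩ := (Module.Flat.lTensor_exact M₀ hfg' u).1
    (Module.Flat.rTensor_preserves_injective_linearMap f hf (h3.trans (map_zero _).symm))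
  exact ⟨v, by rw [← LinearMap.rTensor_comp_lTensor, LinearMap.comp_apply]⟩

end totMap

theorem grId {R : Type u} [CommRing R] {σ : Type u} [SetLike σ R] [AddSubgroupClass σ R] {𝒜 : ℤ → σ}
    [GradedRing 𝒜] (X : GrLC.GMod.{u} 𝒜) : GrLC.IsGrHom X.gr X.gr (LinearMap.id : X.carrier →ₗ[R] X.carrier) :=
  fun _ _ h => h

theorem tensorMap_injective {k : Type u} [Field k] {M M' N N' : Type u} [AddCommGroup M] [Module k M]
    [AddCommGroup M'] [Module k M'] [AddCommGroup N] [Module k N] [AddCommGroup N'] [Module k N']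
    {f : M →ₗ[k] M'} {g : N →ₗ[k] N'} (hf : Function.Injective f) (hg : Function.Injective g) :
    Function.Injective (TensorProduct.map f g) := by
  rw [← LinearMap.rTensor_comp_lTensor, LinearMap.coe_comp]
  exact (Module.Flat.rTensor_preserves_injective_linearMap f hf).comp
    (Module.Flat.lTensor_preserves_injective_linearMap g hg)

variable {k : Type u} [Field k] {R : Type u} [CommRing R] [Algebra k R] {𝒜 : ℤ → Submodule k R} [GradedAlgebra 𝒜]
  {S : Type u} [CommRing S] [Algebra k S] {ℬ : ℤ → Submodule k S} [GradedAlgebra ℬ]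
  {T : Type u} [CommRing T] [Algebra k T] {𝒯 : ℤ → Submodule k T} [GradedAlgebra 𝒯]
  {ψ : T →ₐ[k] R ⊗[k] S} (hdegT : ∀ n : ℤ, (𝒯 n).map ψ.toLinearMap = GrSeg.segrePiece k 𝒜 ℬ n)
  {X₀ : GrLC.GMod.{u} 𝒜} (E : GrLC.StarInjRes 𝒜 X₀.gr) {Y₀ : GrLC.GMod.{u} ℬ} (F : GrLC.StarInjRes ℬ Y₀.gr)

/-- The bidegrees of total degree `n`. -/
abbrev TI (n : ℕ) : Type := ↥(Finset.HasAntidiagonal.antidiagonal n : Finset (ℕ × ℕ))

/-- An index. -/
abbrev ti {n : ℕ} (i j : ℕ) (h : i + j = n) : TI n := ⟨(i, j), Finset.HasAntidiagonal.mem_antidiagonal.2 h⟩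

/-- The terms of the total resolution. -/
noncomputable def totX (n : ℕ) : GrLC.GMod.{u} 𝒯 :=
  piGMod (fun p : TI n => seg hdegT (E.X p.1.1) (F.X p.1.2))

/-- A component. -/
noncomputable def totπ (n : ℕ) (p : TI n) :
    (totX hdegT E F n).carrier →ₗ[T] (seg hdegT (E.X p.1.1) (F.X p.1.2)).carrier where
  toFun x := x p
  map_add' _ _ := rfl
  map_smul' _ _ := rfl

theorem totπ_ext {n : ℕ} {x y : (totX hdegT E F n).carrier}
    (h : ∀ p, totπ hdegT E F n p x = totπ hdegT E F n p y) : x = y := funext h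

theorem exists_totX {n : ℕ} (f : ∀ p : TI n, (seg hdegT (E.X p.1.1) (F.X p.1.2)).carrier) :
    ∃ x : (totX hdegT E F n).carrier, ∀ p, totπ hdegT E F n p x = f p := ⟨f, fun _ => rfl⟩

/-- A component of the differential. -/
noncomputable def dComp (n : ℕ) : ∀ i j : ℕ, i + j = n + 1 →
    ((totX hdegT E F n).carrier →ₗ[T] (seg hdegT (E.X i) (F.X j)).carrier)
  | 0, 0, _ => 0
  | i + 1, 0, h => (segMap hdegT (E.d i) (E.d_grHom i) LinearMap.id (grId (F.X 0))) ∘ₗ
      totπ hdegT E F n (ti i 0 (by omega))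
  | 0, j + 1, h => (segMap hdegT LinearMap.id (grId (E.X 0)) (F.d j) (F.d_grHom j)) ∘ₗ
      totπ hdegT E F n (ti 0 j (by omega))
  | i + 1, j + 1, h => (segMap hdegT (E.d i) (E.d_grHom i) LinearMap.id (grId (F.X (j + 1)))) ∘ₗ
      totπ hdegT E F n (ti i (j + 1) (by omega)) +
      (-1 : ℤ) ^ (i + 1) • ((segMap hdegT LinearMap.id (grId (E.X (i + 1))) (F.d j) (F.d_grHom j)) ∘ₗ
      totπ hdegT E F n (ti (i + 1) j (by omega)))

/-- The differential. -/
noncomputable def totdX (n : ℕ) : (totX hdegT E F n).carrier →ₗ[T] (totX hdegT E F (n + 1)).carrier where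
  toFun x := fun p => dComp hdegT E F n p.1.1 p.1.2 (Finset.HasAntidiagonal.mem_antidiagonal.1 p.2) x
  map_add' _ _ := funext fun _ => map_add _ _ _
  map_smul' _ _ := funext fun _ => map_smul _ _ _

theorem totdX_grHom (n : ℕ) : GrLC.IsGrHom (totX hdegT E F n).gr (totX hdegT E F (n + 1)).gr (totdX hdegT E F n) := by
  intro g x hx p
  show dComp hdegT E F n p.1.1 p.1.2 (Finset.HasAntidiagonal.mem_antidiagonal.1 p.2) x ∈ _
  obtain ⟨⟨i, j⟩, hp⟩ := p
  have hij := Finset.HasAntidiagonal.mem_antidiagonal.1 hp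
  rcases i with _ | i <;> rcases j with _ | j
  · exact zero_mem _
  · exact segMap_grHom hdegT LinearMap.id (grId _) (F.d j) (F.d_grHom j) g _ (hx (ti 0 j (by omega)))
  · exact segMap_grHom hdegT (E.d i) (E.d_grHom i) LinearMap.id (grId _) g _ (hx (ti i 0 (by omega)))
  · exact add_mem
      (segMap_grHom hdegT (E.d i) (E.d_grHom i) LinearMap.id (grId _) g _ (hx (ti i (j + 1) (by omega))))
      (zsmul_mem
        (segMap_grHom hdegT LinearMap.id (grId _) (F.d j) (F.d_grHom j) g _ (hx (ti (i + 1) j (by omega)))) _)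

/-- The components as tensors. -/
noncomputable def totEmb (n : ℕ) :
    (totX hdegT E F n).carrier →ₗ[k] (∀ i j, (E.X i).carrier ⊗[k] (F.X j).carrier) where
  toFun x i j := if h : i + j = n then segInc hdegT (E.X i) (F.X j) (totπ hdegT E F n (ti i j h) x) else 0
  map_add' x y := funext fun i => funext fun j => by
    simp only [Pi.add_apply]
    split_ifs
    · rw [map_add, map_add]
    · rw [add_zero]
  map_smul' c x := funext fun i => funext fun j => by
    simp only [Pi.smul_apply, RingHom.id_apply]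
    split_ifs
    · rw [← algebraMap_smul T c x, map_smul, algebraMap_smul, map_smul]
    · rw [smul_zero]

theorem totEmb_of_eq {n i j : ℕ} (x : (totX hdegT E F n).carrier) (h : i + j = n) :
    totEmb hdegT E F n x i j = segInc hdegT (E.X i) (F.X j) (totπ hdegT E F n (ti i j h) x) := dif_pos h

theorem totEmb_mem (n : ℕ) (x : (totX hdegT E F n).carrier) :
    totEmb hdegT E F n x ∈ totDeg k (fun i => (E.X i).carrier) (fun j => (F.X j).carrier) n :=
  fun _ _ h => dif_neg h

theorem totEmb_injective (n : ℕ) : Function.Injective (totEmb hdegT E F n) := fun x y h => by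
  refine totπ_ext hdegT E F fun p => segInc_injective hdegT _ _ ?_
  obtain ⟨⟨i, j⟩, hp⟩ := p
  have h' := congrFun (congrFun h i) j
  rwa [totEmb_of_eq hdegT E F x (Finset.HasAntidiagonal.mem_antidiagonal.1 hp),
    totEmb_of_eq hdegT E F y (Finset.HasAntidiagonal.mem_antidiagonal.1 hp)] at h'

/-- The differential of `E` over the field. -/
noncomputable abbrev kd (i : ℕ) : (E.X i).carrier →ₗ[k] (E.X (i + 1)).carrier := (E.d i).restrictScalars k

theorem totEmb_totdX (n : ℕ) (x : (totX hdegT E F n).carrier) :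
    totEmb hdegT E F (n + 1) (totdX hdegT E F n x) = totD (kd E) (kd F) (totEmb hdegT E F n x) := by
  funext i j
  by_cases h : i + j = n + 1
  · rw [totEmb_of_eq hdegT E F _ h]
    show segInc hdegT _ _ (dComp hdegT E F n i j h x) = _
    rcases i with _ | i <;> rcases j with _ | j
    · omega
    · rw [totD_zero_succ, totEmb_of_eq hdegT E F x (show 0 + j = n by omega)]
      show segInc hdegT _ _ (segMap hdegT LinearMap.id (grId _) (F.d j) (F.d_grHom j) _) = _
      rw [segInc_segMap]; rfl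
    · rw [totD_succ_zero, totEmb_of_eq hdegT E F x (show i + 0 = n by omega)]
      show segInc hdegT _ _ (segMap hdegT (E.d i) (E.d_grHom i) LinearMap.id (grId _) _) = _
      rw [segInc_segMap]; rfl
    · rw [totD_succ_succ, totEmb_of_eq hdegT E F x (show i + (j + 1) = n by omega),
        totEmb_of_eq hdegT E F x (show i + 1 + j = n by omega)]
      show segInc hdegT _ _ (segMap hdegT (E.d i) (E.d_grHom i) LinearMap.id (grId _) _ +
        (-1 : ℤ) ^ (i + 1) • segMap hdegT LinearMap.id (grId _) (F.d j) (F.d_grHom j) _) = _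
      rw [map_add, map_zsmul, segInc_segMap, segInc_segMap, ← Int.cast_smul_eq_zsmul k ((-1 : ℤ) ^ (i + 1))]
      push_cast
      rfl
  · rw [totEmb_mem hdegT E F (n + 1) _ i j h, totD_mem _ _ (totEmb_mem hdegT E F n x) i j h]

/-- A component of the augmentation. -/
noncomputable def εComp : ∀ i j : ℕ, i + j = 0 →
    ((seg hdegT X₀ Y₀).carrier →ₗ[T] (seg hdegT (E.X i) (F.X j)).carrier)
  | 0, 0, _ => segMap hdegT E.ε E.ε_grHom F.ε F.ε_grHom
  | 0, _ + 1, h => absurd h (by omega)
  | _ + 1, _, h => absurd h (by omega)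

/-- The augmentation. -/
noncomputable def totε : (seg hdegT X₀ Y₀).carrier →ₗ[T] (totX hdegT E F 0).carrier where
  toFun x := fun p => εComp hdegT E F p.1.1 p.1.2 (Finset.HasAntidiagonal.mem_antidiagonal.1 p.2) x
  map_add' _ _ := funext fun _ => map_add _ _ _
  map_smul' _ _ := funext fun _ => map_smul _ _ _

theorem totε_grHom : GrLC.IsGrHom (seg hdegT X₀ Y₀).gr (totX hdegT E F 0).gr (totε hdegT E F) := by
  intro g x hx p
  show εComp hdegT E F p.1.1 p.1.2 (Finset.HasAntidiagonal.mem_antidiagonal.1 p.2) x ∈ _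
  obtain ⟨⟨i, j⟩, hp⟩ := p
  obtain ⟨rfl, rfl⟩ : i = 0 ∧ j = 0 := by
    have := Finset.HasAntidiagonal.mem_antidiagonal.1 hp; omega
  exact segMap_grHom hdegT E.ε E.ε_grHom F.ε F.ε_grHom g _ hx

theorem totEmb_totε (v : (seg hdegT X₀ Y₀).carrier) :
    totEmb hdegT E F 0 (totε hdegT E F v) 0 0 =
      TensorProduct.map (E.ε.restrictScalars k) (F.ε.restrictScalars k) (segInc hdegT X₀ Y₀ v) := by
  rw [totEmb_of_eq hdegT E F _ (by rfl : 0 + 0 = 0)]
  exact segInc_segMap hdegT E.ε E.ε_grHom F.ε F.ε_grHom v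

theorem totε_injective : Function.Injective (totε hdegT E F) := fun v w h => by
  refine segInc_injective hdegT X₀ Y₀ (tensorMap_injective (f := E.ε.restrictScalars k) (g := F.ε.restrictScalars k)
    E.ε_injective F.ε_injective ?_)
  rw [← totEmb_totε, ← totEmb_totε, h]

theorem segProjAux_map {X : GrLC.GMod.{u} 𝒜} {Y : GrLC.GMod.{u} ℬ} {X' : GrLC.GMod.{u} 𝒜} {Y' : GrLC.GMod.{u} ℬ}
    {f : X.carrier →ₗ[R] X'.carrier} (hf : GrLC.IsGrHom X.gr X'.gr f)
    {g : Y.carrier →ₗ[S] Y'.carrier} (hg : GrLC.IsGrHom Y.gr Y'.gr g) (d : ℤ) (w : X.carrier ⊗[k] Y.carrier) :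
    segProjAux X' Y' d (TensorProduct.map (f.restrictScalars k) (g.restrictScalars k) w) =
      TensorProduct.map (f.restrictScalars k) (g.restrictScalars k) (segProjAux X Y d w) := by
  induction w using TensorProduct.induction_on with
  | zero => simp
  | add p q hp hq => simp only [map_add, hp, hq]
  | tmul a b =>
    show TensorProduct.map _ _ (TensorProduct.map _ _ (a ⊗ₜ[k] b)) = TensorProduct.map _ _ (TensorProduct.map _ _ (a ⊗ₜ[k] b))
    simp only [TensorProduct.map_tmul, SegreDim.pieceProj_apply, LinearMap.coe_restrictScalars]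
    exact congrArg₂ (· ⊗ₜ[k] ·) (GrLib.proj_map hf d a) (GrLib.proj_map hg d b)

theorem kd_coh (n : ℕ) (z : (E.X (n + 1)).carrier) (hz : kd E (n + 1) z = 0) : ∃ w, kd E n w = z :=
  GrLib.exists_d_eq E n hz

theorem subsingleton_coh_kd (n : ℕ) : Subsingleton (Coh (kd E) (n + 1)) :=
  subsingleton_of_forall_eq 0 fun c => by
    obtain ⟨z, rfl⟩ := Submodule.Quotient.mk_surjective _ c
    exact (cls_eq_zero_iff _).2 (kd_coh E n z.1 (LinearMap.mem_ker.1 z.2))

theorem totEmb_mem_piece {n : ℕ} {d : ℤ} {x : (totX hdegT E F n).carrier} (hx : x ∈ (totX hdegT E F n).gr d)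
    (i j : ℕ) : segProjAux (E.X i) (F.X j) d (totEmb hdegT E F n x i j) = totEmb hdegT E F n x i j := by
  by_cases h : i + j = n
  · have hm : segInc hdegT (E.X i) (F.X j) (totπ hdegT E F n (ti i j h) x) ∈
        GrSeg.segrePiece k (E.X i).gr (F.X j).gr d := hx (ti i j h)
    rw [totEmb_of_eq hdegT E F x h, segProjAux_of_mem _ _ hm, if_pos rfl]
  · rw [totEmb_mem hdegT E F n x i j h, map_zero]

theorem totε_exact : Function.Exact (totε hdegT E F) (totdX hdegT E F 0) := by
  intro x
  constructor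
  · intro hx
    refine GrLib.mem_of_proj_mem (ℳ := (totX hdegT E F 0).gr) (p := LinearMap.range (totε hdegT E F)) fun d => ?_
    have hy : totdX hdegT E F 0 (GrLib.proj (totX hdegT E F 0).gr d x) = 0 := by
      rw [← GrLib.proj_map (totdX_grHom hdegT E F 0), hx, map_zero]
    have hyd := GrLib.proj_mem (totX hdegT E F 0).gr d x
    generalize GrLib.proj (totX hdegT E F 0).gr d x = y at hy hyd
    have hD := totEmb_totdX hdegT E F 0 y
    rw [hy, map_zero] at hD
    have h10 := congrFun (congrFun hD 1) 0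
    have h01 := congrFun (congrFun hD 0) 1
    rw [totD_succ_zero] at h10
    rw [totD_zero_succ] at h01
    obtain ⟨v, hv⟩ := exists_map_preimage (M₀ := X₀.carrier) (M₁ := (E.X 0).carrier) (M₂ := (E.X 1).carrier)
      (N₀ := Y₀.carrier) (N₁ := (F.X 0).carrier) (N₂ := (F.X 1).carrier)
      (f := E.ε.restrictScalars k) (g := kd E 0) E.ε_injective
      (fun z => ⟨fun h => GrLib.exists_ε_eq E h, fun ⟨m, hm⟩ => hm ▸ GrLib.d_comp_ε E m⟩)
      (f' := F.ε.restrictScalars k) (g' := kd F 0)
      (fun z => ⟨fun h => GrLib.exists_ε_eq F h, fun ⟨m, hm⟩ => hm ▸ GrLib.d_comp_ε F m⟩) h10.symm h01.symm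
    obtain ⟨w, hw⟩ := exists_seg hdegT X₀ Y₀ (piece_le_segSub X₀ Y₀ d (segProjAux_mem X₀ Y₀ d v))
    refine ⟨w, totEmb_injective hdegT E F 0 (funext fun i => funext fun j => ?_)⟩
    by_cases hij : i + j = 0
    · obtain ⟨rfl, rfl⟩ : i = 0 ∧ j = 0 := by omega
      rw [totEmb_totε, hw, ← segProjAux_map E.ε_grHom F.ε_grHom, hv]
      exact totEmb_mem_piece hdegT E F hyd 0 0
    · rw [totEmb_mem hdegT E F 0 _ i j hij, totEmb_mem hdegT E F 0 _ i j hij]
  · rintro ⟨v, rfl⟩
    refine totEmb_injective hdegT E F 1 ?_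
    rw [totEmb_totdX, map_zero]
    funext i j
    have hεd : ∀ m, kd E 0 (E.ε m) = 0 := fun m => GrLib.d_comp_ε E m
    have hεd' : ∀ m, kd F 0 (F.ε m) = 0 := fun m => GrLib.d_comp_ε F m
    by_cases h : i + j = 1
    · rcases i with _ | i
      · obtain rfl : j = 1 := by omega
        rw [totD_zero_succ, totEmb_totε]
        show _ = (0 : (E.X 0).carrier ⊗[k] (F.X 1).carrier)
        generalize segInc hdegT X₀ Y₀ v = w
        induction w using TensorProduct.induction_on with
        | zero => simp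
        | add p q hp hq => rw [map_add, map_add, hp, hq, add_zero]
        | tmul a b => simp [hεd']
      · obtain ⟨rfl, rfl⟩ : i = 0 ∧ j = 0 := by omega
        rw [totD_succ_zero, totEmb_totε]
        show _ = (0 : (E.X 1).carrier ⊗[k] (F.X 0).carrier)
        generalize segInc hdegT X₀ Y₀ v = w
        induction w using TensorProduct.induction_on with
        | zero => simp
        | add p q hp hq => rw [map_add, map_add, hp, hq, add_zero]
        | tmul a b => simp [hεd]
    · exact totD_mem _ _ (totEmb_mem hdegT E F 0 _) i j h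

theorem totdX_exact (n : ℕ) : Function.Exact (totdX hdegT E F n) (totdX hdegT E F (n + 1)) := by
  intro x
  have hdd : ∀ i (z : (E.X i).carrier), kd E (i + 1) (kd E i z) = 0 := fun i z => GrLib.d_comp_d E i z
  have hdd' : ∀ i (z : (F.X i).carrier), kd F (i + 1) (kd F i z) = 0 := fun i z => GrLib.d_comp_d F i z
  constructor
  · intro hx
    refine GrLib.mem_of_proj_mem (ℳ := (totX hdegT E F (n + 1)).gr)
      (p := LinearMap.range (totdX hdegT E F n)) fun d => ?_
    have hy : totdX hdegT E F (n + 1) (GrLib.proj (totX hdegT E F (n + 1)).gr d x) = 0 := by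
      rw [← GrLib.proj_map (totdX_grHom hdegT E F (n + 1)), hx, map_zero]
    have hyd := GrLib.proj_mem (totX hdegT E F (n + 1)).gr d x
    generalize GrLib.proj (totX hdegT E F (n + 1)).gr d x = y at hy hyd
    have hD := totEmb_totdX hdegT E F (n + 1) y
    rw [hy, map_zero] at hD
    obtain ⟨w, hw⟩ := tot_exact (kd E) (kd F) hdd hdd' n (fun i j hij => by
      rcases i with _ | i
      · obtain rfl : j = n + 1 := by omega
        exact Or.inr (subsingleton_coh_kd F n)
      · exact Or.inl (subsingleton_coh_kd E i)) ⟨_, totEmb_mem hdegT E F (n + 1) y⟩ (Subtype.ext hD.symm)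
    have hpre : ∀ p : TI n, ∃ v : (seg hdegT (E.X p.1.1) (F.X p.1.2)).carrier,
        segInc hdegT _ _ v = segProjAux (E.X p.1.1) (F.X p.1.2) d (w.1 p.1.1 p.1.2) := fun p =>
      exists_seg hdegT _ _ (piece_le_segSub _ _ d (segProjAux_mem _ _ d _))
    choose v hv using hpre
    obtain ⟨x', hx'⟩ := exists_totX hdegT E F v
    refine ⟨x', totEmb_injective hdegT E F (n + 1) ?_⟩
    have hemb : totEmb hdegT E F n x' =
        totMap (fun i => SegreDim.pieceProj 𝒜 (E.X i).gr d) (fun j => SegreDim.pieceProj ℬ (F.X j).gr d) w.1 := by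
      funext i j
      by_cases h : i + j = n
      · rw [totEmb_of_eq hdegT E F x' h, hx']; exact hv (ti i j h)
      · rw [totEmb_mem hdegT E F n x' i j h, totMap_apply, w.2 i j h, map_zero]
    rw [totEmb_totdX, hemb, totD_natural (dC := kd E) (dD := kd F) _
      (fun i z => GrLib.proj_map (E.d_grHom i) d z) _ (fun i z => GrLib.proj_map (F.d_grHom i) d z),
      show totD (kd E) (kd F) w.1 = totEmb hdegT E F (n + 1) y from congrArg Subtype.val hw]
    funext i j
    exact totEmb_mem_piece hdegT E F hyd i j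
  · rintro ⟨y, rfl⟩
    refine totEmb_injective hdegT E F (n + 2) ?_
    rw [totEmb_totdX, totEmb_totdX, map_zero]
    exact totD_totD hdd hdd' _

end Groth.Agent.SegreLC
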