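import Mathlib
import Groth.Agent.SegreLC.Tot
import Groth.Agent.SegreLC.Connect
import Groth.Agent.SegreLC.Pieces

/-! The torsion of the total resolution, in one degree. -/

set_option autoImplicit false
set_option linter.unusedSectionVars false
set_option maxHeartbeats 500000
universe u

open DirectSum TensorProduct

namespace Groth.Agent.SegreLC

section generic

variable {k : Type u} [Field k] {V : ℕ → Type u} [∀ n, AddCommGroup (V n)] [∀ n, Module k (V n)]
  {dV : ∀ n, V n →ₗ[k] V (n + 1)} {C : ℕ → Type u} [∀ n, AddCommGroup (C n)] [∀ n, Module k (C n)]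
  {dC : ∀ n, C n →ₗ[k] C (n + 1)} {D : ℕ → Type u} [∀ n, AddCommGroup (D n)] [∀ n, Module k (D n)]
  {dD : ∀ n, D n →ₗ[k] D (n + 1)}
  {C' : ℕ → Type u} [∀ n, AddCommGroup (C' n)] [∀ n, Module k (C' n)] {dC' : ∀ n, C' n →ₗ[k] C' (n + 1)}
  {D' : ℕ → Type u} [∀ n, AddCommGroup (D' n)] [∀ n, Module k (D' n)] {dD' : ∀ n, D' n →ₗ[k] D' (n + 1)}

/-- The kernel of a projection of total complexes, in one degree. -/
def TK (p : ∀ n, C n →ₗ[k] C' n) (q : ∀ n, D n →ₗ[k] D' n) (n : ℕ) : Type u := ↥(LinearMap.ker (totp p q n))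

noncomputable instance (p : ∀ n, C n →ₗ[k] C' n) (q : ∀ n, D n →ₗ[k] D' n) (n : ℕ) : AddCommGroup (TK p q n) :=
  inferInstanceAs (AddCommGroup ↥(LinearMap.ker (totp p q n)))

noncomputable instance (p : ∀ n, C n →ₗ[k] C' n) (q : ∀ n, D n →ₗ[k] D' n) (n : ℕ) : Module k (TK p q n) :=
  inferInstanceAs (Module k ↥(LinearMap.ker (totp p q n)))

/-- The differential of the kernel of a projection of total complexes. -/
noncomputable def tkd {p : ∀ n, C n →ₗ[k] C' n} (hp : ∀ n x, p (n + 1) (dC n x) = dC' n (p n x))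
    {q : ∀ n, D n →ₗ[k] D' n} (hq : ∀ n x, q (n + 1) (dD n x) = dD' n (q n x)) (n : ℕ) :
    TK p q n →ₗ[k] TK p q (n + 1) :=
  kerd (totp_comm p hp q hq) n

/-- A complex mapped isomorphically onto the kernel of a projection of total complexes. -/
theorem nonempty_cohEquiv_kerd {p : ∀ n, C n →ₗ[k] C' n} (hp : ∀ n x, p (n + 1) (dC n x) = dC' n (p n x))
    {q : ∀ n, D n →ₗ[k] D' n} (hq : ∀ n x, q (n + 1) (dD n x) = dD' n (q n x))
    (Ψ : ∀ n, V n →ₗ[k] ∀ i j, C i ⊗[k] D j) (hmem : ∀ n x, Ψ n x ∈ totDeg k C D n)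
    (hker : ∀ n x, totMap p q (Ψ n x) = 0) (hcomm : ∀ n x, Ψ (n + 1) (dV n x) = totD dC dD (Ψ n x))
    (hinj : ∀ n, Function.Injective (Ψ n))
    (hsurj : ∀ n (y : totDeg k C D n), totMap p q y.1 = 0 → ∃ x, Ψ n x = y.1) (n : ℕ) :
    Nonempty (Coh dV n ≃ₗ[k] Coh (tkd hp hq) n) := by
  let f : ∀ m, V m →ₗ[k] LinearMap.ker (totp p q m) := fun m =>
    ((Ψ m).codRestrict (totDeg k C D m) (hmem m)).codRestrict _ fun x => Subtype.ext (hker m x)
  refine nonempty_cohEquiv f (fun m x => Subtype.ext (Subtype.ext (hcomm m x)))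
    (fun m => ⟨fun x y h => hinj m (congrArg (fun z => z.1.1) h), fun z => ?_⟩) n
  obtain ⟨x, hx⟩ := hsurj m z.1 (congrArg Subtype.val (LinearMap.mem_ker.1 z.2))
  exact ⟨x, Subtype.ext (Subtype.ext hx)⟩

end generic

variable {k : Type u} [Field k] {R : Type u} [CommRing R] [Algebra k R] {𝒜 : ℤ → Submodule k R} [GradedAlgebra 𝒜]
  {S : Type u} [CommRing S] [Algebra k S] {ℬ : ℤ → Submodule k S} [GradedAlgebra ℬ]
  {T : Type u} [CommRing T] [Algebra k T] {𝒯 : ℤ → Submodule k T} [GradedAlgebra 𝒯]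
  {ψ : T →ₐ[k] R ⊗[k] S} (hdegT : ∀ n : ℤ, (𝒯 n).map ψ.toLinearMap = GrSeg.segrePiece k 𝒜 ℬ n)
  [IsNoetherianRing R] [IsNoetherianRing S] [IsNoetherianRing T]
  {mR : HomogeneousIdeal 𝒜} (hmR : mR.toIdeal = Ideal.span (⋃ n ∈ Set.Ioi (0 : ℤ), (𝒜 n : Set R)))
  {mS : HomogeneousIdeal ℬ} (hmS : mS.toIdeal = Ideal.span (⋃ n ∈ Set.Ioi (0 : ℤ), (ℬ n : Set S)))
  {mT : HomogeneousIdeal 𝒯} (hmT : mT.toIdeal = Ideal.span (⋃ n ∈ Set.Ioi (0 : ℤ), (𝒯 n : Set T)))
  {X₀ : GrLC.GMod.{u} 𝒜} (E : GrLC.StarInjRes 𝒜 X₀.gr) {Y₀ : GrLC.GMod.{u} ℬ} (F : GrLC.StarInjRes ℬ Y₀.gr)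

theorem map_pInc_pq (d : ℤ) (i j : ℕ) (w : (E.X i).carrier ⊗[k] (F.X j).carrier) :
    TensorProduct.map (pInc E d i) (pInc F d j) (TensorProduct.map (pq E d i) (pq F d j) w) =
      segProjAux (E.X i) (F.X j) d w := by
  rw [TensorProduct.map_map, pInc_pq, pInc_pq]; rfl

theorem map_pq_pInc (d : ℤ) (i j : ℕ) (z : PC E d i ⊗[k] PC F d j) :
    TensorProduct.map (pq E d i) (pq F d j) (TensorProduct.map (pInc E d i) (pInc F d j) z) = z := by
  induction z using TensorProduct.induction_on with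
  | zero => simp
  | add p q hp hq => rw [map_add, map_add, hp, hq]
  | tmul a b => rw [TensorProduct.map_tmul, TensorProduct.map_tmul, pq_pInc, pq_pInc]

theorem map_pInc_mem (d : ℤ) (i j : ℕ) (z : PC E d i ⊗[k] PC F d j) :
    TensorProduct.map (pInc E d i) (pInc F d j) z ∈ GrSeg.segrePiece k (E.X i).gr (F.X j).gr d := by
  induction z using TensorProduct.induction_on with
  | zero => rw [map_zero]; exact zero_mem _
  | add p q hp hq => rw [map_add]; exact add_mem hp hq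
  | tmul a b => exact Submodule.subset_span ⟨_, pInc_mem E d i a, _, pInc_mem F d j b, rfl⟩

/-- The components in one degree. -/
noncomputable def gamΨ (d : ℤ) (m : ℕ) :
    gamPiece mT.toIdeal (totX hdegT E F m) d →ₗ[k] ∀ i j, PC E d i ⊗[k] PC F d j :=
  ((totMap (pq E d) (pq F d)).comp (totEmb hdegT E F m)).comp (gamPiece mT.toIdeal (totX hdegT E F m) d).subtype

theorem gamΨ_apply (d : ℤ) (m : ℕ) (x : gamPiece mT.toIdeal (totX hdegT E F m) d) (i j : ℕ) :
    gamΨ hdegT E F d m x i j = TensorProduct.map (pq E d i) (pq F d j) (totEmb hdegT E F m x.1 i j) :=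
  rfl

theorem gamΨ_injective (d : ℤ) (m : ℕ) : Function.Injective (gamΨ (mT := mT) hdegT E F d m) := by
  intro x y hxy
  refine Subtype.ext (totEmb_injective hdegT E F m (funext fun i => funext fun j => ?_))
  have h := congrArg (TensorProduct.map (pInc E d i) (pInc F d j)) (congrFun (congrFun hxy i) j)
  rw [gamΨ_apply, gamΨ_apply, map_pInc_pq, map_pInc_pq,
    totEmb_mem_piece hdegT E F x.2.1 i j, totEmb_mem_piece hdegT E F y.2.1 i j] at h
  exact h

include hmR hmS hmT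

theorem acyc_totX (n : ℕ) : Acyc mT.toIdeal (totX hdegT E F n).carrier := by
  classical
  intro j hj
  refine acyc_of_sum (fun p : TI n => (seg hdegT (E.X p.1.1) (F.X p.1.2)).carrier)
    (fun p => totπ hdegT E F n p)
    (fun p => LinearMap.single T (fun p : TI n => (seg hdegT (E.X p.1.1) (F.X p.1.2)).carrier) p) (fun x => ?_)
    (fun p => acyc_seg hdegT hmR hmS hmT (E.starInj p.1.1) (F.starInj p.1.2) j hj)
  exact Finset.univ_sum_single (show ∀ p : TI n, (seg hdegT (E.X p.1.1) (F.X p.1.2)).carrier from x)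

/-- Torsion in a piece, read off in the torsion-free quotients. -/
theorem mem_gam_piece_iff (d : ℤ) (i j : ℕ) (v : (seg hdegT (E.X i) (F.X j)).carrier)
    (hm : segInc hdegT (E.X i) (F.X j) v ∈ GrSeg.segrePiece k (E.X i).gr (F.X j).gr d) :
    v ∈ GrLC.gam mT.toIdeal (seg hdegT (E.X i) (F.X j)).carrier ↔
      TensorProduct.map (bπ E mR d i) (bπ F mS d j)
        (TensorProduct.map (pq E d i) (pq F d j) (segInc hdegT (E.X i) (F.X j) v)) = 0 := by
  rw [mem_gam_seg_iff hdegT hmR hmS hmT (E.starInj i) (F.starInj j)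
    ((GrLC.gam mR.toIdeal (E.X i).carrier).restrictScalars k).mkQ (fun x => Submodule.Quotient.mk_eq_zero _)
    ((GrLC.gam mS.toIdeal (F.X j).carrier).restrictScalars k).mkQ (fun x => Submodule.Quotient.mk_eq_zero _) v]
  conv_lhs => rw [← show segProjAux (E.X i) (F.X j) d (segInc hdegT (E.X i) (F.X j) v) =
      segInc hdegT (E.X i) (F.X j) v by rw [segProjAux_of_mem _ _ hm, if_pos rfl],
    ← map_pInc_pq, TensorProduct.map_map, ← bInc_bπ E mR d i, ← bInc_bπ F mS d j, ← TensorProduct.map_map]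
  exact (tensorMap_injective (bInc_injective E mR d i) (bInc_injective F mS d j)).eq_iff' (map_zero _)

theorem mem_gam_totX (n : ℕ) (x : (totX hdegT E F n).carrier)
    (h : ∀ p, totπ hdegT E F n p x ∈ GrLC.gam mT.toIdeal (seg hdegT (E.X p.1.1) (F.X p.1.2)).carrier) :
    x ∈ GrLC.gam mT.toIdeal (totX hdegT E F n).carrier := by
  choose N hN using h
  refine ⟨∑ p, N p, fun r hr => totπ_ext hdegT E F fun p => ?_⟩
  rw [map_smul, map_zero]
  exact hN p r (Ideal.pow_le_pow_right (Finset.single_le_sum (fun _ _ => Nat.zero_le _) (Finset.mem_univ p)) hr)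

theorem gamΨ_ker (d : ℤ) (m : ℕ) (x : gamPiece mT.toIdeal (totX hdegT E F m) d) :
    totMap (bπ E mR d) (bπ F mS d) (gamΨ hdegT E F d m x) = 0 := by
  funext i j
  rw [totMap_apply, gamΨ_apply]
  show _ = (0 : BC E mR d i ⊗[k] BC F mS d j)
  by_cases h : i + j = m
  · rw [totEmb_of_eq hdegT E F _ h]
    exact (mem_gam_piece_iff hdegT hmR hmS hmT E F d i j _ (x.2.1 (ti i j h))).1
      (GrLib.map_gam_le (totπ hdegT E F m (ti i j h)) (Submodule.mem_map_of_mem x.2.2))
  · rw [totEmb_mem hdegT E F m x.1 i j h, map_zero, map_zero]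

theorem exists_piece_preimage (d : ℤ) (i j : ℕ) (z : PC E d i ⊗[k] PC F d j)
    (hz : TensorProduct.map (bπ E mR d i) (bπ F mS d j) z = 0) :
    ∃ v : (seg hdegT (E.X i) (F.X j)).carrier, v ∈ (seg hdegT (E.X i) (F.X j)).gr d ∧
      v ∈ GrLC.gam mT.toIdeal (seg hdegT (E.X i) (F.X j)).carrier ∧
      TensorProduct.map (pq E d i) (pq F d j) (segInc hdegT (E.X i) (F.X j) v) = z := by
  obtain ⟨v, hv⟩ := exists_seg hdegT (E.X i) (F.X j)
    (piece_le_segSub (E.X i) (F.X j) d (map_pInc_mem E F d i j z))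
  have hq : TensorProduct.map (pq E d i) (pq F d j) (segInc hdegT (E.X i) (F.X j) v) = z := by
    rw [hv]; exact map_pq_pInc E F d i j z
  have hm : segInc hdegT (E.X i) (F.X j) v ∈ GrSeg.segrePiece k (E.X i).gr (F.X j).gr d := by
    rw [hv]; exact map_pInc_mem E F d i j z
  exact ⟨v, hm, (mem_gam_piece_iff hdegT hmR hmS hmT E F d i j v hm).2 (by rw [hq, hz]), hq⟩

theorem gamΨ_surjective (d : ℤ) (m : ℕ) (y : totDeg k (PC E d) (PC F d) m)
    (hy : totMap (bπ E mR d) (bπ F mS d) y.1 = 0) :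
    ∃ x, gamΨ (mT := mT) hdegT E F d m x = y.1 := by
  choose v hv1 hv2 hv3 using fun p : TI m => exists_piece_preimage hdegT hmR hmS hmT E F d p.1.1 p.1.2
    (y.1 p.1.1 p.1.2) (congrFun (congrFun hy p.1.1) p.1.2)
  obtain ⟨x, hx⟩ := exists_totX hdegT E F v
  have hgr : x ∈ (totX hdegT E F m).gr d := fun p => by
    show totπ hdegT E F m p x ∈ (seg hdegT (E.X p.1.1) (F.X p.1.2)).gr d
    rw [hx p]; exact hv1 p
  refine ⟨⟨x, hgr, mem_gam_totX hdegT hmR hmS hmT E F m x fun p => by rw [hx p]; exact hv2 p⟩,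
    funext fun i => funext fun j => ?_⟩
  rw [gamΨ_apply]
  by_cases h : i + j = m
  · rw [totEmb_of_eq hdegT E F x h, hx]
    exact hv3 (ti i j h)
  · rw [totEmb_mem hdegT E F m x i j h, map_zero, y.2 i j h]

/-- The kernel of the projection to the torsion-free total complex in one degree. -/
theorem nonempty_cohEquiv_gam (d : ℤ) (n : ℕ) :
    Nonempty (Coh (gamd (totX hdegT E F) (totdX hdegT E F) (totdX_grHom hdegT E F) mT.toIdeal d) n ≃ₗ[k]
      Coh (tkd (bπ_comm E mR d) (bπ_comm F mS d)) n) :=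
  nonempty_cohEquiv_kerd (bπ_comm E mR d) (bπ_comm F mS d) (gamΨ hdegT E F d)
    (fun m x => totMap_mem _ _ (totEmb_mem hdegT E F m x.1))
    (gamΨ_ker hdegT hmR hmS hmT E F d)
    (fun m x => by
      show totMap (pq E d) (pq F d) (totEmb hdegT E F (m + 1) (totdX hdegT E F m x.1)) =
        totD (pd E d) (pd F d) (totMap (pq E d) (pq F d) (totEmb hdegT E F m x.1))
      rw [totEmb_totdX, totD_natural (dC := kd E) (dD := kd F) (pq E d) (pq_comm E d) (pq F d) (pq_comm F d)])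
    (gamΨ_injective hdegT E F d) (gamΨ_surjective hdegT hmR hmS hmT E F d) n

end Groth.Agent.SegreLC
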