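import Mathlib
import Groth.Agent.SegreLC.GamTot
import Groth.Agent.SegreLC.Connect
import Groth.Agent.SegreLC.KunnethEquiv
import Groth.Agent.GrLib.Positive
import Groth.Agent.GrLib.Piece

/-! The Künneth formula for the graded local cohomology of a Segre product. -/

set_option autoImplicit false
set_option linter.unusedSectionVars false
set_option maxHeartbeats 2000000
universe u

open DirectSum TensorProduct

namespace Groth.Agent.SegreLC

section single

variable {k : Type u} [Field k] {R : Type u} [CommRing R] [Algebra k R] {𝒜 : ℤ → Submodule k R} [GradedAlgebra 𝒜]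
  {M : Type u} [AddCommGroup M] [Module R M] [Module k M] [IsScalarTower k R M] {ℳ : ℤ → AddSubgroup M}
  [Decomposition ℳ] [SetLike.GradedSMul 𝒜 ℳ] (E : GrLC.StarInjRes 𝒜 ℳ) (a : HomogeneousIdeal 𝒜) (d : ℤ)

theorem nonempty_gamEquiv (i : ℕ) :
    Nonempty (Coh (gamd E.X E.d E.d_grHom a.toIdeal d) i ≃ₗ[k] Coh (kerd (bπ_comm E a d)) i) := by
  have hid : ∀ m (x : gamPiece a.toIdeal (E.X m) d), pInc E d m (pq E d m x.1) = x.1 := fun m x =>
    GrLib.proj_of_mem (ℳ := (E.X m).gr) x.2.1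
  let f : ∀ m, gamPiece a.toIdeal (E.X m) d →ₗ[k] LinearMap.ker (bπ E a d m) := fun m =>
    ((pq E d m).comp (gamPiece a.toIdeal (E.X m) d).subtype).codRestrict _ fun x => by
      rw [LinearMap.mem_ker, bπ_eq_zero_iff, LinearMap.comp_apply, Submodule.subtype_apply, hid]
      exact x.2.2
  refine nonempty_cohEquiv (dC := gamd E.X E.d E.d_grHom a.toIdeal d) (dD := kerd (bπ_comm E a d)) f
    (fun m x => Subtype.ext (pq_comm E d m x.1)) (fun m => ⟨fun x y h => ?_, fun z => ?_⟩) i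
  · apply Subtype.ext
    rw [← hid m x, ← hid m y]
    exact congrArg (fun z => pInc E d m z.1) h
  · exact ⟨⟨pInc E d m z.1, pInc_mem E d m z.1, (bπ_eq_zero_iff E a d m z.1).1 (LinearMap.mem_ker.1 z.2)⟩,
      Subtype.ext (pq_pInc E d m z.1)⟩

variable [Nontrivial R] (h0 : 𝒜 0 = Submodule.span k {(1 : R)})
include h0

theorem finrank_Hcomp_kerd (i : ℕ) :
    Module.finrank (GrLC.deg0 𝒜) (E.Hcomp a i d) = Module.finrank k (Coh (kerd (bπ_comm E a d)) i) := by
  obtain ⟨e⟩ := nonempty_gamEquiv E a d i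
  rw [finrank_Hcomp E a h0, e.finrank_eq]

theorem subsingleton_kerd (i : ℕ) (h : E.Hcomp a i d = ⊥) : Subsingleton (Coh (kerd (bπ_comm E a d)) i) := by
  obtain ⟨e, -⟩ := exists_hcompEquiv E a h0 i d
  obtain ⟨e'⟩ := nonempty_gamEquiv E a d i
  haveI : Subsingleton (E.Hcomp a i d) := Submodule.subsingleton_iff_eq_bot.2 h
  exact (e'.toAddEquiv.symm.trans e).toEquiv.subsingleton

theorem finite_kerd (i : ℕ) [IsNoetherian (GrLC.deg0 𝒜) (E.Hcomp a i d)] :
    Module.Finite k (Coh (kerd (bπ_comm E a d)) i) := by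
  obtain ⟨e, he⟩ := exists_hcompEquiv E a h0 i d
  obtain ⟨e'⟩ := nonempty_gamEquiv E a d i
  haveI : Nontrivial (GrLC.deg0 𝒜) := nontrivial_of_ne (0 : GrLC.deg0 𝒜) 1 fun h => zero_ne_one (congrArg Subtype.val h)
  haveI : Module.Finite k (Coh (gamd E.X E.d E.d_grHom a.toIdeal d) i) :=
    Module.rank_lt_aleph0_iff.1 (he ▸ Module.rank_lt_aleph0 (GrLC.deg0 𝒜) (E.Hcomp a i d))
  exact Module.Finite.equiv e'

end single

section aug

variable {k : Type u} [Field k] {R : Type u} [CommRing R] [Algebra k R] {𝒜 : ℤ → Submodule k R} [GradedAlgebra 𝒜]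
  {M : Type u} [AddCommGroup M] [Module R M] [Module k M] [IsScalarTower k R M] {ℳ : ℤ → AddSubgroup M}
  [Decomposition ℳ] [SetLike.GradedSMul 𝒜 ℳ] (E : GrLC.StarInjRes 𝒜 ℳ) (a : HomogeneousIdeal 𝒜) (d : ℤ)
  (V : Submodule k M) (hV : (V : Set M) = ℳ d)

/-- The augmentation in one degree. -/
noncomputable def εd : V →ₗ[k] PC E d 0 :=
  ((pq E d 0).comp (E.ε.restrictScalars k)).comp V.subtype

include hV

theorem pInc_εd (x : V) : pInc E d 0 (εd E d V x) = E.ε x.1 := by
  show GrLib.proj (E.X 0).gr d (E.ε x.1) = _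
  exact GrLib.proj_of_mem (ℳ := (E.X 0).gr) (E.ε_grHom d _ (show x.1 ∈ (ℳ d : Set M) from hV ▸ x.2))

theorem εd_injective : Function.Injective (εd E d V) := fun x y h =>
  Subtype.ext (E.ε_injective (by rw [← pInc_εd E d V hV x, ← pInc_εd E d V hV y, h]))

theorem εd_exact : Function.Exact (εd E d V) (pd E d 0) := by
  intro z
  constructor
  · intro hz
    have h := congrArg (pInc E d 1) hz
    rw [pInc_pd, map_zero] at h
    obtain ⟨m, hm⟩ := GrLib.exists_ε_eq E h
    refine ⟨⟨GrLib.proj ℳ d m, ?_⟩, pInc_injective E d 0 ?_⟩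
    · show GrLib.proj ℳ d m ∈ (V : Set M)
      rw [hV]
      exact GrLib.proj_mem ℳ d m
    · rw [pInc_εd E d V hV]
      show E.ε (GrLib.proj ℳ d m) = _
      rw [← GrLib.proj_map E.ε_grHom, hm]
      exact GrLib.proj_of_mem (ℳ := (E.X 0).gr) (pInc_mem E d 0 z)
  · rintro ⟨x, rfl⟩
    refine pInc_injective E d 1 ?_
    rw [pInc_pd, pInc_εd E d V hV, map_zero]
    exact GrLib.d_comp_ε E _

variable [Nontrivial R] (h0 : 𝒜 0 = Submodule.span k {(1 : R)}) (hH : ∀ i ≤ 1, E.Hcomp a i d = ⊥)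
include h0 hH

theorem bεd_injective_exact : Function.Injective ((bπ E a d 0).comp (εd E d V)) ∧
    Function.Exact ((bπ E a d 0).comp (εd E d V)) (bd E a d 0) := by
  obtain ⟨hi, hs⟩ := bijective_H0 (bπ_comm E a d) (bπ_surjective E a d) (pd_pd E d)
    (subsingleton_kerd E a d h0 0 (hH 0 zero_le_one)) (subsingleton_kerd E a d h0 1 (hH 1 le_rfl))
  refine ⟨(injective_iff_map_eq_zero _).2 fun x hx => εd_injective E d V hV ?_, fun q => ⟨fun hq => ?_, ?_⟩⟩
  · rw [map_zero]
    exact hi _ (((εd_exact E d V hV) _).2 ⟨x, rfl⟩) hx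
  · obtain ⟨y, hy, rfl⟩ := hs q hq
    obtain ⟨x, rfl⟩ := ((εd_exact E d V hV) y).1 hy
    exact ⟨x, rfl⟩
  · rintro ⟨x, rfl⟩
    rw [LinearMap.comp_apply, ← bπ_comm, ((εd_exact E d V hV) _).2 ⟨x, rfl⟩, map_zero]

theorem nonempty_bdEquiv_zero : Nonempty (V ≃ₗ[k] Coh (bd E a d) 0) := by
  obtain ⟨hi, hs⟩ := bεd_injective_exact E a d V hV h0 hH
  let f : V →ₗ[k] LinearMap.ker (bd E a d 0) :=
    ((bπ E a d 0).comp (εd E d V)).codRestrict _ fun x => LinearMap.mem_ker.2 ((hs _).2 ⟨x, rfl⟩)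
  refine ⟨LinearEquiv.ofBijective ((cls (bd E a d) 0).comp f)
    ⟨(injective_iff_map_eq_zero _).2 fun x hx => hi ?_, fun c => ?_⟩⟩
  · rw [map_zero]
    exact (Submodule.mem_bot k).1 ((cls_eq_zero_iff _).1 hx)
  · obtain ⟨z, rfl⟩ := Submodule.Quotient.mk_surjective _ c
    obtain ⟨x, hx⟩ := (hs z.1).1 (LinearMap.mem_ker.1 z.2)
    exact ⟨x, congrArg (cls (bd E a d) 0) (Subtype.ext hx)⟩

end aug

section conn

variable {k : Type u} [Field k] {R : Type u} [CommRing R] [Algebra k R] {𝒜 : ℤ → Submodule k R} [GradedAlgebra 𝒜]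
  {M : Type u} [AddCommGroup M] [Module R M] {ℳ : ℤ → AddSubgroup M}
  [Decomposition ℳ] [SetLike.GradedSMul 𝒜 ℳ] (E : GrLC.StarInjRes 𝒜 ℳ) (a : HomogeneousIdeal 𝒜) (d : ℤ)

theorem nonempty_bdEquiv_succ (i : ℕ) : Nonempty (Coh (bd E a d) (i + 1) ≃ₗ[k] Coh (kerd (bπ_comm E a d)) (i + 2)) :=
  exists_connEquiv (bπ_comm E a d) (bπ_surjective E a d) (pd_pd E d) i (pd_exact E d i) (pd_exact E d (i + 1))

end conn

section abstract

variable {k : Type u} [Field k] {C : ℕ → Type u} [∀ n, AddCommGroup (C n)] [∀ n, Module k (C n)]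
  {dC : ∀ n, C n →ₗ[k] C (n + 1)} {D : ℕ → Type u} [∀ n, AddCommGroup (D n)] [∀ n, Module k (D n)]
  {dD : ∀ n, D n →ₗ[k] D (n + 1)}
  {C' : ℕ → Type u} [∀ n, AddCommGroup (C' n)] [∀ n, Module k (C' n)] {dC' : ∀ n, C' n →ₗ[k] C' (n + 1)}
  {D' : ℕ → Type u} [∀ n, AddCommGroup (D' n)] [∀ n, Module k (D' n)] {dD' : ∀ n, D' n →ₗ[k] D' (n + 1)}
  {p : ∀ n, C n →ₗ[k] C' n} (hp : ∀ n x, p (n + 1) (dC n x) = dC' n (p n x))
  {g : ∀ n, D n →ₗ[k] D' n} (hg : ∀ n x, g (n + 1) (dD n x) = dD' n (g n x))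
  (hps : ∀ n, Function.Surjective (p n)) (hgs : ∀ n, Function.Surjective (g n))
  (hC : ∀ n x, dC (n + 1) (dC n x) = 0) (hD : ∀ n x, dD (n + 1) (dD n x) = 0)
  (exC : ∀ i z, dC (i + 1) z = 0 → ∃ w, dC i w = z) (exD : ∀ i z, dD (i + 1) z = 0 → ∃ w, dD i w = z)

include hps hgs in
theorem totp_surjective (m : ℕ) : Function.Surjective (totp p g m) := fun y => by
  choose w hw using fun i j => TensorProduct.map_surjective (hps i) (hgs j) (y.1 i j)
  classical
  refine ⟨⟨fun i j => if i + j = m then w i j else 0, fun i j h => if_neg h⟩, Subtype.ext ?_⟩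
  funext i j
  show TensorProduct.map (p i) (g j) (if i + j = m then w i j else 0) = y.1 i j
  split_ifs with h
  · exact hw i j
  · rw [map_zero, y.2 i j h]

include hC hD exC exD in
theorem tot_exact_of_exact (m : ℕ) (z : totDeg k C D (m + 1)) (hz : totd dC dD (m + 1) z = 0) :
    ∃ w, totd dC dD m w = z :=
  tot_exact dC dD hC hD m (fun i j hij => by
    rcases i with _ | i
    · obtain rfl : j = m + 1 := by omega
      refine Or.inr (subsingleton_of_forall_eq 0 fun c => ?_)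
      obtain ⟨z, rfl⟩ := Submodule.Quotient.mk_surjective _ c
      exact (cls_eq_zero_iff _).2 (exD m z.1 (LinearMap.mem_ker.1 z.2))
    · refine Or.inl (subsingleton_of_forall_eq 0 fun c => ?_)
      obtain ⟨z, rfl⟩ := Submodule.Quotient.mk_surjective _ c
      exact (cls_eq_zero_iff _).2 (exC i z.1 (LinearMap.mem_ker.1 z.2))) z hz

variable {V W : Type u} [AddCommGroup V] [Module k V] [AddCommGroup W] [Module k W]
  {f : V →ₗ[k] C 0} {f' : W →ₗ[k] D 0} (hf : Function.Injective f) (hfx : Function.Exact f (dC 0))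
  (hf'x : Function.Exact f' (dD 0))
  (hb : Function.Injective ((p 0).comp f)) (hbx : Function.Exact ((p 0).comp f) (dC' 0))
  (hb' : Function.Injective ((g 0).comp f')) (hb'x : Function.Exact ((g 0).comp f') (dD' 0))

include hps hgs hC hD exC exD hf hfx hf'x hb hbx hb' hb'x in
/-- The total kernel complex is acyclic in degrees zero and one. -/
theorem subsingleton_tot_low (q : ℕ) (hq : q ≤ 1) : Subsingleton (Coh (tkd hp hg) q) := by
  classical
  have hdd : ∀ m x, totd dC dD (m + 1) (totd dC dD m x) = 0 := fun m x => Subtype.ext (totD_totD hC hD x.1)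
  obtain ⟨s0, s1⟩ := subsingleton_low (totp_comm p hp g hg) (totp_surjective hps hgs) hdd
    (fun y hy hpy => Subtype.ext (funext fun i => funext fun j => by
      by_cases hij : i + j = 0
      · obtain ⟨rfl, rfl⟩ : i = 0 ∧ j = 0 := by omega
        obtain ⟨v, hv⟩ := exists_map_preimage hf hfx hf'x (z := y.1 0 0)
          (congrFun (congrFun (congrArg Subtype.val hy) 1) 0) (congrFun (congrFun (congrArg Subtype.val hy) 0) 1)
        have : TensorProduct.map (p 0) (g 0) (y.1 0 0) = 0 := congrFun (congrFun (congrArg Subtype.val hpy) 0) 0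
        rw [← hv, TensorProduct.map_map] at this
        rw [← hv, tensorMap_injective hb hb' (this.trans (map_zero _).symm), map_zero]
        rfl
      · exact y.2 i j hij))
    (fun z hz => by
      obtain ⟨v, hv⟩ := exists_map_preimage hb hbx hb'x (z := z.1 0 0)
        (congrFun (congrFun (congrArg Subtype.val hz) 1) 0) (congrFun (congrFun (congrArg Subtype.val hz) 0) 1)
      let y : ∀ i j, C i ⊗[k] D j := Pi.single 0 (Pi.single 0 (TensorProduct.map f f' v))
      have y00 : y 0 0 = TensorProduct.map f f' v := by simp [y]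
      have yne : ∀ i j, i + j ≠ 0 → y i j = 0 := fun i j hij => by
        rcases Nat.eq_zero_or_pos i with rfl | hi
        · simp [y, Pi.single_eq_of_ne (show j ≠ 0 by omega)]
        · simp [y, Pi.single_eq_of_ne (show i ≠ 0 by omega)]
      refine ⟨⟨y, yne⟩, Subtype.ext (funext fun i => funext fun j => ?_), Subtype.ext (funext fun i => funext fun j => ?_)⟩
      · show totD dC dD y i j = 0
        rcases i with _ | i <;> rcases j with _ | j
        · rfl
        · rw [totD_zero_succ]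
          rcases j with _ | j
          · rw [y00, ← LinearMap.comp_apply, LinearMap.lTensor_comp_map,
              show (dD 0).comp f' = 0 from LinearMap.ext fun x => (hf'x _).2 ⟨x, rfl⟩, TensorProduct.map_zero_right]
            rfl
          · rw [yne 0 (j + 1) (by omega), map_zero]
        · rw [totD_succ_zero]
          rcases i with _ | i
          · rw [y00, ← LinearMap.comp_apply, LinearMap.rTensor_comp_map,
              show (dC 0).comp f = 0 from LinearMap.ext fun x => (hfx _).2 ⟨x, rfl⟩, TensorProduct.map_zero_left]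
            rfl
          · rw [yne (i + 1) 0 (by omega), map_zero]
        · rw [totD_succ_succ, yne i (j + 1) (by omega), yne (i + 1) j (by omega), map_zero, map_zero, smul_zero,
            add_zero]
      · show TensorProduct.map (p i) (g j) (y i j) = z.1 i j
        by_cases hij : i + j = 0
        · obtain ⟨rfl, rfl⟩ : i = 0 ∧ j = 0 := by omega
          rw [y00, TensorProduct.map_map, hv]
        · rw [yne i j hij, map_zero, z.2 i j hij])
    (tot_exact_of_exact hC hD exC exD 0)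
  rcases Nat.le_one_iff_eq_zero_or_eq_one.1 hq with rfl | rfl
  · exact s0
  · exact s1

include hps hgs hC hD exC exD in
/-- The total kernel complex in degrees at least two. -/
theorem nonempty_tot_high (hC' : ∀ n x, dC' (n + 1) (dC' n x) = 0) (hD' : ∀ n x, dD' (n + 1) (dD' n x) = 0) (n : ℕ) :
    Nonempty (Coh (tkd hp hg) (n + 2) ≃ₗ[k]
      ∀ p : Finset.HasAntidiagonal.antidiagonal (n + 1), Coh dC' p.1.1 ⊗[k] Coh dD' p.1.2) := by
  obtain ⟨e₁⟩ := exists_connEquiv (totp_comm p hp g hg) (totp_surjective hps hgs)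
    (fun m x => Subtype.ext (totD_totD hC hD x.1)) n (tot_exact_of_exact hC hD exC exD n)
    (tot_exact_of_exact hC hD exC exD (n + 1))
  obtain ⟨e₂⟩ := exists_totEquiv dC' dD' hC' hD' (n + 1)
  exact ⟨e₁.symm.trans e₂⟩

end abstract

theorem sum_formula (b b' h h' : ℕ → ℕ) (hb : ∀ i, b (i + 1) = h (i + 2)) (hb' : ∀ i, b' (i + 1) = h' (i + 2))
    (h0 : h 0 = 0) (h1 : h 1 = 0) (h0' : h' 0 = 0) (h1' : h' 1 = 0) (n : ℕ) :
    (Finset.range (n + 2)).sum (fun i => b i * b' (n + 1 - i)) =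
      b 0 * h' (n + 2) + h (n + 2) * b' 0 + (Finset.range (n + 4)).sum (fun i => h i * h' (n + 3 - i)) := by
  have hr : (Finset.range (n + 4)).sum (fun i => h i * h' (n + 3 - i)) =
      (Finset.range n).sum (fun a => h (a + 2) * h' (n + 1 - a)) := by
    rw [Finset.sum_range_succ', Finset.sum_range_succ', Finset.sum_range_succ, Finset.sum_range_succ]
    simp [h0, h1, show n + 3 - (n + 1 + 1) = 1 by omega, h0', h1']
  have hl : ∀ a ∈ Finset.range n, b (a + 1) * b' (n + 1 - (a + 1)) = h (a + 2) * h' (n + 1 - a) := fun a ha => by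
    have := Finset.mem_range.1 ha
    rw [hb, show n + 1 - (a + 1) = (n - a - 1) + 1 by omega, hb', show n - a - 1 + 2 = n + 1 - a by omega]
  rw [hr, Finset.sum_range_succ', Finset.sum_range_succ, Finset.sum_congr rfl hl]
  simp only [Nat.sub_zero, Nat.sub_self]
  rw [hb n, hb' n]
  ring

section piece

variable {k : Type u} [Field k] {R : Type u} [CommRing R] [Nontrivial R] [Algebra k R] {𝒜 : ℤ → Submodule k R}
  [GradedAlgebra 𝒜] (h0 : 𝒜 0 = Submodule.span k {(1 : R)}) (X : GrLC.GMod.{u} 𝒜) (d : ℤ)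
include h0

theorem rank_piece' : Module.rank k (kpiece X d) = Module.rank (GrLC.deg0 𝒜) (GrLC.comp 𝒜 X.gr d) := by
  let i : k → GrLC.deg0 𝒜 := fun c => ⟨algebraMap k R c, SetLike.algebraMap_mem_graded 𝒜 c⟩
  have hi : Function.Bijective i := by
    refine ⟨fun c c' h => (algebraMap k R).injective (congrArg Subtype.val h), fun x => ?_⟩
    obtain ⟨c, hc⟩ := Submodule.mem_span_singleton.1 (show (x : R) ∈ Submodule.span k {(1 : R)} from h0 ▸ x.2)
    exact ⟨c, Subtype.ext ((Algebra.algebraMap_eq_smul_one c).trans hc)⟩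
  let e : kpiece X d ≃+ GrLC.comp 𝒜 X.gr d :=
    { toFun := fun x => ⟨x.1, x.2⟩
      invFun := fun x => ⟨x.1, x.2⟩
      left_inv := fun _ => rfl
      right_inv := fun _ => rfl
      map_add' := fun _ _ => rfl }
  exact rank_eq_of_equiv_equiv i e hi fun c x => rfl

theorem rank_piece : Module.finrank k (kpiece X d) = Module.finrank (GrLC.deg0 𝒜) (GrLC.comp 𝒜 X.gr d) :=
  congrArg Cardinal.toNat (rank_piece' h0 X d)

theorem finite_piece [IsNoetherianRing R] [Module.Finite R X.carrier] : Module.Finite k (kpiece X d) := by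
  haveI : Nontrivial (GrLC.deg0 𝒜) := nontrivial_of_ne (0 : GrLC.deg0 𝒜) 1 fun h => zero_ne_one (congrArg Subtype.val h)
  haveI := GrLib.isNoetherian_piece 𝒜 X.gr d
  exact Module.rank_lt_aleph0_iff.1 (rank_piece' h0 X d ▸ Module.rank_lt_aleph0 (GrLC.deg0 𝒜) (GrLC.comp 𝒜 X.gr d))

end piece

section main

variable {k : Type u} [Field k] {R : Type u} [CommRing R] [Nontrivial R] [Algebra k R] {𝒜 : ℤ → Submodule k R}
  [GradedAlgebra 𝒜] [Algebra.FiniteType k R] (hposR : ∀ n : ℤ, n < 0 → 𝒜 n = ⊥) (h0R : 𝒜 0 = Submodule.span k {(1 : R)})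
  {S : Type u} [CommRing S] [Nontrivial S] [Algebra k S] {ℬ : ℤ → Submodule k S}
  [GradedAlgebra ℬ] [Algebra.FiniteType k S] (hposS : ∀ n : ℤ, n < 0 → ℬ n = ⊥) (h0S : ℬ 0 = Submodule.span k {(1 : S)})
  {T : Type u} [CommRing T] [Algebra k T] {𝒯 : ℤ → Submodule k T} [GradedAlgebra 𝒯] {ψ : T →ₐ[k] R ⊗[k] S}
  (hT : GrSeg.IsSegreRing 𝒜 ℬ 𝒯 ψ)
  {mR : HomogeneousIdeal 𝒜} (hmR : mR.toIdeal = Ideal.span (⋃ n ∈ Set.Ioi (0 : ℤ), (𝒜 n : Set R)))
  {mS : HomogeneousIdeal ℬ} (hmS : mS.toIdeal = Ideal.span (⋃ n ∈ Set.Ioi (0 : ℤ), (ℬ n : Set S)))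
  {mT : HomogeneousIdeal 𝒯} (hmT : mT.toIdeal = Ideal.span (⋃ n ∈ Set.Ioi (0 : ℤ), (𝒯 n : Set T)))

include hT in
theorem segre_noetherian : IsNoetherianRing T := by
  classical
  exact SegreDim.isNoetherian_segre 𝒜 𝒜 ℬ ℬ 𝒯 ψ hT.2 𝒯 ψ.toLinearMap hT.1
    (fun n => congrArg SetLike.coe (hT.2 n)) (fun t p => by
      rw [SegreDim.act_eq_mul]
      exact map_mul ψ t p)

include h0R h0S hT in
theorem segre_zero : 𝒯 0 = Submodule.span k {(1 : T)} := by
  refine Submodule.map_injective_of_injective (f := ψ.toLinearMap) hT.1 ?_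
  rw [hT.2 0, Submodule.map_span, Set.image_singleton, AlgHom.toLinearMap_apply, map_one]
  refine le_antisymm (Submodule.span_le.2 ?_) (Submodule.span_le.2 ?_)
  · rintro _ ⟨a, ha, b, hb, rfl⟩
    rw [h0R, Submodule.mem_span_singleton] at ha
    rw [h0S, Submodule.mem_span_singleton] at hb
    obtain ⟨c, rfl⟩ := ha
    obtain ⟨c', rfl⟩ := hb
    refine Submodule.mem_span_singleton.2 ⟨c * c', ?_⟩
    rw [TensorProduct.smul_tmul_smul]
    rfl
  · rintro _ rfl
    exact Submodule.subset_span ⟨1, SetLike.one_mem_graded 𝒜, 1, SetLike.one_mem_graded ℬ, rfl⟩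

/-- A Segre product module is the bundled one. -/
theorem exists_segIso (X : GrLC.GMod.{u} 𝒜) (Y : GrLC.GMod.{u} ℬ) {P : Type u} [AddCommGroup P] [Module T P]
    [Module k P] [IsScalarTower k T P] {𝒬 : ℤ → AddSubgroup P} [Decomposition 𝒬]
    {φ : P →ₗ[k] X.carrier ⊗[k] Y.carrier} (hP : GrSeg.IsSegreMod ψ X.gr Y.gr 𝒬 φ) :
    ∃ f : (seg hT.2 X Y).carrier →ₗ[T] P, GrLC.IsGrHom (seg hT.2 X Y).gr 𝒬 f ∧ Function.Bijective f := by
  have hin : ∀ p, φ p ∈ segSub X Y := fun p => by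
    induction p using GrLib.induction 𝒬 with
    | zero => rw [map_zero]; exact zero_mem _
    | add a b ha hb => rw [map_add]; exact add_mem ha hb
    | hom n q hq =>
      exact piece_le_segSub X Y n (by rw [← SetLike.mem_coe, ← hP.image_piece n]; exact ⟨q, hq, rfl⟩)
  have hout : ∀ v : (seg hT.2 X Y).carrier, ∃ p, φ p = segInc hT.2 X Y v := fun v => by
    have : segInc hT.2 X Y v ∈ LinearMap.range φ :=
      (iSup_le fun n w hw => by
        obtain ⟨p, -, rfl⟩ := (hP.image_piece n).symm ▸ (show w ∈ (GrSeg.segrePiece k X.gr Y.gr n : Set _) from hw)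
        exact ⟨p, rfl⟩ : segSub X Y ≤ LinearMap.range φ) (segInc_mem hT.2 X Y v)
    exact this
  choose g hg using hout
  refine ⟨{ toFun := g, map_add' := fun v w => hP.injective (by rw [map_add, hg, hg, hg, map_add]),
            map_smul' := fun t v => hP.injective (by rw [RingHom.id_apply, hP.map_smul, hg, hg, segInc_smul]) },
    fun n v hv => ?_, fun v w h => segInc_injective hT.2 X Y (by rw [← hg v, ← hg w]; exact congrArg φ h),
    fun p => ?_⟩
  · obtain ⟨p, hp, hpv⟩ := (hP.image_piece n).symm ▸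
      (show segInc hT.2 X Y v ∈ (GrSeg.segrePiece k X.gr Y.gr n : Set _) from hv)
    show g v ∈ 𝒬 n
    rwa [show g v = p from hP.injective ((hg v).trans hpv.symm)]
  · obtain ⟨v, hv⟩ := exists_seg hT.2 X Y (hin p)
    exact ⟨v, hP.injective ((hg v).trans hv)⟩

variable (X₀ : GrLC.GMod.{u} 𝒜) (E : GrLC.StarInjRes 𝒜 X₀.gr) (Y₀ : GrLC.GMod.{u} ℬ) (F : GrLC.StarInjRes ℬ Y₀.gr)
  {P : Type u} [AddCommGroup P] [Module T P]
  [Module k P] [IsScalarTower k T P] {𝒬 : ℤ → AddSubgroup P} [Decomposition 𝒬] [SetLike.GradedSMul 𝒯 𝒬]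
  {φ : P →ₗ[k] X₀.carrier ⊗[k] Y₀.carrier} (hP : GrSeg.IsSegreMod ψ X₀.gr Y₀.gr 𝒬 φ)
  (EP : GrLC.StarInjRes 𝒯 𝒬)

include h0R h0S hT hP hmR hmS hmT hposR hposS

/-- The Künneth formula. -/
theorem finrank_Hcomp_formula [Module.Finite R X₀.carrier] [Module.Finite S Y₀.carrier]
    (hM : ∀ (q : ℕ) (d : ℤ), q ≤ 1 → E.Hcomp mR q d = ⊥) (hN : ∀ (q : ℕ) (d : ℤ), q ≤ 1 → F.Hcomp mS q d = ⊥)
    (q : ℕ) (d : ℤ) :
    Module.finrank (GrLC.deg0 𝒯) (EP.Hcomp mT q d) =
      Module.finrank (GrLC.deg0 𝒜) (GrLC.comp 𝒜 X₀.gr d) * Module.finrank (GrLC.deg0 ℬ) (F.Hcomp mS q d) +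
        Module.finrank (GrLC.deg0 𝒜) (E.Hcomp mR q d) * Module.finrank (GrLC.deg0 ℬ) (GrLC.comp ℬ Y₀.gr d) +
      (Finset.range (q + 2)).sum (fun i => Module.finrank (GrLC.deg0 𝒜) (E.Hcomp mR i d) *
        Module.finrank (GrLC.deg0 ℬ) (F.Hcomp mS (q + 1 - i) d)) := by
  haveI := Algebra.FiniteType.isNoetherianRing k R
  haveI := Algebra.FiniteType.isNoetherianRing k S
  haveI := segre_noetherian hT
  haveI : Nontrivial T := ⟨⟨0, 1, fun h => one_ne_zero (α := R ⊗[k] S) (by rw [← map_one ψ, ← h, map_zero])⟩⟩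
  obtain ⟨f, hf, hfb⟩ := exists_segIso hT X₀ Y₀ hP
  obtain ⟨e⟩ := nonempty_cohEquiv_of_acyclic (totX hT.2 E F) (totdX hT.2 E F) (totdX_grHom hT.2 E F)
    (totε hT.2 E F) (totε_grHom hT.2 E F) (totε_injective hT.2 E F) (totε_exact hT.2 E F) (totdX_exact hT.2 E F)
    EP f hf mT hfb (acyc_totX hT.2 hmR hmS hmT E F) q d
  obtain ⟨e'⟩ := nonempty_cohEquiv_gam hT.2 hmR hmS hmT E F d q
  refine ((finrank_Hcomp EP mT (segre_zero h0R h0S hT) q d).trans (e.finrank_eq.symm.trans e'.finrank_eq)).trans ?_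
  let VX := kpiece X₀ d
  let VY := kpiece Y₀ d
  have hVX : (VX : Set X₀.carrier) = X₀.gr d := rfl
  have hVY : (VY : Set Y₀.carrier) = Y₀.gr d := rfl
  have hX := bεd_injective_exact E mR d VX hVX h0R (fun i hi => hM i d hi)
  have hY := bεd_injective_exact F mS d VY hVY h0S (fun i hi => hN i d hi)
  obtain hq | ⟨n, rfl⟩ : q ≤ 1 ∨ ∃ n, q = n + 2 :=
    (Nat.lt_or_ge q 2).imp (fun h => by omega) fun h => ⟨q - 2, by omega⟩
  · haveI := subsingleton_tot_low (C := PC E d) (D := PC F d) (C' := BC E mR d) (D' := BC F mS d) (dC := pd E d)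
      (dD := pd F d) (dC' := bd E mR d) (dD' := bd F mS d) (p := bπ E mR d) (g := bπ F mS d) (V := VX) (W := VY)
      (f := εd E d VX) (f' := εd F d VY) (bπ_comm E mR d) (bπ_comm F mS d) (bπ_surjective E mR d) (bπ_surjective F mS d)
      (pd_pd E d) (pd_pd F d) (pd_exact E d) (pd_exact F d) (εd_injective E d VX hVX) (εd_exact E d VX hVX)
      (εd_exact F d VY hVY) hX.1 hX.2 hY.1 hY.2 q hq
    rw [Module.finrank_zero_of_subsingleton, hM q d hq, hN q d hq, finrank_bot, finrank_bot, Finset.sum_eq_zero fun i hi => ?_]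
    · simp
    · have := Finset.mem_range.1 hi
      rcases Nat.lt_or_ge 1 i with h1 | h1
      · rw [hN _ d (show q + 1 - i ≤ 1 by omega), finrank_bot, mul_zero]
      · rw [hM i d h1, finrank_bot, zero_mul]
  · obtain ⟨e₁⟩ := nonempty_tot_high (C := PC E d) (D := PC F d) (C' := BC E mR d) (D' := BC F mS d) (dC := pd E d)
      (dD := pd F d) (dC' := bd E mR d) (dD' := bd F mS d) (p := bπ E mR d) (g := bπ F mS d) (bπ_comm E mR d) (bπ_comm F mS d) (bπ_surjective E mR d) (bπ_surjective F mS d)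
      (pd_pd E d) (pd_pd F d) (pd_exact E d) (pd_exact F d) (bd_bd E mR d) (bd_bd F mS d) n
    have hpR : ∀ c : ℤ, c < 0 → ∀ x ∈ 𝒜 c, x = 0 := fun c hc x hx => (Submodule.mem_bot k).1 (hposR c hc ▸ hx)
    have hpS : ∀ c : ℤ, c < 0 → ∀ x ∈ ℬ c, x = 0 := fun c hc x hx => (Submodule.mem_bot k).1 (hposS c hc ▸ hx)
    haveI : ∀ i, Module.Finite k (Coh (bd E mR d) i) := fun i => by
      rcases i with _ | i
      · haveI := finite_piece h0R X₀ d
        exact Module.Finite.equiv (nonempty_bdEquiv_zero E mR d VX hVX h0R (fun i hi => hM i d hi)).some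
      · haveI := GrLib.isNoetherian_Hcomp_irrelevant hpR mR hmR (i + 2) inferInstance E d
        haveI := finite_kerd E mR d h0R (i + 2)
        exact Module.Finite.equiv (nonempty_bdEquiv_succ E mR d i).some.symm
    haveI : ∀ i, Module.Finite k (Coh (bd F mS d) i) := fun i => by
      rcases i with _ | i
      · haveI := finite_piece h0S Y₀ d
        exact Module.Finite.equiv (nonempty_bdEquiv_zero F mS d VY hVY h0S (fun i hi => hN i d hi)).some
      · haveI := GrLib.isNoetherian_Hcomp_irrelevant hpS mS hmS (i + 2) inferInstance F d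
        haveI := finite_kerd F mS d h0S (i + 2)
        exact Module.Finite.equiv (nonempty_bdEquiv_succ F mS d i).some.symm
    refine e₁.finrank_eq.trans ((Module.finrank_pi_fintype k).trans ?_)
    simp only [Module.finrank_tensorProduct]
    rw [Finset.sum_coe_sort (Finset.HasAntidiagonal.antidiagonal (n + 1))
        (fun p : ℕ × ℕ => Module.finrank k (Coh (bd E mR d) p.1) * Module.finrank k (Coh (bd F mS d) p.2)),
      Finset.Nat.sum_antidiagonal_eq_sum_range_succ_mk,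
      sum_formula (fun i => Module.finrank k (Coh (bd E mR d) i)) (fun i => Module.finrank k (Coh (bd F mS d) i))
        (fun i => Module.finrank (GrLC.deg0 𝒜) (E.Hcomp mR i d)) (fun i => Module.finrank (GrLC.deg0 ℬ) (F.Hcomp mS i d))
        (fun i => (nonempty_bdEquiv_succ E mR d i).some.finrank_eq.trans (finrank_Hcomp_kerd E mR d h0R (i + 2)).symm)
        (fun i => (nonempty_bdEquiv_succ F mS d i).some.finrank_eq.trans (finrank_Hcomp_kerd F mS d h0S (i + 2)).symm)
        (by rw [hM 0 d zero_le_one, finrank_bot]) (by rw [hM 1 d le_rfl, finrank_bot])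
        (by rw [hN 0 d zero_le_one, finrank_bot]) (by rw [hN 1 d le_rfl, finrank_bot]) n,
      ← (nonempty_bdEquiv_zero E mR d VX hVX h0R (fun i hi => hM i d hi)).some.finrank_eq,
      ← (nonempty_bdEquiv_zero F mS d VY hVY h0S (fun i hi => hN i d hi)).some.finrank_eq,
      rank_piece h0R X₀ d, rank_piece h0S Y₀ d]

end main

end Groth.Agent.SegreLC
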