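import Mathlib
import Groth.Agent.SegreLC.Formula

/-! The Künneth formula for arbitrary presentations of the modules. -/

set_option autoImplicit false
set_option linter.unusedSectionVars false
universe u

open DirectSum TensorProduct

namespace Groth.Agent.SegreLC

section ag

variable {R : Type u} [CommRing R] {σ : Type u} [SetLike σ R] [AddSubgroupClass σ R] {𝒜 : ℤ → σ} [GradedRing 𝒜]
  {M : Type u} [AddCommGroup M] [Module R M] {τ : Type u} [SetLike τ M] [AddSubgroupClass τ M]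

/-- A family of pieces, as additive subgroups. -/
def agGr (ℳ : ℤ → τ) : ℤ → AddSubgroup M := fun n => AddSubgroup.ofClass (ℳ n)

variable {ℳ : ℤ → τ} [Decomposition ℳ]

noncomputable instance agDecomp : Decomposition (agGr ℳ) :=
  GrLib.decompositionOfProj (agGr ℳ) (fun g => GrLib.proj ℳ g) (fun _ _ hx => GrLib.proj_of_mem hx)
    (fun _ _ hne _ hx => GrLib.proj_of_mem_ne hx hne)
    (eq_top_iff.2 fun x _ => GrLib.induction ℳ (motive := fun x => x ∈ ⨆ g, agGr ℳ g) (zero_mem _)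
      (fun g y hy => AddSubgroup.mem_iSup_of_mem g hy) (fun y z hy hz => add_mem hy hz) x)

variable [SetLike.GradedSMul 𝒜 ℳ]

instance agGraded : SetLike.GradedSMul 𝒜 (agGr ℳ) where
  smul_mem {_ _ _ _} hr hx := SetLike.GradedSMul.smul_mem (A := 𝒜) (B := ℳ) hr hx

/-- A resolution, seen over the subgroup pieces. -/
def agRes (E : GrLC.StarInjRes 𝒜 ℳ) : GrLC.StarInjRes 𝒜 (agGr ℳ) where
  X := E.X
  d := E.d
  ε := E.ε
  d_grHom := E.d_grHom
  ε_grHom := E.ε_grHom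
  ε_injective := E.ε_injective
  exact_zero := E.exact_zero
  exact_succ := E.exact_succ
  starInj := E.starInj

end ag

section pieceRank

variable {k : Type u} [Field k] {R : Type u} [CommRing R] [Nontrivial R] [Algebra k R] {𝒜 : ℤ → Submodule k R}
  [GradedAlgebra 𝒜] {M : Type u} [AddCommGroup M] [Module R M] [Module k M] [IsScalarTower k R M]
  {ℳ : ℤ → AddSubgroup M} [Decomposition ℳ] [SetLike.GradedSMul 𝒜 ℳ]

theorem finrank_comp_eq (h0 : 𝒜 0 = Submodule.span k {(1 : R)}) (d : ℤ) (V : Submodule k M)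
    (hV : ∀ x, x ∈ V ↔ x ∈ ℳ d) :
    Module.finrank k V = Module.finrank (GrLC.deg0 𝒜) (GrLC.comp 𝒜 ℳ d) := by
  let i : k → GrLC.deg0 𝒜 := fun c => ⟨algebraMap k R c, SetLike.algebraMap_mem_graded 𝒜 c⟩
  have hi : Function.Bijective i := by
    refine ⟨fun c c' h => (algebraMap k R).injective (congrArg Subtype.val h), fun x => ?_⟩
    obtain ⟨c, hc⟩ := Submodule.mem_span_singleton.1 (show (x : R) ∈ Submodule.span k {(1 : R)} from h0 ▸ x.2)
    exact ⟨c, Subtype.ext ((Algebra.algebraMap_eq_smul_one c).trans hc)⟩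
  let e : V ≃+ GrLC.comp 𝒜 ℳ d :=
    { toFun := fun x => ⟨x.1, (hV _).1 x.2⟩
      invFun := fun x => ⟨x.1, (hV _).2 x.2⟩
      left_inv := fun _ => rfl
      right_inv := fun _ => rfl
      map_add' := fun _ _ => rfl }
  exact congrArg Cardinal.toNat (rank_eq_of_equiv_equiv i e hi fun c x =>
    Subtype.ext (show c • (x : M) = algebraMap k R c • (x : M) from (algebraMap_smul R c (x : M)).symm))

end pieceRank

section main

variable {k : Type u} [Field k] {R : Type u} [CommRing R] [Nontrivial R] [Algebra k R] {𝒜 : ℤ → Submodule k R}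
  [GradedAlgebra 𝒜] [Algebra.FiniteType k R]
  {S : Type u} [CommRing S] [Nontrivial S] [Algebra k S] {ℬ : ℤ → Submodule k S}
  [GradedAlgebra ℬ] [Algebra.FiniteType k S]
  {T : Type u} [CommRing T] [Algebra k T] {𝒯 : ℤ → Submodule k T} [GradedAlgebra 𝒯] {ψ : T →ₐ[k] R ⊗[k] S}
  {mR : HomogeneousIdeal 𝒜} {mS : HomogeneousIdeal ℬ} {mT : HomogeneousIdeal 𝒯}
  {M : Type u} [AddCommGroup M] [Module R M] [iM : Module k M] [IsScalarTower k R M] {ℳ : ℤ → AddSubgroup M}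
  [Decomposition ℳ] [SetLike.GradedSMul 𝒜 ℳ] [Module.Finite R M] (EM : GrLC.StarInjRes 𝒜 ℳ)
  {N : Type u} [AddCommGroup N] [Module S N] [iN : Module k N] [IsScalarTower k S N] {𝒩 : ℤ → AddSubgroup N}
  [Decomposition 𝒩] [SetLike.GradedSMul ℬ 𝒩] [Module.Finite S N] (EN : GrLC.StarInjRes ℬ 𝒩)
  {P : Type u} [AddCommGroup P] [Module T P] [Module k P] [IsScalarTower k T P] {𝒬 : ℤ → AddSubgroup P}
  [Decomposition 𝒬] [SetLike.GradedSMul 𝒯 𝒬]

/-- The Künneth formula. -/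
theorem finrank_formula (hposR : ∀ n : ℤ, n < 0 → 𝒜 n = ⊥) (h0R : 𝒜 0 = Submodule.span k {(1 : R)})
    (hposS : ∀ n : ℤ, n < 0 → ℬ n = ⊥) (h0S : ℬ 0 = Submodule.span k {(1 : S)}) (hT : GrSeg.IsSegreRing 𝒜 ℬ 𝒯 ψ)
    (hmR : mR.toIdeal = Ideal.span (⋃ n ∈ Set.Ioi (0 : ℤ), (𝒜 n : Set R)))
    (hmS : mS.toIdeal = Ideal.span (⋃ n ∈ Set.Ioi (0 : ℤ), (ℬ n : Set S)))
    (hmT : mT.toIdeal = Ideal.span (⋃ n ∈ Set.Ioi (0 : ℤ), (𝒯 n : Set T)))
    (φ : P →ₗ[k] M ⊗[k] N) (hP : GrSeg.IsSegreMod ψ ℳ 𝒩 𝒬 φ) (EP : GrLC.StarInjRes 𝒯 𝒬)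
    (hM : ∀ (q : ℕ) (d : ℤ), q ≤ 1 → EM.Hcomp mR q d = ⊥) (hN : ∀ (q : ℕ) (d : ℤ), q ≤ 1 → EN.Hcomp mS q d = ⊥)
    (q : ℕ) (d : ℤ) :
    Module.finrank (GrLC.deg0 𝒯) (EP.Hcomp mT q d) =
      Module.finrank (GrLC.deg0 𝒜) (GrLC.comp 𝒜 ℳ d) * Module.finrank (GrLC.deg0 ℬ) (EN.Hcomp mS q d) +
        Module.finrank (GrLC.deg0 𝒜) (EM.Hcomp mR q d) * Module.finrank (GrLC.deg0 ℬ) (GrLC.comp ℬ 𝒩 d) +
      (Finset.range (q + 2)).sum (fun i => Module.finrank (GrLC.deg0 𝒜) (EM.Hcomp mR i d) *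
        Module.finrank (GrLC.deg0 ℬ) (EN.Hcomp mS (q + 1 - i) d)) := by
  obtain rfl : iM = (gmodModule (GrLC.GMod.of 𝒜 M ℳ) : Module k M) :=
    Module.ext (funext₂ fun c m => (algebraMap_smul R c m).symm)
  obtain rfl : iN = (gmodModule (GrLC.GMod.of ℬ N 𝒩) : Module k N) :=
    Module.ext (funext₂ fun c m => (algebraMap_smul S c m).symm)
  haveI : Module.Finite R (GrLC.GMod.of 𝒜 M ℳ).carrier := ‹Module.Finite R M›
  haveI : Module.Finite S (GrLC.GMod.of ℬ N 𝒩).carrier := ‹Module.Finite S N›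
  exact finrank_Hcomp_formula hposR h0R hposS h0S hT hmR hmS hmT (GrLC.GMod.of 𝒜 M ℳ) EM (GrLC.GMod.of ℬ N 𝒩) EN
    hP EP hM hN q d

end main

end Groth.Agent.SegreLC
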