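import Mathlib
import Groth.Agent.SegreLC.Unbundled
import Groth.Agent.GrLib.Acyclic

/-! Pieces of graded local cohomology and the ungraded local cohomology. -/

set_option autoImplicit false
set_option linter.unusedSectionVars false
universe u

open DirectSum

namespace Groth.Agent.SegreLC

section gen

variable {R : Type u} [CommRing R] {σ : Type u} [SetLike σ R] [AddSubgroupClass σ R] {𝒜 : ℤ → σ} [GradedRing 𝒜]
  [IsNoetherianRing R] {M : Type u} [AddCommGroup M] [Module R M] {τ : Type u} [SetLike τ M] [AddSubgroupClass τ M]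
  {ℳ : ℤ → τ} [Decomposition ℳ] [SetLike.GradedSMul 𝒜 ℳ] (E : GrLC.StarInjRes 𝒜 ℳ) (a : HomogeneousIdeal 𝒜)

/-- Local cohomology vanishes iff all its pieces do. -/
theorem subsingleton_H_iff (i : ℕ) :
    Subsingleton (_root_.LocCoh.H a.toIdeal i M) ↔ ∀ d, E.Hcomp a i d = ⊥ := by
  obtain ⟨e⟩ := GrLib.nonempty_H_equiv E a i
  rw [← e.toEquiv.subsingleton_congr]
  refine ⟨fun h d => (Submodule.eq_bot_iff _).2 fun x _ => Subsingleton.elim x 0, fun h => ?_⟩
  letI := GrLib.Hdecomp E a i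
  refine subsingleton_of_forall_eq 0 fun x => ?_
  induction x using GrLib.induction (E.Hgr a i) with
  | zero => rfl
  | add p q hp hq => rw [hp, hq, add_zero]
  | hom d x hx => exact (Submodule.eq_bot_iff _).1 (h d) x hx

end gen

variable {k : Type u} [Field k] {R : Type u} [CommRing R] [Nontrivial R] [Algebra k R] {𝒜 : ℤ → Submodule k R}
  [GradedAlgebra 𝒜] [Algebra.FiniteType k R] (hpos : ∀ n : ℤ, n < 0 → 𝒜 n = ⊥)
  (h0 : 𝒜 0 = Submodule.span k {(1 : R)})
  {mR : HomogeneousIdeal 𝒜} (hmR : mR.toIdeal = Ideal.span (⋃ n ∈ Set.Ioi (0 : ℤ), (𝒜 n : Set R)))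
  {M : Type u} [AddCommGroup M] [Module R M] [Module k M] [IsScalarTower k R M] [Module.Finite R M]
  {ℳ : ℤ → AddSubgroup M} [Decomposition ℳ] [SetLike.GradedSMul 𝒜 ℳ]

include hpos h0 hmR in
theorem Hcomp_eq_bot_iff (E : GrLC.StarInjRes 𝒜 ℳ) (i : ℕ) (d : ℤ) :
    E.Hcomp mR i d = ⊥ ↔ Module.finrank (GrLC.deg0 𝒜) (E.Hcomp mR i d) = 0 := by
  haveI := Algebra.FiniteType.isNoetherianRing k R
  have hp : ∀ c : ℤ, c < 0 → ∀ x ∈ 𝒜 c, x = 0 := fun c hc x hx => (Submodule.mem_bot k).1 (hpos c hc ▸ hx)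
  haveI := GrLib.isNoetherian_Hcomp_irrelevant hp mR hmR i inferInstance E d
  haveI := finite_kerd E mR d h0 i
  refine ⟨fun h => by rw [h]; exact finrank_bot _ _, fun h => ?_⟩
  obtain ⟨e, -⟩ := exists_hcompEquiv E mR h0 i d
  obtain ⟨e'⟩ := nonempty_gamEquiv E mR d i
  rw [finrank_Hcomp_kerd E mR d h0, Module.finrank_zero_iff] at h
  haveI : Subsingleton (E.Hcomp mR i d) := (e.symm.trans e'.toAddEquiv).toEquiv.subsingleton
  exact Submodule.subsingleton_iff_eq_bot.1 inferInstance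

include h0 in
theorem comp_eq_bot_iff (d : ℤ) : ℳ d = ⊥ ↔ Module.finrank (GrLC.deg0 𝒜) (GrLC.comp 𝒜 ℳ d) = 0 := by
  haveI := Algebra.FiniteType.isNoetherianRing k R
  let V : Submodule k M :=
    { carrier := (ℳ d : Set M)
      add_mem' := fun ha hb => (ℳ d).add_mem ha hb
      zero_mem' := (ℳ d).zero_mem
      smul_mem' := fun c _ hx => SegreDim.smul_mem_piece 𝒜 ℳ c hx }
  haveI : Nontrivial (GrLC.deg0 𝒜) := nontrivial_of_ne (0 : GrLC.deg0 𝒜) 1 fun h => zero_ne_one (congrArg Subtype.val h)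
  haveI := GrLib.isNoetherian_piece 𝒜 ℳ d
  rw [← finrank_comp_eq h0 d V fun _ => Iff.rfl]
  let i : k → GrLC.deg0 𝒜 := fun c => ⟨algebraMap k R c, SetLike.algebraMap_mem_graded 𝒜 c⟩
  have hi : Function.Bijective i := by
    refine ⟨fun c c' h => (algebraMap k R).injective (congrArg Subtype.val h), fun x => ?_⟩
    obtain ⟨c, hc⟩ := Submodule.mem_span_singleton.1 (show (x : R) ∈ Submodule.span k {(1 : R)} from h0 ▸ x.2)
    exact ⟨c, Subtype.ext ((Algebra.algebraMap_eq_smul_one c).trans hc)⟩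
  let e : V ≃+ GrLC.comp 𝒜 ℳ d :=
    { toFun := fun x => ⟨x.1, x.2⟩
      invFun := fun x => ⟨x.1, x.2⟩
      left_inv := fun _ => rfl
      right_inv := fun _ => rfl
      map_add' := fun _ _ => rfl }
  have hr : Module.rank k V = Module.rank (GrLC.deg0 𝒜) (GrLC.comp 𝒜 ℳ d) :=
    rank_eq_of_equiv_equiv i e hi fun c x =>
      Subtype.ext (show c • (x : M) = algebraMap k R c • (x : M) from (algebraMap_smul R c (x : M)).symm)
  haveI : Module.Finite k V :=
    Module.rank_lt_aleph0_iff.1 (hr ▸ Module.rank_lt_aleph0 (GrLC.deg0 𝒜) (GrLC.comp 𝒜 ℳ d))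
  rw [Module.finrank_zero_iff]
  refine ⟨fun h => subsingleton_of_forall_eq 0 fun x => Subtype.ext ?_, fun h => (AddSubgroup.eq_bot_iff_forall _).2
    fun x hx => congrArg Subtype.val (Subsingleton.elim (⟨x, hx⟩ : V) 0)⟩
  exact (AddSubgroup.eq_bot_iff_forall _).1 h x.1 x.2

end Groth.Agent.SegreLC
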