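import Mathlib
import Groth.Agent.SegreLC.CMCrit
import Groth.Agent.SegreLC.Depth
import Groth.Agent.SegreDim.CMFaithful
import Groth.Agent.SegreDim.DimOne
import Groth.Agent.GrLib.StarInj

/-! Cohen–Macaulayness of Segre products of Cohen–Macaulay modules of dimensions at least two. -/

set_option autoImplicit false
set_option linter.unusedSectionVars false
universe u

open DirectSum TensorProduct

namespace Groth.Agent.SegreLC

/-- A Cohen–Macaulay graded module embeds into a free module over its parameters. -/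
theorem exists_param_embedding {k : Type u} [Field k] {R : Type u} [CommRing R] [Algebra k R] [Algebra.FiniteType k R]
    {M : Type u} [AddCommGroup M] [Module R M] [Module.Finite R M] [Module k M] [IsScalarTower k R M]
    {l : ℕ} (y : Fin l → R)
    (hint : ((Ideal.Quotient.mkₐ k (Module.annihilator R M)).comp (MvPolynomial.aeval y)).toRingHom.IsIntegral)
    (hcm : ∀ (q : Ideal R) [q.IsPrime], Subsingleton (LocalizedModule q.primeCompl M) ∨
      LocCoh.IsCohenMacaulayModule (Localization.AtPrime q) (LocalizedModule q.primeCompl M))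
    (hass : ∀ Q ∈ associatedPrimes R M, ringKrullDim (R ⧸ Q) = (l : WithBot ℕ∞)) :
    ∃ (n : ℕ) (f : M →ₗ[k] (Fin n → MvPolynomial (Fin l) k)), Function.Injective f ∧
      ∀ (q : MvPolynomial (Fin l) k) (m : M) (i : Fin n), f (MvPolynomial.aeval y q • m) i = q * f m i := by
  let A := MvPolynomial (Fin l) k
  letI : Module A M := Module.compHom M (MvPolynomial.aeval (R := k) y).toRingHom
  haveI : Module.Finite A M := SegreOne.finite_of_integral y hint
  haveI : Module.Projective A M := SegreOne.projective_of_cm y hint hcm hass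
  obtain ⟨n, π, σ, -, -, hπσ⟩ := Module.Finite.exists_comp_eq_id_of_projective A M
  have hs : ∀ (c : k) (m : M), (MvPolynomial.C c : A) • m = c • m := fun c m => by
    show (MvPolynomial.aeval (R := k) y).toRingHom (MvPolynomial.C c) • m = c • m
    rw [AlgHom.toRingHom_eq_coe, RingHom.coe_coe, MvPolynomial.aeval_C, algebraMap_smul]
  refine ⟨n, { toFun := σ, map_add' := map_add σ, map_smul' := fun c m => ?_ },
    fun a b h => ?_, fun q m i => ?_⟩
  · rw [RingHom.id_apply, ← hs, map_smul]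
    funext i
    rw [Pi.smul_apply, Pi.smul_apply, smul_eq_mul, MvPolynomial.smul_eq_C_mul]
  · have := congrArg π (show σ a = σ b from h)
    rwa [← LinearMap.comp_apply, ← LinearMap.comp_apply, hπσ] at this
  · show σ (MvPolynomial.aeval y q • m) i = q * σ m i
    rw [show MvPolynomial.aeval y q • m = q • m from rfl, map_smul]
    rfl

variable {k : Type u} [Field k] {R : Type u} [CommRing R] [Algebra k R] {𝒜 : ℤ → Submodule k R} [GradedAlgebra 𝒜]
  [Algebra.FiniteType k R] (hposR : ∀ n : ℤ, n < 0 → 𝒜 n = ⊥) (h0R : 𝒜 0 = Submodule.span k {(1 : R)})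
  {S : Type u} [CommRing S] [Algebra k S] {ℬ : ℤ → Submodule k S} [GradedAlgebra ℬ] [Algebra.FiniteType k S]
  (hposS : ∀ n : ℤ, n < 0 → ℬ n = ⊥) (h0S : ℬ 0 = Submodule.span k {(1 : S)})
  {T : Type u} [CommRing T] [Algebra k T] {𝒯 : ℤ → Submodule k T} [GradedAlgebra 𝒯] {ψ : T →ₐ[k] R ⊗[k] S}
  (hT : GrSeg.IsSegreRing 𝒜 ℬ 𝒯 ψ)
  {M : Type u} [AddCommGroup M] [Module R M] [Module k M] [IsScalarTower k R M] [Module.Finite R M]
  {ℳ : ℤ → AddSubgroup M} [Decomposition ℳ] [SetLike.GradedSMul 𝒜 ℳ]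
  {N : Type u} [AddCommGroup N] [Module S N] [Module k N] [IsScalarTower k S N] [Module.Finite S N]
  {𝒩 : ℤ → AddSubgroup N} [Decomposition 𝒩] [SetLike.GradedSMul ℬ 𝒩]
  {P : Type u} [AddCommGroup P] [Module T P] [Module k P] [IsScalarTower k T P] [Nontrivial P]
  {𝒬 : ℤ → AddSubgroup P} [Decomposition 𝒬] {φ : P →ₗ[k] M ⊗[k] N} (hP : GrSeg.IsSegreMod ψ ℳ 𝒩 𝒬 φ)
  {r s : ℕ} (hdM : Module.supportDim R M = r) (hdN : Module.supportDim S N = s)
  (hMcm : ∀ (q : Ideal R) [q.IsPrime], Subsingleton (LocalizedModule q.primeCompl M) ∨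
    LocCoh.IsCohenMacaulayModule (Localization.AtPrime q) (LocalizedModule q.primeCompl M))
  (hNcm : ∀ (q : Ideal S) [q.IsPrime], Subsingleton (LocalizedModule q.primeCompl N) ∨
    LocCoh.IsCohenMacaulayModule (Localization.AtPrime q) (LocalizedModule q.primeCompl N))

include hposR h0R hposS h0S hT hP hdM hdN hMcm hNcm in
/-- The dimension of the Segre product of two Cohen–Macaulay modules. -/
theorem supportDim_segre_cm (h1r : 1 ≤ r) (h1s : 1 ≤ s) :
    Module.supportDim T P = ((r + s - 1 : ℕ) : WithBot ℕ∞) := by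
  obtain ⟨r, rfl⟩ : ∃ r', r = r' + 1 := ⟨r - 1, by omega⟩
  obtain ⟨s, rfl⟩ : ∃ s', s = s' + 1 := ⟨s - 1, by omega⟩
  rw [show r + 1 + (s + 1) - 1 = r + 1 + s by omega]
  refine SegreDim.supportDim_segre_of_faithful 𝒜 ℳ ℬ 𝒩 hposR h0R hposS h0S 𝒯 ψ hT.1 hT.2 𝒬 φ hP.injective
    hP.image_piece hP.map_smul r s hdM hdN fun D y z hD hy hz hyinj hyint hzinj hzint => ?_
  obtain ⟨na, f, hf, hfq⟩ := exists_param_embedding y hyint hMcm fun Q hQ =>
    (SegreDim.ringKrullDim_quotient_eq_supportDim_of_cm 𝒜 hposR h0R ℳ hMcm hQ).trans hdM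
  obtain ⟨nb, g, hg, hgq⟩ := exists_param_embedding z hzint hNcm fun Q hQ =>
    (SegreDim.ringKrullDim_quotient_eq_supportDim_of_cm ℬ hposS h0S 𝒩 hNcm hQ).trans hdN
  obtain ⟨p, hp⟩ := exists_ne (0 : P)
  exact ⟨p, fun c hc => SegreDim.eq_zero_of_act_eq_zero y z f hf hfq g hg hgq
    (fun h => hp (hP.injective (h.trans (map_zero φ).symm))) hc⟩

include hposR h0R hposS h0S hT hP hdM hdN hMcm hNcm in
/-- The criterion. -/
theorem cm_iff (h2r : 2 ≤ r) (h2s : 2 ≤ s)
    {mR : HomogeneousIdeal 𝒜} (hmR : mR.toIdeal = Ideal.span (⋃ n ∈ Set.Ioi (0 : ℤ), (𝒜 n : Set R)))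
    {mS : HomogeneousIdeal ℬ} (hmS : mS.toIdeal = Ideal.span (⋃ n ∈ Set.Ioi (0 : ℤ), (ℬ n : Set S)))
    (EM : GrLC.StarInjRes 𝒜 ℳ) (EN : GrLC.StarInjRes ℬ 𝒩) :
    (∀ (q : Ideal T) [q.IsPrime], Subsingleton (LocalizedModule q.primeCompl P) ∨
        LocCoh.IsCohenMacaulayModule (Localization.AtPrime q) (LocalizedModule q.primeCompl P)) ↔
      (∀ d : ℤ, ℳ d = ⊥ ∨ EN.Hcomp mS s d = ⊥) ∧ (∀ d : ℤ, EM.Hcomp mR r d = ⊥ ∨ 𝒩 d = ⊥) := by
  classical
  haveI := Algebra.FiniteType.isNoetherianRing k R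
  haveI := Algebra.FiniteType.isNoetherianRing k S
  haveI : Nontrivial (M ⊗[k] N) := Function.Injective.nontrivial hP.injective
  haveI : Nontrivial M := not_subsingleton_iff_nontrivial.1 fun _ =>
    not_subsingleton (M ⊗[k] N) (subsingleton_of_forall_eq 0 fun x => by
      induction x using TensorProduct.induction_on with
      | zero => rfl
      | add a b ha hb => rw [ha, hb, add_zero]
      | tmul a b => rw [Subsingleton.elim a 0, TensorProduct.zero_tmul])
  haveI : Nontrivial N := not_subsingleton_iff_nontrivial.1 fun _ =>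
    not_subsingleton (M ⊗[k] N) (subsingleton_of_forall_eq 0 fun x => by
      induction x using TensorProduct.induction_on with
      | zero => rfl
      | add a b ha hb => rw [ha, hb, add_zero]
      | tmul a b => rw [Subsingleton.elim b 0, TensorProduct.tmul_zero])
  haveI : Nontrivial R := Module.nontrivial R M
  haveI : Nontrivial S := Module.nontrivial S N
  haveI hTn := segre_noetherian hT
  haveI : Nontrivial T := ⟨⟨0, 1, fun h => one_ne_zero (α := R ⊗[k] S) (by rw [← map_one ψ, ← h, map_zero])⟩⟩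
  haveI : Nontrivial (GrLC.deg0 𝒯) :=
    nontrivial_of_ne (0 : GrLC.deg0 𝒯) 1 fun h => zero_ne_one (congrArg Subtype.val h)
  have h0T := segre_zero h0R h0S hT
  have hposT : ∀ n : ℤ, n < 0 → 𝒯 n = ⊥ := fun n hn => by
    refine Submodule.map_injective_of_injective (f := ψ.toLinearMap) hT.1 ?_
    rw [Submodule.map_bot, hT.2, eq_bot_iff]
    refine Submodule.span_le.2 ?_
    rintro _ ⟨a, ha, b, -, rfl⟩
    rw [show a = 0 from (Submodule.mem_bot k).1 (hposR n hn ▸ ha), TensorProduct.zero_tmul]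
    exact zero_mem _
  haveI : Algebra.FiniteType k T := SegreDim.finiteType_of_isNoetherianRing 𝒯 hposT h0T
  haveI : Module.Finite T P := by
    haveI := SegreDim.isNoetherian_segre 𝒜 ℳ ℬ 𝒩 𝒯 ψ hT.2 𝒬 φ hP.injective hP.image_piece hP.map_smul
    infer_instance
  haveI := SegreOne.gradedSMul' 𝒜 ℬ 𝒯 ψ hT.2 ℳ 𝒩 𝒬 φ hP.injective hP.image_piece hP.map_smul
  let mT : HomogeneousIdeal 𝒯 := ⟨SegreDim.irr 𝒯, SegreDim.irr_isHomogeneous 𝒯⟩
  let EP : GrLC.StarInjRes 𝒯 𝒬 := GrLib.starRes 𝒯 𝒬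
  have hdP := supportDim_segre_cm hposR h0R hposS h0S hT hP hdM hdN hMcm hNcm (by omega) (by omega)
  have eR : mR.toIdeal = SegreDim.irr 𝒜 := hmR
  have eS : mS.toIdeal = SegreDim.irr ℬ := hmS
  have hM : ∀ (q : ℕ) (d : ℤ), q < r → EM.Hcomp mR q d = ⊥ := fun q d hq =>
    (subsingleton_H_iff EM mR q).1 (eR ▸ subsingleton_H_of_cm 𝒜 hposR h0R ℳ hdM hMcm q hq) d
  have hN : ∀ (q : ℕ) (d : ℤ), q < s → EN.Hcomp mS q d = ⊥ := fun q d hq =>
    (subsingleton_H_iff EN mS q).1 (eS ▸ subsingleton_H_of_cm ℬ hposS h0S 𝒩 hdN hNcm q hq) d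
  have hM' : ∀ (q : ℕ) (d : ℤ), r < q → EM.Hcomp mR q d = ⊥ := fun q d hq =>
    (subsingleton_H_iff EM mR q).1 (LocCoh.subsingleton_H_of_supportDim_lt (by rw [hdM]; exact_mod_cast hq)) d
  have hN' : ∀ (q : ℕ) (d : ℤ), s < q → EN.Hcomp mS q d = ⊥ := fun q d hq =>
    (subsingleton_H_iff EN mS q).1 (LocCoh.subsingleton_H_of_supportDim_lt (by rw [hdN]; exact_mod_cast hq)) d
  have hform := finrank_formula EM EN hposR h0R hposS h0S hT hmR hmS (mT := mT) rfl φ hP EP
    (fun q d hq => hM q d (by omega)) (fun q d hq => hN q d (by omega))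
  constructor
  · intro hcm
    have hv : ∀ q < r + s - 1, ∀ d, Module.finrank (GrLC.deg0 𝒯) (EP.Hcomp mT q d) = 0 := fun q hq d => by
      rw [(subsingleton_H_iff EP mT q).1 (subsingleton_H_of_cm 𝒯 hposT h0T 𝒬 hdP hcm q hq) d]
      exact finrank_bot _ _
    refine ⟨fun d => ?_, fun d => ?_⟩
    · have h := (hform s d).symm.trans (hv s (by omega) d)
      have h1 := (Nat.add_eq_zero_iff.1 (Nat.add_eq_zero_iff.1 h).1).1
      rcases Nat.mul_eq_zero.1 h1 with h2 | h2
      · exact Or.inl ((comp_eq_bot_iff h0R d).2 h2)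
      · exact Or.inr ((Hcomp_eq_bot_iff hposS h0S hmS EN s d).2 h2)
    · have h := (hform r d).symm.trans (hv r (by omega) d)
      have h1 := (Nat.add_eq_zero_iff.1 (Nat.add_eq_zero_iff.1 h).1).2
      rcases Nat.mul_eq_zero.1 h1 with h2 | h2
      · exact Or.inl ((Hcomp_eq_bot_iff hposR h0R hmR EM r d).2 h2)
      · exact Or.inr ((comp_eq_bot_iff h0S d).2 h2)
  · rintro ⟨hc1, hc2⟩ q _
    refine cm_of_subsingleton_H 𝒯 hposT h0T 𝒬 hdP (fun i hi => ?_) q
    refine (subsingleton_H_iff EP mT i).2 fun d => ?_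
    rw [Hcomp_eq_bot_iff hposT h0T (mR := mT) rfl EP, hform i d, Nat.add_eq_zero_iff, Nat.add_eq_zero_iff]
    refine ⟨⟨?_, ?_⟩, Finset.sum_eq_zero fun j hj => ?_⟩
    · rcases eq_or_ne i s with rfl | hne
      · rcases hc1 d with h | h
        · rw [(comp_eq_bot_iff h0R d).1 h, zero_mul]
        · rw [h, finrank_bot, mul_zero]
      · rcases Nat.lt_or_gt_of_ne hne with h | h
        · rw [hN i d h, finrank_bot, mul_zero]
        · rw [hN' i d h, finrank_bot, mul_zero]
    · rcases eq_or_ne i r with rfl | hne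
      · rcases hc2 d with h | h
        · rw [h, finrank_bot, zero_mul]
        · rw [(comp_eq_bot_iff h0S d).1 h, mul_zero]
      · rcases Nat.lt_or_gt_of_ne hne with h | h
        · rw [hM i d h, finrank_bot, zero_mul]
        · rw [hM' i d h, finrank_bot, zero_mul]
    · have := Finset.mem_range.1 hj
      rcases Nat.lt_or_ge j r with h | h
      · rw [hM j d h, finrank_bot, zero_mul]
      · rw [hN (i + 1 - j) d (by omega), finrank_bot, mul_zero]

section ring

variable {A : Type u} [CommRing A]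

/-- A ring is Cohen–Macaulay iff it is so as a module over itself. -/
theorem cmRing_iff : LocCoh.IsCohenMacaulayRing A ↔ IsNoetherianRing A ∧
    ∀ (q : Ideal A) [q.IsPrime], Subsingleton (LocalizedModule q.primeCompl A) ∨
      LocCoh.IsCohenMacaulayModule (Localization.AtPrime q) (LocalizedModule q.primeCompl A) := by
  refine ⟨fun h => ⟨inferInstance, fun q _ => Or.inr ?_⟩, fun h => ?_⟩
  · haveI := h.isCohenMacaulayLocalRing_localization q
    rw [CAlgH3.isCohenMacaulayModule_congr (CAlgH3.localizedModuleSelf q), ← CAlgH3.isCohenMacaulayLocalRing_iff]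
    infer_instance
  · haveI := h.1
    refine ⟨fun q _ => ?_⟩
    rw [CAlgH3.isCohenMacaulayLocalRing_iff, ← CAlgH3.isCohenMacaulayModule_congr (CAlgH3.localizedModuleSelf q)]
    exact (h.2 q).resolve_left fun hs' => (not_nontrivial_iff_subsingleton.mpr hs')
      (CAlgH3.localizedModuleSelf q).toEquiv.nontrivial

end ring

end Groth.Agent.SegreLC
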