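import Mathlib
import Groth.Agent.SegreDim.Hsop

/-! Pieces of standard graded rings of positive dimension. -/

set_option autoImplicit false
universe u

namespace Groth.Agent.SegreLC

variable {k : Type u} [Field k] {R : Type u} [CommRing R] [Algebra k R] (𝒜 : ℤ → Submodule k R) [GradedAlgebra 𝒜]

theorem span_one_pow_le (n : ℕ) :
    Ideal.span ((𝒜 1 : Submodule k R) : Set R) ^ n ≤ Ideal.span ((𝒜 (n : ℤ) : Submodule k R) : Set R) := by
  induction n with
  | zero =>
    rw [pow_zero, Ideal.one_eq_top, top_le_iff, Ideal.eq_top_iff_one]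
    exact Ideal.subset_span (SetLike.one_mem_graded 𝒜)
  | succ n ih =>
    rw [pow_succ]
    refine (Ideal.mul_mono ih le_rfl).trans ?_
    rw [Ideal.span_mul_span']
    refine Ideal.span_mono ?_
    rintro _ ⟨a, ha, b, hb, rfl⟩
    have := SetLike.mul_mem_graded ha hb
    rwa [← Nat.cast_one, ← Nat.cast_add] at this

/-- In a standard graded ring of positive dimension all pieces in non-negative degree are nonzero. -/
theorem piece_ne_bot (hpos : ∀ n : ℤ, n < 0 → 𝒜 n = ⊥) (h0 : 𝒜 0 = Submodule.span k {(1 : R)})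
    (hstd : Ideal.span (⋃ n ∈ Set.Ioi (0 : ℤ), (𝒜 n : Set R)) = Ideal.span ((𝒜 1 : Submodule k R) : Set R))
    {r : ℕ} (hr : ringKrullDim R = r) (h1 : 1 ≤ r) (n : ℤ) (hn : 0 ≤ n) : 𝒜 n ≠ ⊥ := by
  obtain ⟨m, rfl⟩ := Int.eq_ofNat_of_zero_le hn
  intro hbot
  haveI : Nontrivial R := not_subsingleton_iff_nontrivial.1 fun _ => by
    rw [ringKrullDim_eq_bot_of_subsingleton] at hr; exact WithBot.bot_ne_natCast r hr
  haveI hmax := SegreDim.irr_isMaximal 𝒜 hpos h0
  have hirr : SegreDim.irr 𝒜 ^ m = ⊥ := by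
    rw [show SegreDim.irr 𝒜 = Ideal.span ((𝒜 1 : Submodule k R) : Set R) from hstd, eq_bot_iff]
    refine (span_one_pow_le 𝒜 m).trans ?_
    rw [hbot, Submodule.bot_coe, Ideal.span_singleton_zero]
  haveI : Ring.KrullDimLE 0 R := Ring.krullDimLE_zero_iff.2 fun p hp => by
    have hle : SegreDim.irr 𝒜 ≤ p := hp.le_of_pow_le (n := m) (by rw [hirr]; exact bot_le)
    rwa [← hmax.eq_of_le hp.ne_top hle]
  have h2 : ringKrullDim R ≤ 0 := Ring.krullDimLE_iff.1 inferInstance
  rw [hr, ← Nat.cast_zero, Nat.cast_le] at h2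
  omega

end Groth.Agent.SegreLC
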