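import Mathlib
import Groth.Agent.CAlgH3.GrCanonPoly
import Groth.Agent.GrLib.Piece
import Groth.Agent.GrLib.Acyclic

/-! Pieces of a canonical module and pieces of the top local cohomology. -/

set_option autoImplicit false
set_option linter.unusedSectionVars false
universe u

open DirectSum Groth.Agent.GrLib

namespace Groth.Agent.SegreLC

variable {R : Type u} [CommRing R] [IsNoetherianRing R] {σ : Type u} [SetLike σ R] [AddSubgroupClass σ R]
  {𝒜 : ℤ → σ} [GradedRing 𝒜] {m : HomogeneousIdeal 𝒜} {E' : Type u} [AddCommGroup E'] [Module R E']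
  {𝓔 : ℤ → AddSubgroup E'} [Decomposition 𝓔] [SetLike.GradedSMul 𝒜 𝓔] {e : (R ⧸ m.toIdeal) →ₗ[R] E'}
  (he : GrLC.IsStarInjHull 𝒜 (GrLC.quotGr 𝒜 m) 𝓔 e) (hne : m.toIdeal ≠ ⊤)
  (hneg : ∀ k : ℤ, k < 0 → ∀ x ∈ 𝒜 k, x = 0) (hp : ∀ k : ℤ, 0 < k → ∀ x ∈ 𝒜 k, x ∈ m.toIdeal)
  (h0 : IsField (GrLC.deg0 𝒜))

include he hneg hp in
/-- Nonzero homogeneous elements of the hull are moved into the socle by elements of the ring. -/
theorem exists_smul_socle {g : ℤ} {y : E'} (hy : y ∈ 𝓔 g) (hy0 : y ≠ 0) :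
    ∃ (a : ℤ) (r : R), r ∈ 𝒜 a ∧ r • y ≠ 0 ∧ a + g = 0 ∧ ∃ s ∈ 𝒜 0, r • y = e (Ideal.Quotient.mk m.toIdeal s) := by
  obtain ⟨a, r, hr, hr0, t, ht⟩ := hull_essIn he g y hy trivial hy0
  letI := qDecomp 𝒜 (p := (m.toIdeal : Submodule R R)) m.isHomogeneous
  obtain ⟨t', ht', htt⟩ := exists_preimage (ℳ := qGr 𝒜 (m.toIdeal : Submodule R R))
    (grHomDeg_zero_iff.2 he.grHom) (g := a + g) (y := r • y) (by rw [add_zero]; exact smul_mem hr hy) ⟨t, ht⟩
  obtain ⟨s, hs, rfl⟩ := ht'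
  have hag : a + g = 0 := by
    rcases lt_trichotomy (a + g) 0 with h | h | h
    · refine absurd ?_ hr0
      rw [← htt, hneg _ h s hs, map_zero]
      exact map_zero e
    · exact h
    · refine absurd ?_ hr0
      rw [← htt, show (Submodule.mkQ (m.toIdeal : Submodule R R)).toAddMonoidHom s = 0 from
        (Submodule.Quotient.mk_eq_zero _).2 (hp (a + g) h s hs)]
      exact map_zero e
  exact ⟨a, r, hr, hr0, hag, s, hag ▸ hs, htt.symm⟩

include he hne hneg hp h0 in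
/-- The degree-zero piece of the hull is a line. -/
theorem socle_line : (∀ y ∈ 𝓔 0, ∃ s : GrLC.deg0 𝒜, y = e (Ideal.Quotient.mk m.toIdeal (s : R))) ∧
    Module.finrank (GrLC.deg0 𝒜) (GrLC.comp 𝒜 𝓔 0) = 1 := by
  letI := h0.toField
  have hspan : ∀ y ∈ 𝓔 0, ∃ s : GrLC.deg0 𝒜, y = e (Ideal.Quotient.mk m.toIdeal (s : R)) := by
    intro y hy
    by_cases hy0 : y = 0
    · exact ⟨0, by rw [hy0]; exact ((congrArg e (map_zero _)).trans (map_zero e)).symm⟩
    obtain ⟨a, r, hr, hr0, hag, s, hs, hrs⟩ := exists_smul_socle he hneg hp hy hy0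
    obtain rfl : a = 0 := by omega
    obtain ⟨u, hu⟩ := h0.mul_inv_cancel (a := ⟨r, hr⟩) fun h => hr0 (by
      rw [show r = 0 from congrArg Subtype.val h, zero_smul])
    refine ⟨u * ⟨s, hs⟩, ?_⟩
    have h1 : r * (u : R) = 1 := congrArg Subtype.val hu
    calc y = ((u : R) * r) • y := by rw [mul_comm, h1, one_smul]
      _ = (u : R) • e (Ideal.Quotient.mk m.toIdeal s) := by rw [mul_smul, hrs]
      _ = e (Ideal.Quotient.mk m.toIdeal ((u : R) * s)) := by rw [← map_smul]; rfl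
  refine ⟨hspan, ?_⟩
  let v : GrLC.comp 𝒜 𝓔 0 := ⟨e (Ideal.Quotient.mk m.toIdeal 1), he.grHom 0 _ ⟨1, SetLike.one_mem_graded 𝒜, rfl⟩⟩
  have hv : v ≠ 0 := fun h => hne ((Ideal.eq_top_iff_one _).2 (Ideal.Quotient.eq_zero_iff_mem.1
    (he.injective ((congrArg Subtype.val h).trans (map_zero e).symm))))
  refine finrank_eq_one v hv fun w => ?_
  obtain ⟨s, hs⟩ := hspan w.1 w.2
  refine ⟨s, Subtype.ext ?_⟩
  show (s : R) • e (Ideal.Quotient.mk m.toIdeal 1) = w.1
  rw [hs, ← map_smul]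
  exact congrArg e (congrArg (Ideal.Quotient.mk m.toIdeal) (mul_one _))

variable {n : ℕ} {I : GrLC.StarInjRes 𝒜 𝒜} {C : Type u} [AddCommGroup C] [Module R C] {𝒞 : ℤ → AddSubgroup C}
  [Decomposition 𝒞] [SetLike.GradedSMul 𝒜 𝒞] (hC : GrLC.IsStarCanonical 𝒜 𝒞 𝓔 m n I)

include hC in
/-- A piece of the dual is a piece of the top local cohomology. -/
theorem nonempty_homDeg_equiv (j : ℤ) :
    Nonempty (GrLC.homDeg 𝒜 𝒞 𝓔 j ≃ₗ[GrLC.deg0 𝒜] I.Hcomp m n j) := by
  classical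
  obtain ⟨hfin, φ, hφ⟩ := hC
  haveI := hfin
  letI := Hdecomp I m n
  let Φ : GrLC.homDeg 𝒜 𝒞 𝓔 j →ₗ[GrLC.deg0 𝒜] I.Hcomp m n j :=
    { toFun := fun f => ⟨φ f.1, hφ j f.1 f.2⟩
      map_add' := fun f g => Subtype.ext (map_add φ f.1 g.1)
      map_smul' := fun r f => Subtype.ext (map_smul φ (r : R) f.1) }
  refine ⟨LinearEquiv.ofBijective Φ ⟨fun f g h => Subtype.ext (φ.injective (congrArg Subtype.val h)), fun z => ?_⟩⟩
  obtain ⟨S, hS⟩ := exists_sum_homComponent (ℳ := 𝒞) (𝒩 := 𝓔) 𝒜 (φ.symm z.1)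
  refine ⟨⟨homComponent 𝒜 𝒞 𝓔 (φ.symm z.1) j, homComponent_deg 𝒜 (ℳ := 𝒞) (𝒩 := 𝓔) _ j⟩, Subtype.ext ?_⟩
  show φ (homComponent 𝒜 𝒞 𝓔 (φ.symm z.1) j) = z.1
  have hd : ∀ d, φ (homComponent 𝒜 𝒞 𝓔 (φ.symm z.1) d) ∈ I.Hgr m n d := fun d =>
    hφ d _ (homComponent_deg 𝒜 (ℳ := 𝒞) (𝒩 := 𝓔) _ d)
  conv_rhs => rw [← proj_of_mem (ℳ := I.Hgr m n) (show z.1 ∈ I.Hgr m n j from z.2), ← φ.apply_symm_apply z.1,
    hS, map_sum, map_sum]
  by_cases hj : j ∈ S
  · rw [Finset.sum_eq_single_of_mem j hj fun d _ hdj => proj_of_mem_ne (hd d) hdj, proj_of_mem (hd j)]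
  · rw [Finset.sum_eq_zero fun d hd' => proj_of_mem_ne (hd d) (fun h => hj (by rwa [h] at hd'))]
    by_contra hne'
    obtain ⟨g, c, hc, hgc⟩ : ∃ g, ∃ c ∈ 𝒞 g, homComponent 𝒜 𝒞 𝓔 (φ.symm z.1) j c ≠ 0 := by
      by_contra hno
      push Not at hno
      exact hne' (by rw [show homComponent 𝒜 𝒞 𝓔 (φ.symm z.1) j = 0 from LinearMap.ext fun c =>
        induction 𝒞 (motive := fun c => homComponent 𝒜 𝒞 𝓔 (φ.symm z.1) j c = 0)
          (map_zero _) hno (fun x y hx hy => by rw [map_add, hx, hy, add_zero]) c, map_zero])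
    refine hgc ?_
    rw [homComponent_apply 𝒜 _ hc]
    conv_lhs => rw [hS, LinearMap.sum_apply, map_sum]
    exact Finset.sum_eq_zero fun d hd' =>
      proj_of_mem_ne (homComponent_deg 𝒜 (ℳ := 𝒞) (𝒩 := 𝓔) _ d g c hc) (fun h => hj (add_left_cancel h ▸ hd'))

include he hne hneg hp h0 hC in
/-- The dimension of a piece of a canonical module. -/
theorem finrank_comp_canonical (g : ℤ) :
    Module.finrank (GrLC.deg0 𝒜) (GrLC.comp 𝒜 𝒞 g) = Module.finrank (GrLC.deg0 𝒜) (I.Hcomp m n (-g)) := by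
  classical
  obtain ⟨eH⟩ := nonempty_homDeg_equiv hC (-g)
  letI := h0.toField
  haveI := hC.1
  haveI : IsNoetherian (GrLC.deg0 𝒜) (GrLC.comp 𝒜 𝒞 g) := isNoetherian_piece 𝒜 𝒞 g
  obtain ⟨hspan, hline⟩ := socle_line he hne hneg hp h0
  haveI : Module.Finite (GrLC.deg0 𝒜) (GrLC.comp 𝒜 𝓔 0) := Module.finite_of_finrank_eq_succ hline
  let ev : GrLC.homDeg 𝒜 𝒞 𝓔 (-g) →ₗ[GrLC.deg0 𝒜] (GrLC.comp 𝒜 𝒞 g →ₗ[GrLC.deg0 𝒜] GrLC.comp 𝒜 𝓔 0) :=
    { toFun := fun f =>
        { toFun := fun c => ⟨f.1 c.1, by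
            have := f.2 g c.1 c.2
            rwa [add_neg_cancel] at this⟩
          map_add' := fun a b => Subtype.ext (map_add f.1 a.1 b.1)
          map_smul' := fun r a => Subtype.ext (map_smul f.1 (r : R) a.1) }
      map_add' := fun f f' => rfl
      map_smul' := fun r f => rfl }
  have hinj : Function.Injective ev := (injective_iff_map_eq_zero _).2 fun f hf => Subtype.ext (LinearMap.ext fun c => by
    refine induction 𝒞 (motive := fun c => f.1 c = 0) (map_zero _) (fun h c hc => ?_)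
      (fun x y hx hy => by rw [map_add, hx, hy, add_zero]) c
    by_contra hne0
    obtain ⟨a, r, hr, hr0, hag, -⟩ := exists_smul_socle he hneg hp (f.2 h c hc) hne0
    have hrc : r • c ∈ 𝒞 g := by
      have := smul_mem (ℳ := 𝒞) hr hc
      rwa [show a + h = g by omega] at this
    refine hr0 ?_
    rw [← map_smul]
    exact congrArg Subtype.val (LinearMap.congr_fun hf ⟨r • c, hrc⟩))
  have hsurj : Function.Surjective ev := by
    intro l
    let W : Submodule R C :=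
      { carrier := {c | ∀ h < g, proj 𝒞 h c = 0}
        add_mem' := fun ha hb h hh => by rw [map_add, ha h hh, hb h hh, add_zero]
        zero_mem' := fun h _ => map_zero _
        smul_mem' := fun r c hc h hh => by
          refine smul_induction 𝒜 (motive := fun r => proj 𝒞 h (r • c) = 0) (by simp) (fun a s hs => ?_)
            (fun x y hx hy => by rw [add_smul, map_add, hx, hy, add_zero]) r
          rcases lt_or_ge a 0 with ha | ha
          · rw [hneg a ha s hs, zero_smul, map_zero]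
          · rw [proj_smul' (𝒜 := 𝒜) (ℳ := 𝒞) hs, hc (h - a) (by omega), smul_zero] }
    have hW : W.IsHomogeneous 𝒞 := fun i c hc h hh => by
      show proj 𝒞 h (proj 𝒞 i c) = 0
      by_cases e' : i = h
      · subst e'; rw [hc i hh, map_zero]
      · exact proj_of_mem_ne (proj_mem 𝒞 i c) e'
    letI := subDecomp 𝒞 hW
    let p0 : C → GrLC.comp 𝒜 𝒞 g := fun c => ⟨proj 𝒞 g c, proj_mem 𝒞 g c⟩
    have hp0 : ∀ a b, p0 (a + b) = p0 a + p0 b := fun a b => Subtype.ext (map_add (proj 𝒞 g) a b)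
    let g₀ : W →ₗ[R] E' :=
      { toFun := fun c => (l (p0 c.1)).1
        map_add' := fun a b => by
          show (l (p0 (a.1 + b.1))).1 = _
          rw [hp0, map_add]
          rfl
        map_smul' := fun r c => by
          rw [RingHom.id_apply]
          refine smul_induction 𝒜 (motive := fun r => (l (p0 (r • c.1))).1 = r • (l (p0 c.1)).1) ?_ (fun a s hs => ?_)
            (fun x y hx hy => by rw [add_smul, hp0, map_add, add_smul, ← hx, ← hy]; rfl) r
          · rw [zero_smul, zero_smul, show p0 0 = 0 from Subtype.ext (map_zero _), map_zero]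
            rfl
          rcases lt_trichotomy a 0 with ha | rfl | ha
          · rw [hneg a ha s hs, zero_smul, zero_smul, show p0 0 = 0 from Subtype.ext (map_zero _), map_zero]
            rfl
          · have : p0 (s • c.1) = (⟨s, hs⟩ : GrLC.deg0 𝒜) • p0 c.1 := Subtype.ext (by
              show proj 𝒞 g (s • c.1) = s • proj 𝒞 g c.1
              rw [proj_smul' (𝒜 := 𝒜) (ℳ := 𝒞) hs, sub_zero])
            rw [this, map_smul]
            rfl
          · rw [show p0 (s • c.1) = 0 from Subtype.ext (by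
              show proj 𝒞 g (s • c.1) = 0
              rw [proj_smul' (𝒜 := 𝒜) (ℳ := 𝒞) hs, c.2 (g - a) (by omega), smul_zero]), map_zero]
            obtain ⟨t, ht⟩ := hspan _ (l (p0 c.1)).2
            rw [ht, ← map_smul, smul_eq_zero_of_mem s (hp a ha s hs), map_zero]
            rfl }
    have hg₀ : GrLC.IsGrHomDeg (subGr 𝒞 W) 𝓔 g₀ (-g) := fun h c hc => by
      by_cases e' : h = g
      · rw [e', add_neg_cancel]; exact (l (p0 c.1)).2
      · have : p0 c.1 = 0 := Subtype.ext (proj_of_mem_ne (show c.1 ∈ 𝒞 h from hc) e')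
        show (l (p0 c.1)).1 ∈ 𝓔 (h + -g)
        rw [this, map_zero]
        exact zero_mem _
    obtain ⟨f, hf, hfe⟩ := exists_extend_deg he.starInj (subtype_grHom (ℳ := 𝒞) W) W.injective_subtype hg₀
    refine ⟨⟨f, hf⟩, LinearMap.ext fun c => Subtype.ext ?_⟩
    have hcW : c.1 ∈ W := fun h hh => proj_of_mem_ne (show c.1 ∈ 𝒞 g from c.2) (ne_of_gt hh)
    show f c.1 = (l c).1
    rw [show f c.1 = g₀ ⟨c.1, hcW⟩ from LinearMap.congr_fun hfe ⟨c.1, hcW⟩]
    exact congrArg (fun x => (l x).1) (Subtype.ext (proj_of_mem (show c.1 ∈ 𝒞 g from c.2)))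
  rw [← eH.finrank_eq, (LinearEquiv.ofBijective ev ⟨hinj, hsurj⟩).finrank_eq, Module.finrank_linearMap, hline, mul_one]

end Groth.Agent.SegreLC
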