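import Mathlib
import Groth.Agent.SegreLC.CanonDim
import Groth.Agent.SegreLC.Seg
import Groth.Agent.SegreLC.Compare
import Groth.Agent.SegreLC.Formula

/-! Functionals on pieces as maps into the hull of the residue field. -/

set_option autoImplicit false
set_option linter.unusedSectionVars false
universe u

open DirectSum

namespace Groth.Agent.SegreLC

variable {k : Type u} [Field k] {R : Type u} [CommRing R] [Algebra k R] [IsNoetherianRing R]
  {𝒜 : ℤ → Submodule k R} [GradedAlgebra 𝒜] (hpos : ∀ n : ℤ, n < 0 → 𝒜 n = ⊥)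
  (h0 : 𝒜 0 = Submodule.span k {(1 : R)}) {m : HomogeneousIdeal 𝒜}
  (hm : m.toIdeal = Ideal.span (⋃ n ∈ Set.Ioi (0 : ℤ), (𝒜 n : Set R)))
  (XE : GrLC.GMod.{u} 𝒜) {e : (R ⧸ m.toIdeal) →ₗ[R] XE.carrier}
  (he : GrLC.IsStarInjHull 𝒜 (GrLC.quotGr 𝒜 m) XE.gr e)

theorem top_ne_of_irrelevant [Nontrivial R] (hpos : ∀ n : ℤ, n < 0 → 𝒜 n = ⊥)
    (hm : m.toIdeal = Ideal.span (⋃ n ∈ Set.Ioi (0 : ℤ), (𝒜 n : Set R))) : m.toIdeal ≠ ⊤ := by
  intro htop
  have key : ∀ x ∈ m.toIdeal, GrLib.proj 𝒜 0 x = 0 := by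
    intro x hx
    rw [hm] at hx
    induction hx using Submodule.span_induction with
    | mem x hx =>
      simp only [Set.mem_iUnion, Set.mem_Ioi] at hx
      obtain ⟨n, hn, hxn⟩ := hx
      exact GrLib.proj_of_mem_ne hxn (ne_of_gt hn)
    | zero => exact map_zero _
    | add p q _ _ hp hq => rw [map_add, hp, hq, add_zero]
    | smul r p _ hp =>
      refine GrLib.smul_induction 𝒜 (motive := fun r => GrLib.proj 𝒜 0 (r • p) = 0) (by simp) (fun a s hs => ?_)
        (fun y z hy hz => by rw [add_smul, map_add, hy, hz, add_zero]) r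
      rcases lt_trichotomy a 0 with ha | rfl | ha
      · rw [hpos a ha] at hs
        rw [(Submodule.mem_bot k).1 hs, zero_smul, map_zero]
      · rw [GrLib.proj_smul' (𝒜 := 𝒜) (ℳ := 𝒜) hs, sub_zero, hp, smul_zero]
      · have h' := GrLib.proj_mem 𝒜 (0 - a) p
        rw [hpos (0 - a) (by omega)] at h'
        rw [GrLib.proj_smul' (𝒜 := 𝒜) (ℳ := 𝒜) hs, (Submodule.mem_bot k).1 h', smul_zero]
  refine one_ne_zero (α := R) ?_
  rw [← GrLib.proj_of_mem (ℳ := 𝒜) (SetLike.one_mem_graded 𝒜)]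
  exact key 1 (htop ▸ Submodule.mem_top)

theorem mem_of_pos (hm : m.toIdeal = Ideal.span (⋃ n ∈ Set.Ioi (0 : ℤ), (𝒜 n : Set R))) {c : ℤ} (hc : 0 < c)
    {x : R} (hx : x ∈ 𝒜 c) : x ∈ m.toIdeal := by
  rw [hm]
  exact Ideal.subset_span (Set.mem_iUnion₂.2 ⟨c, hc, hx⟩)

include he in
/-- The generator of the socle is killed by the irrelevant ideal. -/
theorem smul_socle_eq_zero {r : R} (hr : r ∈ m.toIdeal) : r • e (Ideal.Quotient.mk m.toIdeal 1) = 0 := by
  rw [← map_smul, show r • Ideal.Quotient.mk m.toIdeal (1 : R) = 0 from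
    Ideal.Quotient.eq_zero_iff_mem.2 (by simpa using hr), map_zero]

include he in
theorem socle_mem : e (Ideal.Quotient.mk m.toIdeal 1) ∈ XE.gr 0 :=
  he.grHom 0 _ ⟨1, SetLike.one_mem_graded 𝒜, rfl⟩

include he in
theorem socle_ne_zero (hne : m.toIdeal ≠ ⊤) : e (Ideal.Quotient.mk m.toIdeal 1) ≠ 0 := fun h =>
  hne ((Ideal.eq_top_iff_one _).2 (Ideal.Quotient.eq_zero_iff_mem.1 (he.injective (h.trans (map_zero e).symm))))

include hpos h0 hm he in
/-- The degree-zero piece of the hull is spanned by the socle generator. -/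
theorem exists_socle_coeff {y : XE.carrier} (hy : y ∈ XE.gr 0) :
    ∃ c : k, y = c • e (Ideal.Quotient.mk m.toIdeal 1) := by
  by_cases hy0 : y = 0
  · exact ⟨0, by rw [hy0, zero_smul]⟩
  obtain ⟨a, r, hr, hr0, hag, s, hs, hrs⟩ := exists_smul_socle he
    (fun c hc x hx => (Submodule.mem_bot k).1 (hpos c hc ▸ hx)) (fun c hc x hx => mem_of_pos hm hc hx) hy hy0
  obtain rfl : a = 0 := by omega
  rw [h0, Submodule.mem_span_singleton] at hr hs
  obtain ⟨c, rfl⟩ := hr
  obtain ⟨c', rfl⟩ := hs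
  have hc : c ≠ 0 := fun hc => hr0 (by rw [hc, zero_smul, zero_smul])
  have h1 : c • y = c' • e (Ideal.Quotient.mk m.toIdeal 1) := by
    rw [smul_assoc, one_smul] at hrs
    rw [hrs, ← algebraMap_smul R c' (e (Ideal.Quotient.mk m.toIdeal 1)), ← map_smul]
    refine congrArg e ?_
    show Ideal.Quotient.mk m.toIdeal (c' • (1 : R)) = Ideal.Quotient.mk m.toIdeal (algebraMap k R c' * 1)
    rw [Algebra.smul_def]
  exact ⟨c⁻¹ * c', by rw [mul_smul, ← h1, inv_smul_smul₀ hc]⟩

section maps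

variable {C : Type u} [AddCommGroup C] [Module R C] {𝒞 : ℤ → AddSubgroup C} [Decomposition 𝒞]
  [SetLike.GradedSMul 𝒜 𝒞]

include hpos hm he in
/-- A map into the hull is determined by its values in the matching piece. -/
theorem eq_zero_of_piece {f : C →ₗ[R] XE.carrier} {d : ℤ} (hf : GrLC.IsGrHomDeg 𝒞 XE.gr f d) {g : ℤ}
    (hg : g + d = 0) (h : ∀ c ∈ 𝒞 g, f c = 0) : f = 0 := by
  refine LinearMap.ext fun c => ?_
  refine GrLib.induction 𝒞 (motive := fun c => f c = 0) (map_zero f) (fun i x hx => ?_)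
    (fun x y hx hy => by rw [map_add, hx, hy, add_zero]) c
  by_contra hne
  obtain ⟨a, r, hr, hr0, hag, -⟩ := exists_smul_socle he
    (fun c hc x hx => (Submodule.mem_bot k).1 (hpos c hc ▸ hx)) (fun c hc x hx => mem_of_pos hm hc hx) (hf i x hx) hne
  refine hr0 ?_
  rw [← map_smul]
  refine h _ ?_
  have := GrLib.smul_mem (ℳ := 𝒞) hr hx
  rwa [show a + i = g by omega] at this

end maps

include hpos h0 hm he in
/-- A functional on a piece extends to a homogeneous map into the hull. -/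
theorem exists_extend_functional (XC : GrLC.GMod.{u} 𝒜) (g : ℤ) (l : kpiece XC g →ₗ[k] k) :
    ∃ f : XC.carrier →ₗ[R] XE.carrier, GrLC.IsGrHomDeg XC.gr XE.gr f (-g) ∧
      ∀ c : kpiece XC g, f c.1 = l c • e (Ideal.Quotient.mk m.toIdeal 1) := by
  classical
  have hneg : ∀ c : ℤ, c < 0 → ∀ x ∈ 𝒜 c, x = 0 := fun c hc x hx => (Submodule.mem_bot k).1 (hpos c hc ▸ hx)
  let W : Submodule R XC.carrier :=
    { carrier := {c | ∀ h < g, GrLib.proj XC.gr h c = 0}
      add_mem' := fun ha hb h hh => by rw [map_add, ha h hh, hb h hh, add_zero]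
      zero_mem' := fun h _ => map_zero _
      smul_mem' := fun r c hc h hh => by
        refine GrLib.smul_induction 𝒜 (motive := fun r => GrLib.proj XC.gr h (r • c) = 0) (by simp) (fun a s hs => ?_)
          (fun x y hx hy => by rw [add_smul, map_add, hx, hy, add_zero]) r
        rcases lt_or_ge a 0 with ha | ha
        · rw [hneg a ha s hs, zero_smul, map_zero]
        · rw [GrLib.proj_smul' (𝒜 := 𝒜) (ℳ := XC.gr) hs, hc (h - a) (by omega), smul_zero] }
  have hW : W.IsHomogeneous XC.gr := fun i c hc h hh => by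
    show GrLib.proj XC.gr h (GrLib.proj XC.gr i c) = 0
    by_cases e' : i = h
    · subst e'; rw [hc i hh, map_zero]
    · exact GrLib.proj_of_mem_ne (GrLib.proj_mem XC.gr i c) e'
  letI := GrLib.subDecomp XC.gr hW
  let p0 : XC.carrier →ₗ[k] kpiece XC g :=
    (SegreDim.pieceProj 𝒜 XC.gr g).codRestrict (kpiece XC g) fun x => GrLib.proj_mem XC.gr g x
  let g₀ : W →ₗ[R] XE.carrier :=
    { toFun := fun c => l (p0 c.1) • e (Ideal.Quotient.mk m.toIdeal 1)
      map_add' := fun a b => by rw [Submodule.coe_add, map_add, map_add, add_smul]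
      map_smul' := fun r c => by
        rw [RingHom.id_apply, Submodule.coe_smul]
        refine GrLib.smul_induction 𝒜 (motive := fun r => l (p0 (r • c.1)) • e (Ideal.Quotient.mk m.toIdeal 1) =
          r • (l (p0 c.1) • e (Ideal.Quotient.mk m.toIdeal 1))) ?_ (fun a s hs => ?_)
          (fun x y hx hy => by rw [add_smul, map_add, map_add, add_smul, hx, hy, ← add_smul]) r
        · rw [zero_smul, zero_smul, map_zero, map_zero, zero_smul]
        rcases lt_trichotomy a 0 with ha | rfl | ha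
        · rw [hneg a ha s hs, zero_smul, zero_smul, map_zero, map_zero, zero_smul]
        · rw [h0, Submodule.mem_span_singleton] at hs
          obtain ⟨c', rfl⟩ := hs
          rw [smul_assoc, one_smul, map_smul, map_smul, smul_assoc, smul_assoc, one_smul]
        · rw [show p0 (s • c.1) = 0 from Subtype.ext (by
              show GrLib.proj XC.gr g (s • c.1) = 0
              rw [GrLib.proj_smul' (𝒜 := 𝒜) (ℳ := XC.gr) hs, c.2 (g - a) (by omega), smul_zero]),
            map_zero, zero_smul, smul_comm, smul_socle_eq_zero XE he (mem_of_pos hm ha hs), smul_zero] }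
  have hg₀ : GrLC.IsGrHomDeg (GrLib.subGr XC.gr W) XE.gr g₀ (-g) := fun h c hc => by
    show l (p0 c.1) • e (Ideal.Quotient.mk m.toIdeal 1) ∈ XE.gr (h + -g)
    by_cases e' : h = g
    · rw [e', add_neg_cancel]
      exact SegreDim.smul_mem_piece 𝒜 XE.gr _ (socle_mem XE he)
    · have : p0 c.1 = 0 := Subtype.ext (GrLib.proj_of_mem_ne (show c.1 ∈ XC.gr h from hc) e')
      rw [this, map_zero, zero_smul]
      exact zero_mem _
  obtain ⟨f, hf, hfe⟩ := GrLib.exists_extend_deg he.starInj (GrLib.subtype_grHom (ℳ := XC.gr) W) W.injective_subtype hg₀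
  refine ⟨f, hf, fun c => ?_⟩
  have hcW : c.1 ∈ W := fun h hh => GrLib.proj_of_mem_ne (show c.1 ∈ XC.gr g from c.2) (ne_of_gt hh)
  rw [show f c.1 = g₀ ⟨c.1, hcW⟩ from LinearMap.congr_fun hfe ⟨c.1, hcW⟩]
  show l (p0 c.1) • e (Ideal.Quotient.mk m.toIdeal 1) = _
  rw [show p0 c.1 = c from Subtype.ext (GrLib.proj_of_mem (show c.1 ∈ XC.gr g from c.2))]

end Groth.Agent.SegreLC
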