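import Mathlib
import Groth.Agent.SegreLC.Unbundled

/-! The top local cohomology of a Segre product. -/

set_option autoImplicit false
set_option linter.unusedSectionVars false
set_option maxHeartbeats 2000000
universe u

open DirectSum TensorProduct

namespace Groth.Agent.SegreLC

section bundled

variable {k : Type u} [Field k] {R : Type u} [CommRing R] [Nontrivial R] [Algebra k R] {𝒜 : ℤ → Submodule k R}
  [GradedAlgebra 𝒜] [Algebra.FiniteType k R] (hposR : ∀ n : ℤ, n < 0 → 𝒜 n = ⊥) (h0R : 𝒜 0 = Submodule.span k {(1 : R)})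
  {S : Type u} [CommRing S] [Nontrivial S] [Algebra k S] {ℬ : ℤ → Submodule k S}
  [GradedAlgebra ℬ] [Algebra.FiniteType k S] (hposS : ∀ n : ℤ, n < 0 → ℬ n = ⊥) (h0S : ℬ 0 = Submodule.span k {(1 : S)})
  {T : Type u} [CommRing T] [Algebra k T] {𝒯 : ℤ → Submodule k T} [GradedAlgebra 𝒯] {ψ : T →ₐ[k] R ⊗[k] S}
  (hT : GrSeg.IsSegreRing 𝒜 ℬ 𝒯 ψ)
  {mR : HomogeneousIdeal 𝒜} (hmR : mR.toIdeal = Ideal.span (⋃ n ∈ Set.Ioi (0 : ℤ), (𝒜 n : Set R)))
  {mS : HomogeneousIdeal ℬ} (hmS : mS.toIdeal = Ideal.span (⋃ n ∈ Set.Ioi (0 : ℤ), (ℬ n : Set S)))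
  {mT : HomogeneousIdeal 𝒯} (hmT : mT.toIdeal = Ideal.span (⋃ n ∈ Set.Ioi (0 : ℤ), (𝒯 n : Set T)))
  (X₀ : GrLC.GMod.{u} 𝒜) (E : GrLC.StarInjRes 𝒜 X₀.gr) (Y₀ : GrLC.GMod.{u} ℬ) (F : GrLC.StarInjRes ℬ Y₀.gr)
  {P : Type u} [AddCommGroup P] [Module T P]
  [Module k P] [IsScalarTower k T P] {𝒬 : ℤ → AddSubgroup P} [Decomposition 𝒬] [SetLike.GradedSMul 𝒯 𝒬]
  {φ : P →ₗ[k] X₀.carrier ⊗[k] Y₀.carrier} (hP : GrSeg.IsSegreMod ψ X₀.gr Y₀.gr 𝒬 φ)
  (EP : GrLC.StarInjRes 𝒯 𝒬)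

include hposR h0R hposS h0S hT hmR hmS hmT hP

/-- In the top degree only the top cohomology of the factors contributes. -/
theorem finrank_Hcomp_top [Module.Finite R X₀.carrier] [Module.Finite S Y₀.carrier] (a b : ℕ)
    (hM : ∀ (q : ℕ) (d : ℤ), a + 2 < q → E.Hcomp mR q d = ⊥) (hN : ∀ (q : ℕ) (d : ℤ), b + 2 < q → F.Hcomp mS q d = ⊥)
    (d : ℤ) :
    Module.finrank (GrLC.deg0 𝒯) (EP.Hcomp mT (a + b + 3) d) =
      Module.finrank (GrLC.deg0 𝒜) (E.Hcomp mR (a + 2) d) * Module.finrank (GrLC.deg0 ℬ) (F.Hcomp mS (b + 2) d) := by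
  classical
  haveI := Algebra.FiniteType.isNoetherianRing k R
  haveI := Algebra.FiniteType.isNoetherianRing k S
  haveI := segre_noetherian hT
  haveI : Nontrivial T := ⟨⟨0, 1, fun h => one_ne_zero (α := R ⊗[k] S) (by rw [← map_one ψ, ← h, map_zero])⟩⟩
  obtain ⟨f, hf, hfb⟩ := exists_segIso hT X₀ Y₀ hP
  obtain ⟨e⟩ := nonempty_cohEquiv_of_acyclic (totX hT.2 E F) (totdX hT.2 E F) (totdX_grHom hT.2 E F)
    (totε hT.2 E F) (totε_grHom hT.2 E F) (totε_injective hT.2 E F) (totε_exact hT.2 E F) (totdX_exact hT.2 E F)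
    EP f hf mT hfb (acyc_totX hT.2 hmR hmS hmT E F) (a + b + 3) d
  obtain ⟨e'⟩ := nonempty_cohEquiv_gam hT.2 hmR hmS hmT E F d (a + b + 3)
  refine ((finrank_Hcomp EP mT (segre_zero h0R h0S hT) (a + b + 3) d).trans
    (e.finrank_eq.symm.trans e'.finrank_eq)).trans ?_
  obtain ⟨e₁⟩ := nonempty_tot_high (C := PC E d) (D := PC F d) (C' := BC E mR d) (D' := BC F mS d) (dC := pd E d)
    (dD := pd F d) (dC' := bd E mR d) (dD' := bd F mS d) (p := bπ E mR d) (g := bπ F mS d)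
    (bπ_comm E mR d) (bπ_comm F mS d) (bπ_surjective E mR d) (bπ_surjective F mS d)
    (pd_pd E d) (pd_pd F d) (pd_exact E d) (pd_exact F d) (bd_bd E mR d) (bd_bd F mS d) (a + b + 1)
  have hpR : ∀ c : ℤ, c < 0 → ∀ x ∈ 𝒜 c, x = 0 := fun c hc x hx => (Submodule.mem_bot k).1 (hposR c hc ▸ hx)
  have hpS : ∀ c : ℤ, c < 0 → ∀ x ∈ ℬ c, x = 0 := fun c hc x hx => (Submodule.mem_bot k).1 (hposS c hc ▸ hx)
  have sX : ∀ i, a + 2 ≤ i → Subsingleton (Coh (bd E mR d) i) := fun i hi => by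
    obtain ⟨j, rfl⟩ : ∃ j, i = j + 1 := ⟨i - 1, by omega⟩
    haveI := subsingleton_kerd E mR d h0R (j + 2) (hM (j + 2) d (by omega))
    exact (nonempty_bdEquiv_succ E mR d j).some.toEquiv.subsingleton
  have sY : ∀ i, b + 2 ≤ i → Subsingleton (Coh (bd F mS d) i) := fun i hi => by
    obtain ⟨j, rfl⟩ : ∃ j, i = j + 1 := ⟨i - 1, by omega⟩
    haveI := subsingleton_kerd F mS d h0S (j + 2) (hN (j + 2) d (by omega))
    exact (nonempty_bdEquiv_succ F mS d j).some.toEquiv.subsingleton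
  haveI fX : Module.Finite k (Coh (bd E mR d) (a + 1)) := by
    haveI := GrLib.isNoetherian_Hcomp_irrelevant hpR mR hmR (a + 2) inferInstance E d
    haveI := finite_kerd E mR d h0R (a + 2)
    exact Module.Finite.equiv (nonempty_bdEquiv_succ E mR d a).some.symm
  haveI fY : Module.Finite k (Coh (bd F mS d) (b + 1)) := by
    haveI := GrLib.isNoetherian_Hcomp_irrelevant hpS mS hmS (b + 2) inferInstance F d
    haveI := finite_kerd F mS d h0S (b + 2)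
    exact Module.Finite.equiv (nonempty_bdEquiv_succ F mS d b).some.symm
  let p₀ : Finset.HasAntidiagonal.antidiagonal (a + b + 1 + 1) :=
    ⟨(a + 1, b + 1), Finset.HasAntidiagonal.mem_antidiagonal.2 (by omega)⟩
  have hz : ∀ p : Finset.HasAntidiagonal.antidiagonal (a + b + 1 + 1), p ≠ p₀ →
      Subsingleton (Coh (bd E mR d) p.1.1 ⊗[k] Coh (bd F mS d) p.1.2) := fun p hp => by
    have hsum := Finset.HasAntidiagonal.mem_antidiagonal.1 p.2
    rcases Nat.lt_trichotomy p.1.1 (a + 1) with h | h | h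
    · haveI := sY p.1.2 (by omega)
      refine subsingleton_of_forall_eq 0 fun x => ?_
      induction x using TensorProduct.induction_on with
      | zero => rfl
      | add a b ha hb => rw [ha, hb, add_zero]
      | tmul a b => rw [Subsingleton.elim b 0, TensorProduct.tmul_zero]
    · exact absurd (Subtype.ext (Prod.ext h (show p.1.2 = b + 1 by omega))) hp
    · haveI := sX p.1.1 (by omega)
      refine subsingleton_of_forall_eq 0 fun x => ?_
      induction x using TensorProduct.induction_on with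
      | zero => rfl
      | add a b ha hb => rw [ha, hb, add_zero]
      | tmul a b => rw [Subsingleton.elim a 0, TensorProduct.zero_tmul]
  haveI : ∀ p : Finset.HasAntidiagonal.antidiagonal (a + b + 1 + 1),
      Module.Finite k (Coh (bd E mR d) p.1.1 ⊗[k] Coh (bd F mS d) p.1.2) := fun p => by
    by_cases hp : p = p₀
    · subst hp
      exact Module.Finite.tensorProduct k (Coh (bd E mR d) (a + 1)) (Coh (bd F mS d) (b + 1))
    · haveI := hz p hp
      infer_instance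
  refine e₁.finrank_eq.trans ((Module.finrank_pi_fintype k).trans ?_)
  rw [Finset.sum_eq_single_of_mem p₀ (Finset.mem_univ _) fun p _ hp => by
    haveI := hz p hp
    exact Module.finrank_zero_of_subsingleton]
  rw [Module.finrank_tensorProduct, finrank_Hcomp_kerd E mR d h0R, finrank_Hcomp_kerd F mS d h0S,
    ← (nonempty_bdEquiv_succ E mR d a).some.finrank_eq, ← (nonempty_bdEquiv_succ F mS d b).some.finrank_eq]

end bundled

variable {k : Type u} [Field k] {R : Type u} [CommRing R] [Nontrivial R] [Algebra k R] {𝒜 : ℤ → Submodule k R}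
  [GradedAlgebra 𝒜] [Algebra.FiniteType k R]
  {S : Type u} [CommRing S] [Nontrivial S] [Algebra k S] {ℬ : ℤ → Submodule k S}
  [GradedAlgebra ℬ] [Algebra.FiniteType k S]
  {T : Type u} [CommRing T] [Algebra k T] {𝒯 : ℤ → Submodule k T} [GradedAlgebra 𝒯] {ψ : T →ₐ[k] R ⊗[k] S}
  {mR : HomogeneousIdeal 𝒜} {mS : HomogeneousIdeal ℬ} {mT : HomogeneousIdeal 𝒯}
  {M : Type u} [AddCommGroup M] [Module R M] [iM : Module k M] [IsScalarTower k R M] {ℳ : ℤ → AddSubgroup M}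
  [Decomposition ℳ] [SetLike.GradedSMul 𝒜 ℳ] [Module.Finite R M] (EM : GrLC.StarInjRes 𝒜 ℳ)
  {N : Type u} [AddCommGroup N] [Module S N] [iN : Module k N] [IsScalarTower k S N] {𝒩 : ℤ → AddSubgroup N}
  [Decomposition 𝒩] [SetLike.GradedSMul ℬ 𝒩] [Module.Finite S N] (EN : GrLC.StarInjRes ℬ 𝒩)
  {P : Type u} [AddCommGroup P] [Module T P] [Module k P] [IsScalarTower k T P] {𝒬 : ℤ → AddSubgroup P}
  [Decomposition 𝒬] [SetLike.GradedSMul 𝒯 𝒬]

/-- The top local cohomology of a Segre product. -/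
theorem finrank_top (hposR : ∀ n : ℤ, n < 0 → 𝒜 n = ⊥) (h0R : 𝒜 0 = Submodule.span k {(1 : R)})
    (hposS : ∀ n : ℤ, n < 0 → ℬ n = ⊥) (h0S : ℬ 0 = Submodule.span k {(1 : S)}) (hT : GrSeg.IsSegreRing 𝒜 ℬ 𝒯 ψ)
    (hmR : mR.toIdeal = Ideal.span (⋃ n ∈ Set.Ioi (0 : ℤ), (𝒜 n : Set R)))
    (hmS : mS.toIdeal = Ideal.span (⋃ n ∈ Set.Ioi (0 : ℤ), (ℬ n : Set S)))
    (hmT : mT.toIdeal = Ideal.span (⋃ n ∈ Set.Ioi (0 : ℤ), (𝒯 n : Set T)))
    (φ : P →ₗ[k] M ⊗[k] N) (hP : GrSeg.IsSegreMod ψ ℳ 𝒩 𝒬 φ) (EP : GrLC.StarInjRes 𝒯 𝒬) (a b : ℕ)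
    (hM : ∀ (q : ℕ) (d : ℤ), a + 2 < q → EM.Hcomp mR q d = ⊥) (hN : ∀ (q : ℕ) (d : ℤ), b + 2 < q → EN.Hcomp mS q d = ⊥)
    (d : ℤ) :
    Module.finrank (GrLC.deg0 𝒯) (EP.Hcomp mT (a + b + 3) d) =
      Module.finrank (GrLC.deg0 𝒜) (EM.Hcomp mR (a + 2) d) * Module.finrank (GrLC.deg0 ℬ) (EN.Hcomp mS (b + 2) d) := by
  obtain rfl : iM = (gmodModule (GrLC.GMod.of 𝒜 M ℳ) : Module k M) :=
    Module.ext (funext₂ fun c m => (algebraMap_smul R c m).symm)
  obtain rfl : iN = (gmodModule (GrLC.GMod.of ℬ N 𝒩) : Module k N) :=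
    Module.ext (funext₂ fun c m => (algebraMap_smul S c m).symm)
  haveI : Module.Finite R (GrLC.GMod.of 𝒜 M ℳ).carrier := ‹Module.Finite R M›
  haveI : Module.Finite S (GrLC.GMod.of ℬ N 𝒩).carrier := ‹Module.Finite S N›
  exact finrank_Hcomp_top hposR h0R hposS h0S hT hmR hmS hmT (GrLC.GMod.of 𝒜 M ℳ) EM (GrLC.GMod.of ℬ N 𝒩) EN
    hP EP a b hM hN d

end Groth.Agent.SegreLC
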