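import Mathlib
import Groth.Agent.SegreLC.Top

/-! Classes in the local cohomology of a Segre product coming from tensors of classes. -/

set_option autoImplicit false
set_option linter.unusedSectionVars false
set_option maxHeartbeats 500000
universe u

open DirectSum TensorProduct

namespace Groth.Agent.SegreLC

section classes

variable {k : Type u} [Field k] {R : Type u} [CommRing R] [Algebra k R] {𝒜 : ℤ → Submodule k R} [GradedAlgebra 𝒜]
  {M : Type u} [AddCommGroup M] [Module R M] {τ : Type u} [SetLike τ M] [AddSubgroupClass τ M]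
  {ℳ : ℤ → τ} [Decomposition ℳ] [SetLike.GradedSMul 𝒜 ℳ] (E : GrLC.StarInjRes 𝒜 ℳ) (a : HomogeneousIdeal 𝒜)

/-- Graded local cohomology, bundled. -/
noncomputable def HG (q : ℕ) : GrLC.GMod.{u} 𝒜 :=
  { carrier := E.H a q
    gr := E.Hgr a q
    dec := GrLib.Hdecomp E a q
    gsmul := GrLib.Hgr_gradedSMul a q }

/-- The elements with torsion boundary. -/
noncomputable def ucyc (i : ℕ) : Submodule R (E.X i).carrier :=
  (GrLC.gam a.toIdeal (E.X (i + 1)).carrier).comap (E.d i)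

/-- The class of the boundary. -/
noncomputable def ucls (i : ℕ) : ucyc E a i →ₗ[R] (HG E a (i + 1)).carrier :=
  (E.toH a (i + 1)).comp (((E.d i).comp (ucyc E a i).subtype).codRestrict (E.cocyc a (i + 1)) fun x =>
    ⟨x.2, GrLib.d_comp_d E i x.1⟩)

theorem ucls_surjective (i : ℕ) : Function.Surjective (ucls E a i) := by
  intro p
  obtain ⟨z, hz⟩ := GrLib.toH_surjective (E := E) a (i + 1) p
  obtain ⟨x, hx⟩ := GrLib.exists_d_eq E i (show E.d (i + 1) z.1 = 0 from z.2.2)
  refine ⟨⟨x, show E.d i x ∈ GrLC.gam a.toIdeal (E.X (i + 1)).carrier from hx ▸ z.2.1⟩, ?_⟩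
  exact (congrArg (E.toH a (i + 1)) (Subtype.ext hx)).trans hz

theorem ucls_mem {i : ℕ} {d : ℤ} {u : ucyc E a i} (hu : u.1 ∈ (E.X i).gr d) :
    ucls E a i u ∈ (HG E a (i + 1)).gr d :=
  ⟨⟨E.d i u.1, u.2, GrLib.d_comp_d E i u.1⟩, E.d_grHom i d u.1 hu, rfl⟩

theorem exists_ucls_hom {i : ℕ} {d : ℤ} {p : (HG E a (i + 1)).carrier} (hp : p ∈ (HG E a (i + 1)).gr d) :
    ∃ u : ucyc E a i, u.1 ∈ (E.X i).gr d ∧ ucls E a i u = p := by
  obtain ⟨z, hzd, hz⟩ := hp
  obtain ⟨x, hx⟩ := GrLib.exists_d_eq E i (show E.d (i + 1) z.1 = 0 from z.2.2)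
  have hd : E.d i (GrLib.proj (E.X i).gr d x) = z.1 := by
    rw [← GrLib.proj_map (E.d_grHom i), hx]; exact GrLib.proj_of_mem hzd
  refine ⟨⟨GrLib.proj (E.X i).gr d x,
    show E.d i (GrLib.proj (E.X i).gr d x) ∈ GrLC.gam a.toIdeal (E.X (i + 1)).carrier from hd ▸ z.2.1⟩,
    GrLib.proj_mem (E.X i).gr d x, ?_⟩
  exact (congrArg (E.toH a (i + 1)) (Subtype.ext hd)).trans hz

theorem exists_of_ucls_eq_zero {i : ℕ} {u : ucyc E a (i + 1)} (hu : ucls E a (i + 1) u = 0) :
    ∃ w ∈ GrLC.gam a.toIdeal (E.X (i + 1)).carrier, ∃ z, u.1 = w + E.d i z := by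
  obtain ⟨w, hw, hwu⟩ := (GrLib.toH_eq_zero (E := E) a
    (z := ⟨E.d (i + 1) u.1, u.2, GrLib.d_comp_d E (i + 1) u.1⟩)).1 hu
  obtain ⟨z, hz⟩ := GrLib.exists_d_eq E i (x := u.1 - w) (by rw [map_sub]; exact sub_eq_zero.2 hwu.symm)
  exact ⟨w, hw, z, by rw [hz, add_sub_cancel]⟩

end classes

section diag

variable {k : Type u} [Field k] {R : Type u} [CommRing R] [Algebra k R] {𝒜 : ℤ → Submodule k R} [GradedAlgebra 𝒜]
  {S : Type u} [CommRing S] [Algebra k S] {ℬ : ℤ → Submodule k S} [GradedAlgebra ℬ]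
  (X : GrLC.GMod.{u} 𝒜) (Y : GrLC.GMod.{u} ℬ)

/-- The diagonal projection of a tensor product of graded modules. -/
noncomputable def dg : X.carrier ⊗[k] Y.carrier →ₗ[k] X.carrier ⊗[k] Y.carrier := SegreDim.diag 𝒜 X.gr ℬ Y.gr

theorem dg_mem (w : X.carrier ⊗[k] Y.carrier) : dg X Y w ∈ segSub X Y := SegreDim.diag_mem 𝒜 X.gr ℬ Y.gr w

theorem dg_eq_self {w : X.carrier ⊗[k] Y.carrier} (hw : w ∈ segSub X Y) : dg X Y w = w := by
  refine Submodule.iSup_induction _ (motive := fun w => dg X Y w = w) hw ?_ (map_zero _) fun x y hx hy => ?_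
  · intro n x hx; exact SegreDim.diag_eq_self 𝒜 X.gr ℬ Y.gr hx
  · rw [map_add, hx, hy]

variable (mR : HomogeneousIdeal 𝒜) (mS : HomogeneousIdeal ℬ)

/-- Tensors with a torsion factor. -/
noncomputable def gamSpan : Submodule k (X.carrier ⊗[k] Y.carrier) :=
  Submodule.span k {w | ∃ a b, w = a ⊗ₜ[k] b ∧
    (a ∈ GrLC.gam mR.toIdeal X.carrier ∨ b ∈ GrLC.gam mS.toIdeal Y.carrier)}

theorem tmul_mem_gamSpan {x : X.carrier} {y : Y.carrier}
    (h : x ∈ GrLC.gam mR.toIdeal X.carrier ∨ y ∈ GrLC.gam mS.toIdeal Y.carrier) :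
    x ⊗ₜ[k] y ∈ gamSpan X Y mR mS := Submodule.subset_span ⟨x, y, rfl, h⟩

theorem dg_tmul_left {i : ℤ} {x : X.carrier} (hx : x ∈ X.gr i) (y : Y.carrier) :
    dg X Y (x ⊗ₜ[k] y) = x ⊗ₜ[k] GrLib.proj Y.gr i y := by
  induction y using GrLib.induction Y.gr with
  | zero => simp
  | add p q hp hq => rw [TensorProduct.tmul_add, map_add, hp, hq, map_add, TensorProduct.tmul_add]
  | hom j y hy =>
    refine (SegreDim.diag_tmul 𝒜 X.gr ℬ Y.gr hx hy).trans ?_
    split_ifs with h
    · subst h; rw [GrLib.proj_of_mem hy]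
    · rw [GrLib.proj_of_mem_ne hy (Ne.symm h), TensorProduct.tmul_zero]

theorem dg_tmul_right {j : ℤ} {y : Y.carrier} (hy : y ∈ Y.gr j) (x : X.carrier) :
    dg X Y (x ⊗ₜ[k] y) = GrLib.proj X.gr j x ⊗ₜ[k] y := by
  induction x using GrLib.induction X.gr with
  | zero => simp
  | add p q hp hq => rw [TensorProduct.add_tmul, map_add, hp, hq, map_add, TensorProduct.add_tmul]
  | hom i x hx =>
    refine (SegreDim.diag_tmul 𝒜 X.gr ℬ Y.gr hx hy).trans ?_
    split_ifs with h
    · subst h; rw [GrLib.proj_of_mem hx]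
    · rw [GrLib.proj_of_mem_ne hx h, TensorProduct.zero_tmul]

theorem dg_mem_gamSpan {w : X.carrier ⊗[k] Y.carrier} (hw : w ∈ gamSpan X Y mR mS) :
    dg X Y w ∈ gamSpan X Y mR mS := by
  induction hw using Submodule.span_induction with
  | zero => rw [map_zero]; exact zero_mem _
  | add p q _ _ hp hq => rw [map_add]; exact add_mem hp hq
  | smul c p _ hp => rw [map_smul]; exact Submodule.smul_mem _ c hp
  | mem w hw =>
    obtain ⟨x, y, rfl, hx | hy⟩ := hw
    · induction y using GrLib.induction Y.gr with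
      | zero => rw [TensorProduct.tmul_zero, map_zero]; exact zero_mem _
      | add p q hp hq => rw [TensorProduct.tmul_add, map_add]; exact add_mem hp hq
      | hom j y hy =>
        rw [dg_tmul_right X Y hy]
        exact tmul_mem_gamSpan X Y mR mS
          (Or.inl (GrLib.isHomogeneous_gam (𝒜 := 𝒜) (ℳ := X.gr) mR.isHomogeneous j hx))
    · induction x using GrLib.induction X.gr with
      | zero => rw [TensorProduct.zero_tmul, map_zero]; exact zero_mem _
      | add p q hp hq => rw [TensorProduct.add_tmul, map_add]; exact add_mem hp hq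
      | hom i x hx =>
        rw [dg_tmul_left X Y hx]
        exact tmul_mem_gamSpan X Y mR mS
          (Or.inr (GrLib.isHomogeneous_gam (𝒜 := ℬ) (ℳ := Y.gr) mS.isHomogeneous i hy))

theorem map_dg {X : GrLC.GMod.{u} 𝒜} {Y : GrLC.GMod.{u} ℬ} {X' : GrLC.GMod.{u} 𝒜} {Y' : GrLC.GMod.{u} ℬ} {f : X.carrier →ₗ[R] X'.carrier}
    (hf : GrLC.IsGrHom X.gr X'.gr f) {g : Y.carrier →ₗ[S] Y'.carrier} (hg : GrLC.IsGrHom Y.gr Y'.gr g)
    (w : X.carrier ⊗[k] Y.carrier) :
    TensorProduct.map (f.restrictScalars k) (g.restrictScalars k) (dg X Y w) =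
      dg X' Y' (TensorProduct.map (f.restrictScalars k) (g.restrictScalars k) w) := by
  induction w using TensorProduct.induction_on with
  | zero => simp
  | add p q hp hq => simp only [map_add, hp, hq]
  | tmul x y =>
    induction x using GrLib.induction X.gr with
    | zero => simp
    | add p q hp hq => simp only [TensorProduct.add_tmul, map_add, hp, hq]
    | hom i x hx =>
      rw [dg_tmul_left X Y hx, TensorProduct.map_tmul, TensorProduct.map_tmul]
      show f x ⊗ₜ[k] g (GrLib.proj Y.gr i y) = dg X' Y' (f x ⊗ₜ[k] g y)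
      rw [dg_tmul_left X' Y' (hf i x hx), ← GrLib.proj_map hg]

end diag

theorem map_act' {k R S : Type u} [CommRing k] [CommRing R] [CommRing S] [Algebra k R] [Algebra k S]
    {A B A' B' : Type u} [AddCommGroup A] [Module R A] [Module k A] [IsScalarTower k R A]
    [AddCommGroup B] [Module S B] [Module k B] [IsScalarTower k S B]
    [AddCommGroup A'] [Module R A'] [Module k A'] [IsScalarTower k R A']
    [AddCommGroup B'] [Module S B'] [Module k B'] [IsScalarTower k S B']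
    (f : A →ₗ[R] A') (g : B →ₗ[S] B') (z : R ⊗[k] S) (w : A ⊗[k] B) :
    TensorProduct.map (f.restrictScalars k) (g.restrictScalars k) (GrSeg.act k R S A B z w) =
      GrSeg.act k R S A' B' z (TensorProduct.map (f.restrictScalars k) (g.restrictScalars k) w) := by
  induction z using TensorProduct.induction_on with
  | zero => simp
  | add p q hp hq => simp [hp, hq]
  | tmul r s =>
    induction w using TensorProduct.induction_on with
    | zero => simp
    | add p q hp hq => simp [hp, hq]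
    | tmul a b =>
      rw [GrSeg.act_tmul, TensorProduct.map_tmul, TensorProduct.map_tmul, GrSeg.act_tmul]
      simp

variable {k : Type u} [Field k] {R : Type u} [CommRing R] [Algebra k R] {𝒜 : ℤ → Submodule k R} [GradedAlgebra 𝒜]
  {S : Type u} [CommRing S] [Algebra k S] {ℬ : ℤ → Submodule k S} [GradedAlgebra ℬ]
  {T : Type u} [CommRing T] [Algebra k T] {𝒯 : ℤ → Submodule k T} [GradedAlgebra 𝒯]
  {ψ : T →ₐ[k] R ⊗[k] S} (hdegT : ∀ n : ℤ, (𝒯 n).map ψ.toLinearMap = GrSeg.segrePiece k 𝒜 ℬ n)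
  {X₀ : GrLC.GMod.{u} 𝒜} (E : GrLC.StarInjRes 𝒜 X₀.gr) {Y₀ : GrLC.GMod.{u} ℬ} (F : GrLC.StarInjRes ℬ Y₀.gr)

theorem totEmb_smul {n : ℕ} (t : T) (x : (totX hdegT E F n).carrier) (i j : ℕ) :
    totEmb hdegT E F n (t • x) i j =
      GrSeg.act k R S (E.X i).carrier (F.X j).carrier (ψ t) (totEmb hdegT E F n x i j) := by
  by_cases h : i + j = n
  · rw [totEmb_of_eq hdegT E F _ h, totEmb_of_eq hdegT E F _ h, map_smul, segInc_smul]
  · rw [totEmb_mem hdegT E F n _ i j h, totEmb_mem hdegT E F n _ i j h]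
    exact (map_zero _).symm

theorem mem_totX_gr {n : ℕ} {x : (totX hdegT E F n).carrier} {d : ℤ}
    (h : ∀ i j, totEmb hdegT E F n x i j ∈ GrSeg.segrePiece k (E.X i).gr (F.X j).gr d) :
    x ∈ (totX hdegT E F n).gr d := fun p => by
  obtain ⟨⟨i, j⟩, hp⟩ := p
  have := h i j
  rw [totEmb_of_eq hdegT E F x (Finset.HasAntidiagonal.mem_antidiagonal.1 hp)] at this
  exact this

theorem exists_wd {n : ℕ} (i j : ℕ) (h : i + j = n) (w : (E.X i).carrier ⊗[k] (F.X j).carrier) :
    ∃ x : (totX hdegT E F n).carrier, totEmb hdegT E F n x i j = dg (E.X i) (F.X j) w ∧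
      ∀ i' j', (i', j') ≠ (i, j) → totEmb hdegT E F n x i' j' = 0 := by
  classical
  obtain ⟨v, hv⟩ := exists_seg hdegT (E.X i) (F.X j) (dg_mem _ _ w)
  obtain ⟨x, hx⟩ := exists_totX hdegT E F (fun p : TI n => if hp : p = ti i j h then hp ▸ v else 0)
  refine ⟨x, ?_, fun i' j' hne => ?_⟩
  · rw [totEmb_of_eq hdegT E F x h, hx, dif_pos rfl]; exact hv
  · by_cases h' : i' + j' = n
    · rw [totEmb_of_eq hdegT E F x h', hx,
        dif_neg fun he => hne (show (i', j') = (i, j) from congrArg Subtype.val he), map_zero]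
    · exact totEmb_mem hdegT E F n x i' j' h'

/-- A tensor in one bidegree, projected to the diagonal. -/
noncomputable def wd {n : ℕ} (i j : ℕ) (h : i + j = n) :
    (E.X i).carrier ⊗[k] (F.X j).carrier →ₗ[k] (totX hdegT E F n).carrier where
  toFun w := (exists_wd hdegT E F i j h w).choose
  map_add' v w := by
    have h1 := (exists_wd hdegT E F i j h (v + w)).choose_spec
    have h2 := (exists_wd hdegT E F i j h v).choose_spec
    have h3 := (exists_wd hdegT E F i j h w).choose_spec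
    generalize (exists_wd hdegT E F i j h (v + w)).choose = x at h1 ⊢
    generalize (exists_wd hdegT E F i j h v).choose = y at h2 ⊢
    generalize (exists_wd hdegT E F i j h w).choose = z at h3 ⊢
    refine totEmb_injective hdegT E F n (funext fun i' => funext fun j' => ?_)
    rw [map_add, Pi.add_apply, Pi.add_apply]
    by_cases hp : (i', j') = (i, j)
    · obtain ⟨rfl, rfl⟩ := Prod.mk.injEq .. ▸ hp
      rw [h1.1, h2.1, h3.1, map_add]
    · rw [h1.2 _ _ hp, h2.2 _ _ hp, h3.2 _ _ hp, add_zero]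
  map_smul' c w := by
    have h1 := (exists_wd hdegT E F i j h (c • w)).choose_spec
    have h3 := (exists_wd hdegT E F i j h w).choose_spec
    generalize (exists_wd hdegT E F i j h (c • w)).choose = x at h1 ⊢
    generalize (exists_wd hdegT E F i j h w).choose = z at h3 ⊢
    refine totEmb_injective hdegT E F n (funext fun i' => funext fun j' => ?_)
    rw [RingHom.id_apply, map_smul, Pi.smul_apply, Pi.smul_apply]
    by_cases hp : (i', j') = (i, j)
    · obtain ⟨rfl, rfl⟩ := Prod.mk.injEq .. ▸ hp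
      rw [h1.1, h3.1, map_smul]
    · rw [h1.2 _ _ hp, h3.2 _ _ hp, smul_zero]

theorem wd_self {n i j : ℕ} (h : i + j = n) (w : (E.X i).carrier ⊗[k] (F.X j).carrier) :
    totEmb hdegT E F n (wd hdegT E F i j h w) i j = dg (E.X i) (F.X j) w :=
  (exists_wd hdegT E F i j h w).choose_spec.1

theorem wd_ne {n i j : ℕ} (h : i + j = n) (w : (E.X i).carrier ⊗[k] (F.X j).carrier) {i' j' : ℕ}
    (hne : (i', j') ≠ (i, j)) : totEmb hdegT E F n (wd hdegT E F i j h w) i' j' = 0 :=
  (exists_wd hdegT E F i j h w).choose_spec.2 i' j' hne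

theorem smul_wd {n i j : ℕ} (h : i + j = n) (t : T) {w : (E.X i).carrier ⊗[k] (F.X j).carrier}
    (hw : w ∈ segSub (E.X i) (F.X j)) :
    t • wd hdegT E F i j h w =
      wd hdegT E F i j h (GrSeg.act k R S (E.X i).carrier (F.X j).carrier (ψ t) w) := by
  refine totEmb_injective hdegT E F n (funext fun i' => funext fun j' => ?_)
  rw [totEmb_smul]
  by_cases hp : (i', j') = (i, j)
  · obtain ⟨rfl, rfl⟩ := Prod.mk.injEq .. ▸ hp
    rw [wd_self, wd_self, dg_eq_self _ _ hw, dg_eq_self _ _ (act_mem_segSub hdegT t hw)]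
  · rw [wd_ne hdegT E F h _ hp, wd_ne hdegT E F h _ hp, map_zero]

theorem wd_mem {n i j : ℕ} (h : i + j = n) {d : ℤ} {w : (E.X i).carrier ⊗[k] (F.X j).carrier}
    (hw : w ∈ GrSeg.segrePiece k (E.X i).gr (F.X j).gr d) :
    wd hdegT E F i j h w ∈ (totX hdegT E F n).gr d := by
  refine mem_totX_gr hdegT E F fun i' j' => ?_
  by_cases hp : (i', j') = (i, j)
  · obtain ⟨rfl, rfl⟩ := Prod.mk.injEq .. ▸ hp
    rw [wd_self, dg_eq_self _ _ (piece_le_segSub _ _ d hw)]
    exact hw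
  · rw [wd_ne hdegT E F h _ hp]; exact zero_mem _

variable [IsNoetherianRing R] [IsNoetherianRing S] [IsNoetherianRing T]
  {mR : HomogeneousIdeal 𝒜} (hmR : mR.toIdeal = Ideal.span (⋃ n ∈ Set.Ioi (0 : ℤ), (𝒜 n : Set R)))
  {mS : HomogeneousIdeal ℬ} (hmS : mS.toIdeal = Ideal.span (⋃ n ∈ Set.Ioi (0 : ℤ), (ℬ n : Set S)))
  {mT : HomogeneousIdeal 𝒯} (hmT : mT.toIdeal = Ideal.span (⋃ n ∈ Set.Ioi (0 : ℤ), (𝒯 n : Set T)))

section torsion

include hmR hmS hmT

theorem mem_gam_of_totEmb {n : ℕ} {x : (totX hdegT E F n).carrier}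
    (h : ∀ i j, totEmb hdegT E F n x i j ∈ gamSpan (E.X i) (F.X j) mR mS) :
    x ∈ GrLC.gam mT.toIdeal (totX hdegT E F n).carrier := by
  refine mem_gam_totX hdegT hmR hmS hmT E F n x fun p => ?_
  obtain ⟨⟨i, j⟩, hp⟩ := p
  have := h i j
  rw [totEmb_of_eq hdegT E F x (Finset.HasAntidiagonal.mem_antidiagonal.1 hp)] at this
  exact mem_gam_seg hdegT _ _ hmR hmS hmT this

omit hmR hmS hmT [IsNoetherianRing R] [IsNoetherianRing S] [IsNoetherianRing T] in
theorem totD_mem_gamSpan (x : ∀ i j, (E.X i).carrier ⊗[k] (F.X j).carrier) (i' j' : ℕ)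
    (hr : ∀ a, a + 1 = i' → (kd E a).rTensor (F.X j').carrier (x a j') ∈ gamSpan (E.X (a + 1)) (F.X j') mR mS)
    (hl : ∀ b, b + 1 = j' → (kd F b).lTensor (E.X i').carrier (x i' b) ∈ gamSpan (E.X i') (F.X (b + 1)) mR mS) :
    totD (kd E) (kd F) x i' j' ∈ gamSpan (E.X i') (F.X j') mR mS := by
  rcases i' with _ | a <;> rcases j' with _ | b
  · rw [totD_zero_zero]; exact zero_mem _
  · rw [totD_zero_succ]; exact hl b rfl
  · rw [totD_succ_zero]; exact hr a rfl
  · rw [totD_succ_succ]; exact add_mem (hr a rfl) (Submodule.smul_mem _ _ (hl b rfl))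

omit hmR hmS hmT [IsNoetherianRing R] [IsNoetherianRing S] [IsNoetherianRing T] in
theorem rTensor_dg {i j : ℕ} {x : (E.X i).carrier} {y : (F.X j).carrier}
    (h : E.d i x ∈ GrLC.gam mR.toIdeal (E.X (i + 1)).carrier ∨ y ∈ GrLC.gam mS.toIdeal (F.X j).carrier) :
    (kd E i).rTensor (F.X j).carrier (dg (E.X i) (F.X j) (x ⊗ₜ[k] y)) ∈ gamSpan (E.X (i + 1)) (F.X j) mR mS := by
  show TensorProduct.map ((E.d i).restrictScalars k) ((LinearMap.id : (F.X j).carrier →ₗ[S] _).restrictScalars k) _ ∈ _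
  rw [map_dg (E.d_grHom i) (grId _)]
  refine dg_mem_gamSpan _ _ mR mS ?_
  rw [TensorProduct.map_tmul]
  exact tmul_mem_gamSpan _ _ mR mS h

omit hmR hmS hmT [IsNoetherianRing R] [IsNoetherianRing S] [IsNoetherianRing T] in
theorem lTensor_dg {i j : ℕ} {x : (E.X i).carrier} {y : (F.X j).carrier}
    (h : x ∈ GrLC.gam mR.toIdeal (E.X i).carrier ∨ F.d j y ∈ GrLC.gam mS.toIdeal (F.X (j + 1)).carrier) :
    (kd F j).lTensor (E.X i).carrier (dg (E.X i) (F.X j) (x ⊗ₜ[k] y)) ∈ gamSpan (E.X i) (F.X (j + 1)) mR mS := by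
  show TensorProduct.map ((LinearMap.id : (E.X i).carrier →ₗ[R] _).restrictScalars k) ((F.d j).restrictScalars k) _ ∈ _
  rw [map_dg (grId _) (F.d_grHom j)]
  refine dg_mem_gamSpan _ _ mR mS ?_
  rw [TensorProduct.map_tmul]
  exact tmul_mem_gamSpan _ _ mR mS h

theorem totdX_wd_mem_gam {n i j : ℕ} (h : i + j = n) (z : ucyc E mR i ⊗[k] ucyc F mS j) :
    totdX hdegT E F n (wd hdegT E F i j h (TensorProduct.map ((ucyc E mR i).subtype.restrictScalars k)
      ((ucyc F mS j).subtype.restrictScalars k) z)) ∈ GrLC.gam mT.toIdeal (totX hdegT E F (n + 1)).carrier := by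
  induction z using TensorProduct.induction_on with
  | zero => rw [map_zero, map_zero, map_zero]; exact zero_mem _
  | add p q hp hq => rw [map_add, map_add, map_add]; exact add_mem hp hq
  | tmul u v =>
    refine mem_gam_of_totEmb hdegT E F hmR hmS hmT fun i' j' => ?_
    rw [totEmb_totdX, TensorProduct.map_tmul]
    refine totD_mem_gamSpan E F _ i' j' (fun a _ => ?_) (fun b _ => ?_)
    · by_cases hp : (a, j') = (i, j)
      · obtain ⟨rfl, rfl⟩ := Prod.mk.injEq .. ▸ hp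
        rw [wd_self]; exact rTensor_dg E F (Or.inl u.2)
      · rw [wd_ne hdegT E F h _ hp, map_zero]; exact zero_mem _
    · by_cases hp : (i', b) = (i, j)
      · obtain ⟨rfl, rfl⟩ := Prod.mk.injEq .. ▸ hp
        rw [wd_self]; exact lTensor_dg E F (Or.inr v.2)
      · rw [wd_ne hdegT E F h _ hp, map_zero]; exact zero_mem _

/-- A class killed in the left factor gives a tensor that is a boundary up to torsion. -/
theorem exists_bdry_left {a j : ℕ} {u : ucyc E mR (a + 1)} (hu : ucls E mR (a + 1) u = 0) (v : ucyc F mS j)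
    {n : ℕ} (h : a + 1 + j = n + 1) :
    ∃ y, wd hdegT E F (a + 1) j h (u.1 ⊗ₜ[k] v.1) - totdX hdegT E F n y ∈
      GrLC.gam mT.toIdeal (totX hdegT E F (n + 1)).carrier := by
  obtain ⟨w, hw, z, hz⟩ := exists_of_ucls_eq_zero E mR hu
  have h' : a + j = n := by omega
  refine ⟨wd hdegT E F a j h' (z ⊗ₜ[k] v.1), mem_gam_of_totEmb hdegT E F hmR hmS hmT fun i' j' => ?_⟩
  rw [map_sub, totEmb_totdX, Pi.sub_apply, Pi.sub_apply]
  have hside : ∀ b, b + 1 = j' →
      (kd F b).lTensor (E.X i').carrier (totEmb hdegT E F n (wd hdegT E F a j h' (z ⊗ₜ[k] v.1)) i' b) ∈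
        gamSpan (E.X i') (F.X (b + 1)) mR mS := fun b _ => by
    by_cases hp : (i', b) = (a, j)
    · obtain ⟨rfl, rfl⟩ := Prod.mk.injEq .. ▸ hp
      rw [wd_self]; exact lTensor_dg E F (Or.inr v.2)
    · rw [wd_ne hdegT E F h' _ hp, map_zero]; exact zero_mem _
  by_cases hp : (i', j') = (a + 1, j)
  · obtain ⟨rfl, rfl⟩ := Prod.mk.injEq .. ▸ hp
    rw [wd_self]
    have hr : (kd E a).rTensor (F.X j').carrier (dg (E.X a) (F.X j') (z ⊗ₜ[k] v.1)) =
        dg (E.X (a + 1)) (F.X j') (E.d a z ⊗ₜ[k] v.1) := by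
      show TensorProduct.map ((E.d a).restrictScalars k)
        ((LinearMap.id : (F.X j').carrier →ₗ[S] _).restrictScalars k) _ = _
      rw [map_dg (E.d_grHom a) (grId _), TensorProduct.map_tmul]
      rfl
    have hmain : dg (E.X (a + 1)) (F.X j') (u.1 ⊗ₜ[k] v.1) -
        (kd E a).rTensor (F.X j').carrier (dg (E.X a) (F.X j') (z ⊗ₜ[k] v.1)) ∈
          gamSpan (E.X (a + 1)) (F.X j') mR mS := by
      rw [hr, ← map_sub, ← TensorProduct.sub_tmul, hz, add_sub_cancel_right]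
      exact dg_mem_gamSpan _ _ mR mS (tmul_mem_gamSpan _ _ mR mS (Or.inl hw))
    rcases j' with _ | b
    · rw [totD_succ_zero, wd_self]; exact hmain
    · rw [totD_succ_succ, wd_self, ← sub_sub]
      exact sub_mem hmain (Submodule.smul_mem _ _ (hside b rfl))
  · rw [wd_ne hdegT E F h _ hp, zero_sub]
    refine neg_mem (totD_mem_gamSpan E F _ i' j' (fun c hc => ?_) hside)
    rw [wd_ne hdegT E F h' _ fun hc' => hp (by rw [← hc]; simp only [Prod.mk.injEq] at hc' ⊢; omega), map_zero]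
    exact zero_mem _

/-- A class killed in the right factor gives a tensor that is a boundary up to torsion. -/
theorem exists_bdry_right {i b : ℕ} (u : ucyc E mR i) {v : ucyc F mS (b + 1)} (hv : ucls F mS (b + 1) v = 0)
    {n : ℕ} (h : i + (b + 1) = n + 1) :
    ∃ y, wd hdegT E F i (b + 1) h (u.1 ⊗ₜ[k] v.1) - totdX hdegT E F n y ∈
      GrLC.gam mT.toIdeal (totX hdegT E F (n + 1)).carrier := by
  obtain ⟨w, hw, z, hz⟩ := exists_of_ucls_eq_zero F mS hv
  have h' : i + b = n := by omega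
  refine ⟨(-1 : k) ^ i • wd hdegT E F i b h' (u.1 ⊗ₜ[k] z),
    mem_gam_of_totEmb hdegT E F hmR hmS hmT fun i' j' => ?_⟩
  rw [map_sub, totEmb_totdX, map_smul, map_smul, Pi.sub_apply, Pi.sub_apply, Pi.smul_apply, Pi.smul_apply]
  have hside : ∀ c, c + 1 = i' →
      (kd E c).rTensor (F.X j').carrier (totEmb hdegT E F n (wd hdegT E F i b h' (u.1 ⊗ₜ[k] z)) c j') ∈
        gamSpan (E.X (c + 1)) (F.X j') mR mS := fun c _ => by
    by_cases hp : (c, j') = (i, b)
    · obtain ⟨rfl, rfl⟩ := Prod.mk.injEq .. ▸ hp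
      rw [wd_self]; exact rTensor_dg E F (Or.inl u.2)
    · rw [wd_ne hdegT E F h' _ hp, map_zero]; exact zero_mem _
  by_cases hp : (i', j') = (i, b + 1)
  · obtain ⟨rfl, rfl⟩ := Prod.mk.injEq .. ▸ hp
    rw [wd_self]
    have hr : (kd F b).lTensor (E.X i').carrier (dg (E.X i') (F.X b) (u.1 ⊗ₜ[k] z)) =
        dg (E.X i') (F.X (b + 1)) (u.1 ⊗ₜ[k] F.d b z) := by
      show TensorProduct.map ((LinearMap.id : (E.X i').carrier →ₗ[R] _).restrictScalars k)
        ((F.d b).restrictScalars k) _ = _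
      rw [map_dg (grId _) (F.d_grHom b), TensorProduct.map_tmul]
      rfl
    have hmain : dg (E.X i') (F.X (b + 1)) (u.1 ⊗ₜ[k] v.1) -
        (kd F b).lTensor (E.X i').carrier (dg (E.X i') (F.X b) (u.1 ⊗ₜ[k] z)) ∈
          gamSpan (E.X i') (F.X (b + 1)) mR mS := by
      rw [hr, ← map_sub, ← TensorProduct.tmul_sub, hz, add_sub_cancel_right]
      exact dg_mem_gamSpan _ _ mR mS (tmul_mem_gamSpan _ _ mR mS (Or.inr hw))
    rcases i' with _ | c
    · rw [totD_zero_succ, wd_self, pow_zero, one_smul]; exact hmain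
    · rw [totD_succ_succ, wd_self, smul_add, smul_smul, ← mul_pow, neg_one_mul, neg_neg, one_pow, one_smul,
        add_comm ((-1 : k) ^ (c + 1) • _), ← sub_sub]
      exact sub_mem hmain (Submodule.smul_mem _ _ (hside c rfl))
  · rw [wd_ne hdegT E F h _ hp, zero_sub]
    refine neg_mem (Submodule.smul_mem _ _ (totD_mem_gamSpan E F _ i' j' hside fun c hc => ?_))
    rw [wd_ne hdegT E F h' _ fun hc' => hp (by rw [← hc]; simp only [Prod.mk.injEq] at hc' ⊢; omega), map_zero]
    exact zero_mem _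

end torsion

section class_map

variable {P : Type u} [AddCommGroup P] [Module T P] {𝒬 : ℤ → AddSubgroup P} [Decomposition 𝒬]
  [SetLike.GradedSMul 𝒯 𝒬] (EP : GrLC.StarInjRes 𝒯 𝒬)
  (U : ∀ n, (totX hdegT E F n).carrier →ₗ[T] (EP.X n).carrier)
  (hUd : ∀ n x, U (n + 1) (totdX hdegT E F n x) = EP.d n (U n x)) (mT)

/-- The elements with torsion boundary in the total resolution. -/
noncomputable def omega (n : ℕ) : Submodule T (totX hdegT E F n).carrier :=
  (GrLC.gam mT.toIdeal (totX hdegT E F (n + 1)).carrier).comap (totdX hdegT E F n)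

/-- The class of the boundary in the local cohomology of the Segre product. -/
noncomputable def cl (n : ℕ) : omega hdegT E F mT n →ₗ[T] (HG EP mT (n + 1)).carrier :=
  (EP.toH mT (n + 1)).comp
    (((U (n + 1)).comp ((totdX hdegT E F n).comp (omega hdegT E F mT n).subtype)).codRestrict
      (EP.cocyc mT (n + 1)) fun x =>
    ⟨GrLib.map_gam_le (U (n + 1)) (Submodule.mem_map_of_mem x.2), show EP.d (n + 1) (U (n + 1)
        (totdX hdegT E F n x.1)) = 0 by rw [hUd]; exact GrLib.d_comp_d EP n _⟩)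

theorem cl_eq_zero {n : ℕ} (x : omega hdegT E F mT (n + 1)) (y : (totX hdegT E F n).carrier)
    (h : x.1 - totdX hdegT E F n y ∈ GrLC.gam mT.toIdeal (totX hdegT E F (n + 1)).carrier) :
    cl hdegT E F mT EP U hUd (n + 1) x = 0 := by
  refine (GrLib.toH_eq_zero (E := EP) mT).2 ⟨U (n + 1) (x.1 - totdX hdegT E F n y),
    GrLib.map_gam_le (U (n + 1)) (Submodule.mem_map_of_mem h), ?_⟩
  show EP.d (n + 1) _ = U (n + 1 + 1) (totdX hdegT E F (n + 1) x.1)
  rw [← hUd, map_sub (totdX hdegT E F (n + 1)), (totdX_exact hdegT E F n).apply_apply_eq_zero, sub_zero]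

theorem cl_mem {n : ℕ} (hUg : ∀ n, GrLC.IsGrHom (totX hdegT E F n).gr (EP.X n).gr (U n))
    (x : omega hdegT E F mT n) {d : ℤ} (hx : x.1 ∈ (totX hdegT E F n).gr d) :
    cl hdegT E F mT EP U hUd n x ∈ (HG EP mT (n + 1)).gr d :=
  ⟨⟨U (n + 1) (totdX hdegT E F n x.1), GrLib.map_gam_le (U (n + 1)) (Submodule.mem_map_of_mem x.2),
    show EP.d (n + 1) (U (n + 1) (totdX hdegT E F n x.1)) = 0 by rw [hUd]; exact GrLib.d_comp_d EP n _⟩,
    hUg (n + 1) d _ (totdX_grHom hdegT E F n d _ hx), rfl⟩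

end class_map

end Groth.Agent.SegreLC
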