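import Mathlib
import Groth.Agent.SegreLC.CanonEval
import Groth.Agent.SegreLC.TopMapBase

/-! The Segre product of canonical modules is a canonical module. -/

set_option autoImplicit false
set_option linter.unusedSectionVars false
set_option maxHeartbeats 500000
universe u

open DirectSum TensorProduct

namespace Groth.Agent.SegreLC

/-- A homogeneous isomorphism from homomorphisms has a homogeneous inverse. -/
theorem symm_deg_of_grHom {R : Type u} [CommRing R] {σ : Type u} [SetLike σ R] [AddSubgroupClass σ R] {𝒜 : ℤ → σ}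
    [GradedRing 𝒜] {C : Type u} [AddCommGroup C] [Module R C] {𝒞 : ℤ → AddSubgroup C} [Decomposition 𝒞]
    [SetLike.GradedSMul 𝒜 𝒞] [Module.Finite R C] (X H : GrLC.GMod.{u} 𝒜)
    (α : (C →ₗ[R] X.carrier) ≃ₗ[R] H.carrier) (hα : ∀ f d, GrLC.IsGrHomDeg 𝒞 X.gr f d → α f ∈ H.gr d)
    {d : ℤ} {p : H.carrier} (hp : p ∈ H.gr d) : GrLC.IsGrHomDeg 𝒞 X.gr (α.symm p) d := by
  classical
  obtain ⟨S, hS⟩ := GrLib.exists_sum_homComponent (ℳ := 𝒞) (𝒩 := X.gr) 𝒜 (α.symm p)
  have hd : ∀ e, α (GrLib.homComponent 𝒜 𝒞 X.gr (α.symm p) e) ∈ H.gr e := fun e =>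
    hα _ e (GrLib.homComponent_deg 𝒜 (ℳ := 𝒞) (𝒩 := X.gr) _ e)
  have h1 : p = GrLib.proj H.gr d (∑ e ∈ S, α (GrLib.homComponent 𝒜 𝒞 X.gr (α.symm p) e)) := by
    rw [← map_sum α, ← hS, α.apply_symm_apply, GrLib.proj_of_mem hp]
  rw [map_sum] at h1
  by_cases hj : d ∈ S
  · rw [Finset.sum_eq_single_of_mem d hj fun e _ hed => GrLib.proj_of_mem_ne (hd e) hed,
      GrLib.proj_of_mem (hd d)] at h1
    rw [h1, α.symm_apply_apply]
    exact GrLib.homComponent_deg 𝒜 (ℳ := 𝒞) (𝒩 := X.gr) _ d
  · rw [Finset.sum_eq_zero fun e he => GrLib.proj_of_mem_ne (hd e) fun (h : e = d) => hj (by rwa [h] at he)] at h1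
    rw [h1, map_zero]
    intro g c _
    exact zero_mem _

variable {k : Type u} [Field k] {R : Type u} [CommRing R] [Nontrivial R] [Algebra k R] [IsNoetherianRing R]
  {𝒜 : ℤ → Submodule k R} [GradedAlgebra 𝒜] (hposR : ∀ n : ℤ, n < 0 → 𝒜 n = ⊥)
  (h0R : 𝒜 0 = Submodule.span k {(1 : R)})
  {S : Type u} [CommRing S] [Nontrivial S] [Algebra k S] [IsNoetherianRing S] {ℬ : ℤ → Submodule k S}
  [GradedAlgebra ℬ] (hposS : ∀ n : ℤ, n < 0 → ℬ n = ⊥) (h0S : ℬ 0 = Submodule.span k {(1 : S)})
  {T : Type u} [CommRing T] [Nontrivial T] [Algebra k T] [IsNoetherianRing T] {𝒯 : ℤ → Submodule k T} [GradedAlgebra 𝒯]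
  (hposT : ∀ n : ℤ, n < 0 → 𝒯 n = ⊥) (h0T : 𝒯 0 = Submodule.span k {(1 : T)})
  {ψ : T →ₐ[k] R ⊗[k] S} (hdegT : ∀ n : ℤ, (𝒯 n).map ψ.toLinearMap = GrSeg.segrePiece k 𝒜 ℬ n)
  {mR : HomogeneousIdeal 𝒜} (hmR : mR.toIdeal = Ideal.span (⋃ n ∈ Set.Ioi (0 : ℤ), (𝒜 n : Set R)))
  {mS : HomogeneousIdeal ℬ} (hmS : mS.toIdeal = Ideal.span (⋃ n ∈ Set.Ioi (0 : ℤ), (ℬ n : Set S)))
  {mT : HomogeneousIdeal 𝒯} (hmT : mT.toIdeal = Ideal.span (⋃ n ∈ Set.Ioi (0 : ℤ), (𝒯 n : Set T)))
  {XE : GrLC.GMod.{u} 𝒜} {eR : (R ⧸ mR.toIdeal) →ₗ[R] XE.carrier}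
  (heR : GrLC.IsStarInjHull 𝒜 (GrLC.quotGr 𝒜 mR) XE.gr eR)
  {YE : GrLC.GMod.{u} ℬ} {eS : (S ⧸ mS.toIdeal) →ₗ[S] YE.carrier}
  (heS : GrLC.IsStarInjHull ℬ (GrLC.quotGr ℬ mS) YE.gr eS)
  {ZE : GrLC.GMod.{u} 𝒯} {eT : (T ⧸ mT.toIdeal) →ₗ[T] ZE.carrier}
  (heT : GrLC.IsStarInjHull 𝒯 (GrLC.quotGr 𝒯 mT) ZE.gr eT)

include hposR hposS hposT h0T hmR hmS hmT heR heS heT in
/-- A pairing of the hulls respecting the socles. -/
theorem exists_hullPairing : ∃ ε : (seg hdegT XE YE).carrier →ₗ[T] ZE.carrier,
    GrLC.IsGrHom (seg hdegT XE YE).gr ZE.gr ε ∧ ∀ (w : (seg hdegT XE YE).carrier) (c : k),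
      segInc hdegT XE YE w = c • (eR (Ideal.Quotient.mk mR.toIdeal 1) ⊗ₜ[k] eS (Ideal.Quotient.mk mS.toIdeal 1)) →
        ε w = c • eT (Ideal.Quotient.mk mT.toIdeal 1) := by
  classical
  let e₀ := eR (Ideal.Quotient.mk mR.toIdeal 1) ⊗ₜ[k] eS (Ideal.Quotient.mk mS.toIdeal 1)
  have he₀ : e₀ ≠ 0 := fun h => by
    have hinj : Function.Injective (TensorProduct.map (LinearMap.toSpanSingleton k XE.carrier (eR (Ideal.Quotient.mk mR.toIdeal 1)))
        (LinearMap.toSpanSingleton k YE.carrier (eS (Ideal.Quotient.mk mS.toIdeal 1)))) :=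
      tensorMap_injective (LinearMap.ker_eq_bot.1 (LinearMap.ker_toSpanSingleton k
        (socle_ne_zero XE heR (top_ne_of_irrelevant hposR hmR))))
        (LinearMap.ker_eq_bot.1 (LinearMap.ker_toSpanSingleton k
        (socle_ne_zero YE heS (top_ne_of_irrelevant hposS hmS))))
    have h1 : ((1 : k) ⊗ₜ[k] (1 : k)) = 0 := hinj (by
      rw [TensorProduct.map_tmul, map_zero, LinearMap.toSpanSingleton_apply, LinearMap.toSpanSingleton_apply,
        one_smul, one_smul]
      exact h)
    simpa using congrArg (TensorProduct.lid k k) h1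
  obtain ⟨lam, hlam⟩ := (LinearMap.toSpanSingleton k _ e₀).exists_leftInverse_of_injective
    (LinearMap.ker_toSpanSingleton k he₀)
  have hl : ∀ c : k, lam (c • e₀) = c := fun c => LinearMap.congr_fun hlam c
  have hkill : ∀ c : ℤ, c ≠ 0 → ∀ t ∈ 𝒯 c, ∀ w : (seg hdegT XE YE).carrier,
      segInc hdegT XE YE w ∈ Submodule.span k {e₀} →
        t • w = 0 ∧ t • eT (Ideal.Quotient.mk mT.toIdeal 1) = 0 := by
    intro c hc t ht w hw
    rcases lt_or_gt_of_ne hc with hc | hc
    · rw [hposT c hc] at ht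
      rw [(Submodule.mem_bot k).1 ht, zero_smul, zero_smul]
      exact ⟨rfl, rfl⟩
    · refine ⟨segInc_injective hdegT XE YE ?_, smul_socle_eq_zero ZE heT (mem_of_pos hmT hc ht)⟩
      obtain ⟨c', hc'⟩ := Submodule.mem_span_singleton.1 hw
      rw [segInc_smul, map_zero, ← hc', map_smul]
      refine smul_eq_zero_of_right _ ?_
      have hψ : ψ t ∈ GrSeg.segrePiece k 𝒜 ℬ c := by rw [← hdegT]; exact ⟨t, ht, rfl⟩
      generalize ψ t = z at hψ ⊢
      induction hψ using Submodule.span_induction with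
      | zero => rw [map_zero, LinearMap.zero_apply]
      | add p q _ _ hp hq => rw [map_add, LinearMap.add_apply, hp, hq, add_zero]
      | smul a p _ hp => rw [map_smul, LinearMap.smul_apply, hp, smul_zero]
      | mem z hz =>
        obtain ⟨r, hr, s, -, rfl⟩ := hz
        show GrSeg.act k R S XE.carrier YE.carrier (r ⊗ₜ[k] s) e₀ = 0
        rw [GrSeg.act_tmul, smul_socle_eq_zero XE heR (mem_of_pos hmR hc hr), TensorProduct.zero_tmul]
  have he₀mem : ∀ c : k, c • e₀ ∈ GrSeg.segrePiece k XE.gr YE.gr 0 := fun c =>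
    Submodule.smul_mem _ c (Submodule.subset_span ⟨_, socle_mem XE heR, _, socle_mem YE heS, rfl⟩)
  let L : Submodule T (seg hdegT XE YE).carrier :=
    { carrier := {w | segInc hdegT XE YE w ∈ Submodule.span k {e₀}}
      add_mem' := fun ha hb => by
        simp only [Set.mem_ofPred_eq, map_add] at ha hb ⊢
        exact add_mem ha hb
      zero_mem' := by
        simp only [Set.mem_ofPred_eq, map_zero]
        exact zero_mem _
      smul_mem' := fun t w hw => by
        simp only [Set.mem_ofPred_eq] at hw ⊢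
        refine GrLib.smul_induction 𝒯 (motive := fun t => segInc hdegT XE YE (t • w) ∈ Submodule.span k {e₀}) ?_ (fun c s hs => ?_)
          (fun x y hx hy => by rw [add_smul, map_add]; exact add_mem hx hy) t
        · rw [zero_smul, map_zero]; exact zero_mem _
        by_cases hc : c = 0
        · subst hc
          rw [h0T, Submodule.mem_span_singleton] at hs
          obtain ⟨c', rfl⟩ := hs
          rw [smul_assoc, one_smul, map_smul]
          exact Submodule.smul_mem _ _ hw
        · rw [(hkill c hc s hs w hw).1, map_zero]; exact zero_mem _ }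
  have hL0 : ∀ w ∈ L, w ∈ (seg hdegT XE YE).gr 0 := fun w hw => by
    obtain ⟨c, hc⟩ := Submodule.mem_span_singleton.1 hw
    rw [mem_seg_gr, ← hc]
    exact he₀mem c
  have hLh : L.IsHomogeneous (seg hdegT XE YE).gr := fun i w hw => by
    show GrLib.proj (seg hdegT XE YE).gr i w ∈ L
    by_cases hi : (0 : ℤ) = i
    · subst hi; rw [GrLib.proj_of_mem (hL0 w hw)]; exact hw
    · rw [GrLib.proj_of_mem_ne (hL0 w hw) hi]; exact zero_mem _
  letI := GrLib.subDecomp (seg hdegT XE YE).gr hLh
  let g : L →ₗ[T] ZE.carrier :=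
    { toFun := fun w => lam (segInc hdegT XE YE w.1) • eT (Ideal.Quotient.mk mT.toIdeal 1)
      map_add' := fun a b => by rw [Submodule.coe_add, map_add, map_add, add_smul]
      map_smul' := fun t w => by
        rw [RingHom.id_apply, Submodule.coe_smul]
        refine GrLib.smul_induction 𝒯 (motive := fun t => lam (segInc hdegT XE YE (t • w.1)) •
          eT (Ideal.Quotient.mk mT.toIdeal 1) = t • (lam (segInc hdegT XE YE w.1) • eT (Ideal.Quotient.mk mT.toIdeal 1)))
          ?_ (fun c s hs => ?_) (fun x y hx hy => by rw [add_smul, map_add, map_add, add_smul, hx, hy, ← add_smul]) t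
        · rw [zero_smul, zero_smul, map_zero, map_zero, zero_smul]
        by_cases hc : c = 0
        · subst hc
          rw [h0T, Submodule.mem_span_singleton] at hs
          obtain ⟨c', rfl⟩ := hs
          rw [smul_assoc, one_smul, map_smul, map_smul, smul_assoc, smul_assoc, one_smul]
        · rw [(hkill c hc s hs w.1 w.2).1, map_zero, map_zero, zero_smul, smul_comm, (hkill c hc s hs w.1 w.2).2,
            smul_zero] }
  have hg : GrLC.IsGrHom (GrLib.subGr (seg hdegT XE YE).gr L) ZE.gr g := fun h w hw => by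
    by_cases hh : (0 : ℤ) = h
    · subst hh; exact SegreDim.smul_mem_piece 𝒯 ZE.gr _ (socle_mem ZE heT)
    · have : w.1 = 0 := (GrLib.proj_of_mem (show w.1 ∈ (seg hdegT XE YE).gr h from hw)).symm.trans
        (GrLib.proj_of_mem_ne (hL0 w.1 w.2) hh)
      show lam (segInc hdegT XE YE w.1) • _ ∈ ZE.gr h
      rw [this, map_zero, map_zero, zero_smul]; exact zero_mem _
  obtain ⟨ε, hε, hεe⟩ := GrLib.exists_extend heT.starInj (GrLib.subtype_grHom (ℳ := (seg hdegT XE YE).gr) L)
    L.injective_subtype hg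
  refine ⟨ε, hε, fun w c hw => ?_⟩
  have hwL : w ∈ L := by
    show segInc hdegT XE YE w ∈ Submodule.span k {e₀}
    rw [hw]; exact Submodule.smul_mem _ c (Submodule.mem_span_singleton_self _)
  rw [show ε w = g ⟨w, hwL⟩ from LinearMap.congr_fun hεe ⟨w, hwL⟩]
  show lam (segInc hdegT XE YE w) • eT (Ideal.Quotient.mk mT.toIdeal 1) = _
  rw [hw, hl]

variable {XC : GrLC.GMod.{u} 𝒜} {YC : GrLC.GMod.{u} ℬ} [Module.Finite R XC.carrier] [Module.Finite S YC.carrier]
  {XH : GrLC.GMod.{u} 𝒜} (α : (XC.carrier →ₗ[R] XE.carrier) ≃ₗ[R] XH.carrier)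
  (hα : ∀ f d, GrLC.IsGrHomDeg XC.gr XE.gr f d → α f ∈ XH.gr d)
  {YH : GrLC.GMod.{u} ℬ} (β : (YC.carrier →ₗ[S] YE.carrier) ≃ₗ[S] YH.carrier)
  (hβ : ∀ f d, GrLC.IsGrHomDeg YC.gr YE.gr f d → β f ∈ YH.gr d)
  {P : Type u} [AddCommGroup P] [Module T P] [Module k P] [IsScalarTower k T P] {𝒬 : ℤ → AddSubgroup P}
  [Decomposition 𝒬] [SetLike.GradedSMul 𝒯 𝒬] [Module.Finite T P]
  {φ : P →ₗ[k] XC.carrier ⊗[k] YC.carrier} (hP : GrSeg.IsSegreMod ψ XC.gr YC.gr 𝒬 φ)

/-- Classes as maps of vector spaces. -/
noncomputable def homOf {R : Type u} [CommRing R] [Algebra k R] {𝒜 : ℤ → Submodule k R} [GradedAlgebra 𝒜]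
    (C X H : GrLC.GMod.{u} 𝒜) (α : (C.carrier →ₗ[R] X.carrier) ≃ₗ[R] H.carrier) :
    H.carrier →ₗ[k] (C.carrier →ₗ[k] X.carrier) where
  toFun p := (α.symm p).restrictScalars k
  map_add' p q := by rw [map_add]; rfl
  map_smul' c p := LinearMap.ext fun x => by
    rw [← algebraMap_smul R c p, map_smul]
    exact algebraMap_smul R c (α.symm p x)

/-- The action of classes on tensors. -/
noncomputable def pairB : XH.carrier ⊗[k] YH.carrier →ₗ[k]
    (XC.carrier ⊗[k] YC.carrier →ₗ[k] XE.carrier ⊗[k] YE.carrier) :=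
  (TensorProduct.homTensorHomMap (RingHom.id k) XC.carrier YC.carrier XE.carrier YE.carrier).comp
    (TensorProduct.map (homOf XC XE XH α) (homOf YC YE YH β))

theorem pairB_tmul (p : XH.carrier) (q : YH.carrier) (c : XC.carrier) (c' : YC.carrier) :
    pairB α β (p ⊗ₜ[k] q) (c ⊗ₜ[k] c') = α.symm p c ⊗ₜ[k] β.symm q c' := rfl

theorem pairB_act_left (z : R ⊗[k] S) (x : XH.carrier ⊗[k] YH.carrier) (w : XC.carrier ⊗[k] YC.carrier) :
    pairB α β (GrSeg.act k R S XH.carrier YH.carrier z x) w =
      GrSeg.act k R S XE.carrier YE.carrier z (pairB α β x w) := by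
  induction z using TensorProduct.induction_on with
  | zero => simp
  | add p q hp hq => simp [hp, hq]
  | tmul r s =>
    induction x using TensorProduct.induction_on with
    | zero => simp
    | add p q hp hq => simp [hp, hq]
    | tmul p q =>
      induction w using TensorProduct.induction_on with
      | zero => simp
      | add c d hc hd => simp only [map_add, hc, hd]
      | tmul c d => rw [GrSeg.act_tmul, pairB_tmul, pairB_tmul, GrSeg.act_tmul, map_smul, map_smul]; rfl

theorem pairB_act_right (x : XH.carrier ⊗[k] YH.carrier) (z : R ⊗[k] S) (w : XC.carrier ⊗[k] YC.carrier) :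
    pairB α β x (GrSeg.act k R S XC.carrier YC.carrier z w) =
      GrSeg.act k R S XE.carrier YE.carrier z (pairB α β x w) := by
  induction x using TensorProduct.induction_on with
  | zero => simp
  | add p q hp hq => simp [hp, hq]
  | tmul p q => exact map_act' (α.symm p) (β.symm q) z w

include hα hβ in
theorem pairB_mem {d h : ℤ} {x : XH.carrier ⊗[k] YH.carrier} (hx : x ∈ GrSeg.segrePiece k XH.gr YH.gr d)
    {w : XC.carrier ⊗[k] YC.carrier} (hw : w ∈ GrSeg.segrePiece k XC.gr YC.gr h) :
    pairB α β x w ∈ GrSeg.segrePiece k XE.gr YE.gr (h + d) := by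
  induction hx using Submodule.span_induction with
  | zero => rw [map_zero, LinearMap.zero_apply]; exact zero_mem _
  | add p q _ _ hp hq => rw [map_add, LinearMap.add_apply]; exact add_mem hp hq
  | smul c p _ hp => rw [map_smul, LinearMap.smul_apply]; exact Submodule.smul_mem _ c hp
  | mem x hx =>
    obtain ⟨p, hp, q, hq, rfl⟩ := hx
    induction hw using Submodule.span_induction with
    | zero => rw [map_zero]; exact zero_mem _
    | add a b _ _ ha hb => rw [map_add]; exact add_mem ha hb
    | smul c a _ ha => rw [map_smul]; exact Submodule.smul_mem _ c ha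
    | mem w hw =>
      obtain ⟨a, ha, b, hb, rfl⟩ := hw
      rw [pairB_tmul]
      exact Submodule.subset_span ⟨_, symm_deg_of_grHom XE XH α hα hp h a ha, _,
        symm_deg_of_grHom YE YH β hβ hq h b hb, rfl⟩

include hα hβ hP in
theorem pairB_segSub (x : (seg hdegT XH YH).carrier) (c : P) :
    pairB α β (segInc hdegT XH YH x) (φ c) ∈ segSub XE YE := by
  refine Submodule.iSup_induction _ (motive := fun z => pairB α β z (φ c) ∈ segSub XE YE) (segInc_mem hdegT XH YH x) ?_ ?_ ?_
  · intro d z hz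
    refine GrLib.induction 𝒬 (motive := fun c => pairB α β z (φ c) ∈ segSub XE YE)
      (by rw [map_zero, map_zero]; exact zero_mem _) (fun h c hc => piece_le_segSub XE YE (h + d)
        (pairB_mem α hα β hβ hz (by rw [← SetLike.mem_coe, ← hP.image_piece h]; exact ⟨c, hc, rfl⟩)))
      (fun a b ha hb => by rw [map_add, map_add]; exact add_mem ha hb) c
  · rw [map_zero, LinearMap.zero_apply]; exact zero_mem _
  · intro a b ha hb; rw [map_add, LinearMap.add_apply]; exact add_mem ha hb

include hposR h0R hposS h0S hposT h0T hmR hmS hmT heR heS heT hα hβ hP in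
/-- Maps into the hull are the Segre product of maps into the hulls. -/
theorem exists_canonSeg : ∃ θ : (seg hdegT XH YH).carrier ≃ₗ[T] (P →ₗ[T] ZE.carrier),
    ∀ f d, GrLC.IsGrHomDeg 𝒬 ZE.gr f d → θ.symm f ∈ (seg hdegT XH YH).gr d := by
  classical
  obtain ⟨ε, hε, hεe⟩ := exists_hullPairing hposR hposS hposT h0T hdegT hmR hmS hmT heR heS heT
  have hsub := pairB_segSub hdegT α hα β hβ hP
  let Sm : (seg hdegT XH YH).carrier → (P →ₗ[T] (seg hdegT XE YE).carrier) := fun x =>
    { toFun := fun c => (⟨pairB α β (segInc hdegT XH YH x) (φ c), hsub x c⟩ : ↥(segSub XE YE))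
      map_add' := fun a b => segInc_injective hdegT XE YE (by
        refine Eq.trans ?_ (map_add (segInc hdegT XE YE) _ _).symm
        show pairB α β (segInc hdegT XH YH x) (φ (a + b)) = _
        rw [map_add, map_add]; rfl)
      map_smul' := fun t a => segInc_injective hdegT XE YE (by
        rw [RingHom.id_apply, segInc_smul]
        show pairB α β (segInc hdegT XH YH x) (φ (t • a)) = _
        rw [hP.map_smul, pairB_act_right]; rfl) }
  let θ₀ : (seg hdegT XH YH).carrier →ₗ[T] (P →ₗ[T] ZE.carrier) :=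
    { toFun := fun x => ε ∘ₗ Sm x
      map_add' := fun x y => LinearMap.ext fun c => by
        rw [LinearMap.add_apply, LinearMap.comp_apply, LinearMap.comp_apply, LinearMap.comp_apply, ← map_add]
        refine congrArg ε (segInc_injective hdegT XE YE ?_)
        rw [map_add]
        show pairB α β (segInc hdegT XH YH (x + y)) (φ c) = _
        rw [map_add, map_add, LinearMap.add_apply]; rfl
      map_smul' := fun t x => LinearMap.ext fun c => by
        rw [RingHom.id_apply, LinearMap.smul_apply, LinearMap.comp_apply, LinearMap.comp_apply, ← map_smul]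
        refine congrArg ε (segInc_injective hdegT XE YE ?_)
        rw [segInc_smul]
        show pairB α β (segInc hdegT XH YH (t • x)) (φ c) = _
        rw [segInc_smul, pairB_act_left]; rfl }
  have hdeg : ∀ {d h : ℤ} {x : (seg hdegT XH YH).carrier}, x ∈ (seg hdegT XH YH).gr d → ∀ {c : P}, c ∈ 𝒬 h →
      θ₀ x c ∈ ZE.gr (h + d) := fun {d h x} hx {c} hc =>
    hε (h + d) _ (show pairB α β (segInc hdegT XH YH x) (φ c) ∈ GrSeg.segrePiece k XE.gr YE.gr (h + d) from
      pairB_mem α hα β hβ hx (by rw [← SetLike.mem_coe, ← hP.image_piece h]; exact ⟨c, hc, rfl⟩))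
  have key : ∀ j, (∀ x ∈ (seg hdegT XH YH).gr j, θ₀ x = 0 → x = 0) ∧
      ∀ f, GrLC.IsGrHomDeg 𝒬 ZE.gr f j → ∃ x ∈ (seg hdegT XH YH).gr j, θ₀ x = f := by
    intro j
    haveI := finite_piece h0R XC (-j)
    haveI := finite_piece h0S YC (-j)
    let bR := Module.finBasis k (kpiece XC (-j))
    let bS := Module.finBasis k (kpiece YC (-j))
    choose f hf hfv using fun i => exists_extend_functional hposR h0R hmR XE heR XC (-j) (bR.coord i)
    choose g hg hgv using fun i => exists_extend_functional hposS h0S hmS YE heS YC (-j) (bS.coord i)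
    simp only [neg_neg] at hf hg
    have hspanR : ∀ p ∈ XH.gr j, p ∈ Submodule.span k (Set.range fun i => α (f i)) := by
      intro p hp
      have hF := symm_deg_of_grHom XE XH α hα hp
      choose lam hlam using fun i => exists_socle_coeff hposR h0R hmR XE heR
        (y := α.symm p (bR i).1) (by have := hF (-j) _ (bR i).2; rwa [neg_add_cancel] at this)
      have hsum : α.symm p = ∑ i, algebraMap k R (lam i) • f i := by
        rw [← sub_eq_zero]
        refine eq_zero_of_piece hposR hmR XE heR (𝒞 := XC.gr) (d := j) (g := -j)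
          (fun h c hc => sub_mem (hF h c hc) ?_) (neg_add_cancel j) fun c hc => ?_
        · rw [LinearMap.sum_apply]
          refine sum_mem fun i _ => ?_
          rw [LinearMap.smul_apply, algebraMap_smul]
          exact SegreDim.smul_mem_piece 𝒜 XE.gr _ (hf i h c hc)
        let D : kpiece XC (-j) →ₗ[k] XE.carrier :=
          ((α.symm p - ∑ i, algebraMap k R (lam i) • f i).restrictScalars k).comp (kpiece XC (-j)).subtype
        suffices hD : D = 0 from LinearMap.congr_fun hD ⟨c, hc⟩
        refine bR.ext fun i => ?_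
        show α.symm p (bR i).1 - (∑ l, algebraMap k R (lam l) • f l) (bR i).1 = 0
        rw [LinearMap.sum_apply, Finset.sum_eq_single i (fun l _ hl => by
            rw [LinearMap.smul_apply, hfv, Module.Basis.coord_apply, bR.repr_self, Finsupp.single_eq_of_ne hl,
              zero_smul, smul_zero]) (fun h => absurd (Finset.mem_univ i) h), LinearMap.smul_apply, hfv,
          Module.Basis.coord_apply, bR.repr_self, Finsupp.single_eq_same, one_smul, algebraMap_smul, hlam, sub_self]
      rw [← α.apply_symm_apply p, hsum, map_sum]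
      refine sum_mem fun i _ => ?_
      rw [map_smul, algebraMap_smul]
      exact Submodule.smul_mem _ _ (Submodule.subset_span ⟨i, rfl⟩)
    have hspanS : ∀ q ∈ YH.gr j, q ∈ Submodule.span k (Set.range fun i => β (g i)) := by
      intro p hp
      have hF := symm_deg_of_grHom YE YH β hβ hp
      choose lam hlam using fun i => exists_socle_coeff hposS h0S hmS YE heS
        (y := β.symm p (bS i).1) (by have := hF (-j) _ (bS i).2; rwa [neg_add_cancel] at this)
      have hsum : β.symm p = ∑ i, algebraMap k S (lam i) • g i := by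
        rw [← sub_eq_zero]
        refine eq_zero_of_piece hposS hmS YE heS (𝒞 := YC.gr) (d := j) (g := -j)
          (fun h c hc => sub_mem (hF h c hc) ?_) (neg_add_cancel j) fun c hc => ?_
        · rw [LinearMap.sum_apply]
          refine sum_mem fun i _ => ?_
          rw [LinearMap.smul_apply, algebraMap_smul]
          exact SegreDim.smul_mem_piece ℬ YE.gr _ (hg i h c hc)
        let D : kpiece YC (-j) →ₗ[k] YE.carrier :=
          ((β.symm p - ∑ i, algebraMap k S (lam i) • g i).restrictScalars k).comp (kpiece YC (-j)).subtype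
        suffices hD : D = 0 from LinearMap.congr_fun hD ⟨c, hc⟩
        refine bS.ext fun i => ?_
        show β.symm p (bS i).1 - (∑ l, algebraMap k S (lam l) • g l) (bS i).1 = 0
        rw [LinearMap.sum_apply, Finset.sum_eq_single i (fun l _ hl => by
            rw [LinearMap.smul_apply, hgv, Module.Basis.coord_apply, bS.repr_self, Finsupp.single_eq_of_ne hl,
              zero_smul, smul_zero]) (fun h => absurd (Finset.mem_univ i) h), LinearMap.smul_apply, hgv,
          Module.Basis.coord_apply, bS.repr_self, Finsupp.single_eq_same, one_smul, algebraMap_smul, hlam, sub_self]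
      rw [← β.apply_symm_apply p, hsum, map_sum]
      refine sum_mem fun i _ => ?_
      rw [map_smul, algebraMap_smul]
      exact Submodule.smul_mem _ _ (Submodule.subset_span ⟨i, rfl⟩)
    let gen := fun il : Fin (Module.finrank k (kpiece XC (-j))) × Fin (Module.finrank k (kpiece YC (-j))) =>
      α (f il.1) ⊗ₜ[k] β (g il.2)
    have hpre : ∀ il : Fin (Module.finrank k (kpiece XC (-j))) × Fin (Module.finrank k (kpiece YC (-j))),
        ∃ c ∈ 𝒬 (-j), φ c = (bR il.1).1 ⊗ₜ[k] (bS il.2).1 := fun il => by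
      have : (bR il.1).1 ⊗ₜ[k] (bS il.2).1 ∈ φ '' (𝒬 (-j) : Set P) := by
        rw [hP.image_piece]
        exact Submodule.subset_span ⟨_, (bR il.1).2, _, (bS il.2).2, rfl⟩
      obtain ⟨c, hc, hcφ⟩ := this
      exact ⟨c, hc, hcφ⟩
    choose c hc hcφ using hpre
    have heval : ∀ (mu : _ → k) (x : (seg hdegT XH YH).carrier), segInc hdegT XH YH x = ∑ il, mu il • gen il →
        ∀ il, θ₀ x (c il) = mu il • eT (Ideal.Quotient.mk mT.toIdeal 1) := by
      intro mu x hx il
      show ε (Sm x (c il)) = _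
      refine hεe _ (mu il) ?_
      show pairB α β (segInc hdegT XH YH x) (φ (c il)) = _
      rw [hx, hcφ, map_sum, LinearMap.sum_apply, Finset.sum_eq_single il ?_ (fun h => absurd (Finset.mem_univ il) h)]
      · rw [map_smul, LinearMap.smul_apply, pairB_tmul, α.symm_apply_apply, β.symm_apply_apply, hfv, hgv,
          Module.Basis.coord_apply, Module.Basis.coord_apply, bR.repr_self, bS.repr_self, Finsupp.single_eq_same,
          Finsupp.single_eq_same, one_smul, one_smul]
      · rintro ⟨i, l⟩ - hne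
        rw [map_smul, LinearMap.smul_apply, pairB_tmul, α.symm_apply_apply, β.symm_apply_apply, hfv, hgv,
          Module.Basis.coord_apply, Module.Basis.coord_apply, bR.repr_self, bS.repr_self]
        by_cases hi : i = il.1
        · have hl : l ≠ il.2 := fun hl => hne (Prod.ext hi hl)
          rw [Finsupp.single_eq_of_ne hl, zero_smul, TensorProduct.tmul_zero, smul_zero]
        · rw [Finsupp.single_eq_of_ne hi, zero_smul, TensorProduct.zero_tmul, smul_zero]
    refine ⟨fun x hx hx0 => ?_, fun F hF => ?_⟩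
    · have hxs : segInc hdegT XH YH x ∈ Submodule.span k (Set.range gen) := by
        refine (Submodule.span_le.2 ?_) hx
        rintro _ ⟨p, hp, q, hq, rfl⟩
        show p ⊗ₜ[k] q ∈ Submodule.span k (Set.range gen)
        have h1 := hspanR p hp
        have h2 := hspanS q hq
        clear hp hq
        induction h1 using Submodule.span_induction with
        | zero => rw [TensorProduct.zero_tmul]; exact zero_mem _
        | add a b _ _ ha hb => rw [TensorProduct.add_tmul]; exact add_mem ha hb
        | smul a b _ hb => rw [← TensorProduct.smul_tmul']; exact Submodule.smul_mem _ _ hb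
        | mem p hp' =>
          obtain ⟨i, rfl⟩ := hp'
          induction h2 using Submodule.span_induction with
          | zero => rw [TensorProduct.tmul_zero]; exact zero_mem _
          | add a b _ _ ha hb => rw [TensorProduct.tmul_add]; exact add_mem ha hb
          | smul a b _ hb => rw [TensorProduct.tmul_smul]; exact Submodule.smul_mem _ _ hb
          | mem q hq' =>
            obtain ⟨l, rfl⟩ := hq'
            exact Submodule.subset_span ⟨(i, l), rfl⟩
      obtain ⟨mu, hmu⟩ := (Submodule.mem_span_range_iff_exists_fun k).1 hxs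
      refine segInc_injective hdegT XH YH ?_
      rw [map_zero, ← hmu]
      refine Finset.sum_eq_zero fun il _ => ?_
      have h1 := heval mu x hmu.symm il
      rw [hx0, LinearMap.zero_apply] at h1
      rcases smul_eq_zero.1 h1.symm with h | h
      · rw [h, zero_smul]
      · exact absurd h (socle_ne_zero ZE heT (top_ne_of_irrelevant hposT hmT))
    · choose mu hmu using fun il => exists_socle_coeff hposT h0T hmT ZE heT (y := F (c il))
        (by have := hF (-j) _ (hc il); rwa [neg_add_cancel] at this)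
      have hmem : ∑ il, mu il • gen il ∈ GrSeg.segrePiece k XH.gr YH.gr j := sum_mem fun il _ =>
        Submodule.smul_mem _ _ (Submodule.subset_span ⟨_, hα _ j (hf il.1), _, hβ _ j (hg il.2), rfl⟩)
      obtain ⟨x, hx⟩ := exists_seg hdegT XH YH (piece_le_segSub XH YH j hmem)
      have hxj : x ∈ (seg hdegT XH YH).gr j := by rw [mem_seg_gr, hx]; exact hmem
      refine ⟨x, hxj, sub_eq_zero.1 ?_⟩
      refine eq_zero_of_piece hposT hmT ZE heT (𝒞 := 𝒬) (d := j) (g := -j)
        (fun h p hp => sub_mem (hdeg hxj hp) (hF h p hp)) (neg_add_cancel j) fun p hp => ?_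
      have hps : φ p ∈ Submodule.span k (Set.range fun il => φ (c il)) := by
        have : φ p ∈ GrSeg.segrePiece k XC.gr YC.gr (-j) := by
          rw [← SetLike.mem_coe, ← hP.image_piece]; exact ⟨p, hp, rfl⟩
        refine (Submodule.span_le.2 ?_) this
        rintro _ ⟨a, ha, b, hb, rfl⟩
        show a ⊗ₜ[k] b ∈ Submodule.span k (Set.range fun il => φ (c il))
        rw [show a = (⟨a, ha⟩ : kpiece XC (-j)).1 from rfl, ← bR.sum_repr ⟨a, ha⟩,
          show b = (⟨b, hb⟩ : kpiece YC (-j)).1 from rfl, ← bS.sum_repr ⟨b, hb⟩, Submodule.coe_sum, Submodule.coe_sum,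
          TensorProduct.sum_tmul]
        refine sum_mem fun i _ => ?_
        rw [TensorProduct.tmul_sum]
        refine sum_mem fun l _ => ?_
        rw [Submodule.coe_smul, Submodule.coe_smul, TensorProduct.smul_tmul_smul, ← hcφ (i, l)]
        exact Submodule.smul_mem _ _ (Submodule.subset_span ⟨(i, l), rfl⟩)
      obtain ⟨nu, hnu⟩ := (Submodule.mem_span_range_iff_exists_fun k).1 hps
      obtain rfl : p = ∑ il, nu il • c il := hP.injective (by rw [map_sum]; simp only [map_smul]; exact hnu.symm)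
      rw [map_sum]
      refine Finset.sum_eq_zero fun il _ => ?_
      rw [← algebraMap_smul T (nu il) (c il), map_smul, LinearMap.sub_apply, heval mu x hx il, ← hmu il, sub_self,
        smul_zero]
  have hinj : Function.Injective θ₀ := (injective_iff_map_eq_zero _).2 fun x hx => by
    have hproj : ∀ d h (p : P), p ∈ 𝒬 h → θ₀ (GrLib.proj (seg hdegT XH YH).gr d x) p =
        GrLib.proj ZE.gr (h + d) (θ₀ x p) := by
      intro d h p hp
      refine GrLib.induction (seg hdegT XH YH).gr (motive := fun x => θ₀ (GrLib.proj (seg hdegT XH YH).gr d x) p =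
        GrLib.proj ZE.gr (h + d) (θ₀ x p)) (by simp only [map_zero, LinearMap.zero_apply]) (fun i y hy => ?_)
        (fun a b ha hb => by simp only [map_add, LinearMap.add_apply, ha, hb]) x
      by_cases hid : i = d
      · subst hid; rw [GrLib.proj_of_mem hy, GrLib.proj_of_mem (hdeg hy hp)]
      · rw [GrLib.proj_of_mem_ne hy hid, map_zero, LinearMap.zero_apply,
          GrLib.proj_of_mem_ne (hdeg hy hp) fun e => hid (add_left_cancel e)]
    refine (Submodule.mem_bot T).1 (GrLib.mem_of_proj_mem (ℳ := (seg hdegT XH YH).gr)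
      (p := (⊥ : Submodule T (seg hdegT XH YH).carrier)) fun d => (Submodule.mem_bot T).2 ?_)
    refine (key d).1 _ (GrLib.proj_mem _ d x) (LinearMap.ext fun p => ?_)
    refine GrLib.induction 𝒬 (motive := fun p => θ₀ (GrLib.proj (seg hdegT XH YH).gr d x) p = 0) (map_zero _)
      (fun h p hp => ?_) (fun a b ha hb => by rw [map_add, ha, hb, add_zero]) p
    rw [hproj d h p hp, hx, LinearMap.zero_apply, map_zero]
  have hsurj : Function.Surjective θ₀ := fun f => by
    obtain ⟨Sf, hSf⟩ := GrLib.exists_sum_homComponent (ℳ := 𝒬) (𝒩 := ZE.gr) 𝒯 f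
    choose x hx hxf using fun d => (key d).2 _ (GrLib.homComponent_deg 𝒯 (ℳ := 𝒬) (𝒩 := ZE.gr) f d)
    exact ⟨∑ d ∈ Sf, x d, by rw [map_sum, Finset.sum_congr rfl fun d _ => hxf d, ← hSf]⟩
  refine ⟨LinearEquiv.ofBijective θ₀ ⟨hinj, hsurj⟩, fun F d hF => ?_⟩
  obtain ⟨x, hx, rfl⟩ := (key d).2 F hF
  rwa [show (LinearEquiv.ofBijective θ₀ ⟨hinj, hsurj⟩).symm (θ₀ x) = x from
    (LinearEquiv.ofBijective θ₀ ⟨hinj, hsurj⟩).symm_apply_apply x]

end Groth.Agent.SegreLC
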