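import Mathlib
import Groth.Agent.SegreLC.CanonSeg

/-! The Segre product of canonical modules, for arbitrary presentations. -/

set_option autoImplicit false
set_option linter.unusedSectionVars false
universe u

open DirectSum TensorProduct

namespace Groth.Agent.SegreLC

variable {k : Type u} [Field k] {R : Type u} [CommRing R] [Nontrivial R] [Algebra k R] [IsNoetherianRing R]
  {𝒜 : ℤ → Submodule k R} [GradedAlgebra 𝒜]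
  {S : Type u} [CommRing S] [Nontrivial S] [Algebra k S] [IsNoetherianRing S] {ℬ : ℤ → Submodule k S}
  [GradedAlgebra ℬ]
  {T : Type u} [CommRing T] [Nontrivial T] [Algebra k T] [IsNoetherianRing T] {𝒯 : ℤ → Submodule k T} [GradedAlgebra 𝒯]
  {ψ : T →ₐ[k] R ⊗[k] S}
  {mR : HomogeneousIdeal 𝒜} {mS : HomogeneousIdeal ℬ} {mT : HomogeneousIdeal 𝒯}
  {ER : Type u} [AddCommGroup ER] [Module R ER] {𝓔R : ℤ → AddSubgroup ER} [Decomposition 𝓔R] [SetLike.GradedSMul 𝒜 𝓔R]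
  {ES : Type u} [AddCommGroup ES] [Module S ES] {𝓔S : ℤ → AddSubgroup ES} [Decomposition 𝓔S] [SetLike.GradedSMul ℬ 𝓔S]
  {ET : Type u} [AddCommGroup ET] [Module T ET] {𝓔T : ℤ → AddSubgroup ET} [Decomposition 𝓔T] [SetLike.GradedSMul 𝒯 𝓔T]
  {CR : Type u} [AddCommGroup CR] [Module R CR] [iR : Module k CR] [IsScalarTower k R CR] {𝒞R : ℤ → AddSubgroup CR}
  [Decomposition 𝒞R] [SetLike.GradedSMul 𝒜 𝒞R] [Module.Finite R CR]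
  {CS : Type u} [AddCommGroup CS] [Module S CS] [iS : Module k CS] [IsScalarTower k S CS] {𝒞S : ℤ → AddSubgroup CS}
  [Decomposition 𝒞S] [SetLike.GradedSMul ℬ 𝒞S] [Module.Finite S CS]
  {P : Type u} [AddCommGroup P] [Module T P] [Module k P] [IsScalarTower k T P] {𝒬 : ℤ → AddSubgroup P}
  [Decomposition 𝒬] [SetLike.GradedSMul 𝒯 𝒬] [Module.Finite T P]

theorem exists_canonSegAux (hdegT : ∀ n : ℤ, (𝒯 n).map ψ.toLinearMap = GrSeg.segrePiece k 𝒜 ℬ n)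
    (hposR : ∀ n : ℤ, n < 0 → 𝒜 n = ⊥) (h0R : 𝒜 0 = Submodule.span k {(1 : R)})
    (hposS : ∀ n : ℤ, n < 0 → ℬ n = ⊥) (h0S : ℬ 0 = Submodule.span k {(1 : S)})
    (hposT : ∀ n : ℤ, n < 0 → 𝒯 n = ⊥) (h0T : 𝒯 0 = Submodule.span k {(1 : T)})
    (hmR : mR.toIdeal = Ideal.span (⋃ n ∈ Set.Ioi (0 : ℤ), (𝒜 n : Set R)))
    (hmS : mS.toIdeal = Ideal.span (⋃ n ∈ Set.Ioi (0 : ℤ), (ℬ n : Set S)))
    (hmT : mT.toIdeal = Ideal.span (⋃ n ∈ Set.Ioi (0 : ℤ), (𝒯 n : Set T)))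
    (eR : (R ⧸ mR.toIdeal) →ₗ[R] ER) (heR : GrLC.IsStarInjHull 𝒜 (GrLC.quotGr 𝒜 mR) 𝓔R eR)
    (eS : (S ⧸ mS.toIdeal) →ₗ[S] ES) (heS : GrLC.IsStarInjHull ℬ (GrLC.quotGr ℬ mS) 𝓔S eS)
    (eT : (T ⧸ mT.toIdeal) →ₗ[T] ET) (heT : GrLC.IsStarInjHull 𝒯 (GrLC.quotGr 𝒯 mT) 𝓔T eT)
    {HR : GrLC.GMod.{u} 𝒜} (α : (CR →ₗ[R] ER) ≃ₗ[R] HR.carrier)
    (hα : GrLC.IsGrHom (fun d => (GrLC.homDeg 𝒜 𝒞R 𝓔R d).toAddSubgroup) HR.gr α.toLinearMap)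
    {HS : GrLC.GMod.{u} ℬ} (β : (CS →ₗ[S] ES) ≃ₗ[S] HS.carrier)
    (hβ : GrLC.IsGrHom (fun d => (GrLC.homDeg ℬ 𝒞S 𝓔S d).toAddSubgroup) HS.gr β.toLinearMap)
    {φ : P →ₗ[k] CR ⊗[k] CS} (hP : GrSeg.IsSegreMod ψ 𝒞R 𝒞S 𝒬 φ) :
    ∃ θ : (seg hdegT HR HS).carrier ≃ₗ[T] (P →ₗ[T] ET),
      ∀ f d, GrLC.IsGrHomDeg 𝒬 𝓔T f d → θ.symm f ∈ (seg hdegT HR HS).gr d := by
  obtain rfl : iR = (gmodModule (GrLC.GMod.of 𝒜 CR 𝒞R) : Module k CR) :=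
    Module.ext (funext₂ fun c m => (algebraMap_smul R c m).symm)
  obtain rfl : iS = (gmodModule (GrLC.GMod.of ℬ CS 𝒞S) : Module k CS) :=
    Module.ext (funext₂ fun c m => (algebraMap_smul S c m).symm)
  haveI : Module.Finite R (GrLC.GMod.of 𝒜 CR 𝒞R).carrier := ‹Module.Finite R CR›
  haveI : Module.Finite S (GrLC.GMod.of ℬ CS 𝒞S).carrier := ‹Module.Finite S CS›
  exact exists_canonSeg (XE := GrLC.GMod.of 𝒜 ER 𝓔R) (YE := GrLC.GMod.of ℬ ES 𝓔S) (ZE := GrLC.GMod.of 𝒯 ET 𝓔T)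
    (XC := GrLC.GMod.of 𝒜 CR 𝒞R) (YC := GrLC.GMod.of ℬ CS 𝒞S) hposR h0R hposS h0S hposT h0T hdegT hmR hmS hmT
    heR heS heT α (fun f d hf => hα d f hf) β (fun f d hf => hβ d f hf) hP

end Groth.Agent.SegreLC
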