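import Mathlib
import Groth.Agent.SegreLC.Unbundled
import Groth.Agent.CAlgH3.GrCanonApps
import Groth.Agent.GrLib.GradedDim
import Groth.Agent.SegreDim.Hsop

/-! Gorenstein criteria for gradings by subspaces. -/

set_option autoImplicit false
set_option linter.unusedSectionVars false
set_option maxHeartbeats 500000
universe u

open DirectSum IsLocalRing

namespace Groth.Agent.SegreLC

variable {R : Type u} [CommRing R] {σ : Type u} [SetLike σ R] [AddSubgroupClass σ R] {𝒜 : ℤ → σ} [GradedRing 𝒜]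

instance agMonoid : SetLike.GradedMonoid (agGr 𝒜) where
  one_mem := SetLike.one_mem_graded 𝒜
  mul_mem {_ _ _ _} ha hb := SetLike.mul_mem_graded (A := 𝒜) ha hb

noncomputable instance agRing : GradedRing (agGr 𝒜) := { agDecomp (ℳ := 𝒜), agMonoid (𝒜 := 𝒜) with }

theorem proj_agGr {M : Type u} [AddCommGroup M] {τ : Type u} [SetLike τ M] [AddSubgroupClass τ M] (ℳ : ℤ → τ)
    [Decomposition ℳ] (g : ℤ) (x : M) : GrLib.proj (agGr ℳ) g x = GrLib.proj ℳ g x := by
  induction x using GrLib.induction ℳ with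
  | zero => rw [map_zero, map_zero]
  | add a b ha hb => rw [map_add, map_add, ha, hb]
  | hom i x hx =>
    by_cases h : i = g
    · subst h
      rw [GrLib.proj_of_mem hx, GrLib.proj_of_mem (show x ∈ agGr ℳ i from hx)]
    · rw [GrLib.proj_of_mem_ne hx h, GrLib.proj_of_mem_ne (show x ∈ agGr ℳ i from hx) h]

theorem isHomogeneous_agGr {I : Ideal R} (hI : I.IsHomogeneous 𝒜) : I.IsHomogeneous (agGr 𝒜) := fun g x hx => by
  have h : GrLib.proj 𝒜 g x ∈ I := hI g hx
  rw [← proj_agGr] at h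
  exact h

theorem isHomogeneous_of_agGr {I : Ideal R} (hI : I.IsHomogeneous (agGr 𝒜)) : I.IsHomogeneous 𝒜 := fun g x hx => by
  have h : GrLib.proj (agGr 𝒜) g x ∈ I := hI g hx
  rw [proj_agGr] at h
  exact h

/-- A homogeneous ideal, for the subgroup pieces. -/
noncomputable def agIdeal (m : HomogeneousIdeal 𝒜) : HomogeneousIdeal (agGr 𝒜) :=
  ⟨m.toIdeal, isHomogeneous_agGr m.isHomogeneous⟩

/-- A graded module, for the subgroup pieces of the ring. -/
noncomputable def agMod (X : GrLC.GMod.{u} 𝒜) : GrLC.GMod.{u} (agGr 𝒜) :=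
  { carrier := X.carrier
    gr := X.gr
    gsmul := ⟨fun {_ _ _ _} hr hx => SetLike.GradedSMul.smul_mem (A := 𝒜) (B := X.gr) hr hx⟩ }

/-- A graded module over the subgroup pieces, seen over the original pieces. -/
noncomputable def ofAgMod (X : GrLC.GMod.{u} (agGr 𝒜)) : GrLC.GMod.{u} 𝒜 :=
  { carrier := X.carrier
    gr := X.gr
    gsmul := ⟨fun {_ _ _ _} hr hx => SetLike.GradedSMul.smul_mem (A := agGr 𝒜) (B := X.gr) hr hx⟩ }

theorem starInj_agGr {M : Type u} [AddCommGroup M] [Module R M] {ℳ : ℤ → AddSubgroup M} [Decomposition ℳ]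
    [SetLike.GradedSMul 𝒜 ℳ] [SetLike.GradedSMul (agGr 𝒜) ℳ] (h : GrLC.IsStarInj 𝒜 ℳ) :
    GrLC.IsStarInj (agGr 𝒜) ℳ := fun A B f hf hinj g hg => h (ofAgMod A) (ofAgMod B) f hf hinj g hg

/-- A resolution, for the subgroup pieces of the ring and of the module. -/
noncomputable def agRingRes (I : GrLC.StarInjRes 𝒜 𝒜) : GrLC.StarInjRes (agGr 𝒜) (agGr 𝒜) where
  X n := agMod (I.X n)
  d := I.d
  ε := I.ε
  d_grHom := I.d_grHom
  ε_grHom := I.ε_grHom
  ε_injective := I.ε_injective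
  exact_zero := I.exact_zero
  exact_succ := I.exact_succ
  starInj n := fun A B f hf hinj g hg => I.starInj n (ofAgMod A) (ofAgMod B) f hf hinj g hg

theorem isStarLocal_agGr {m : HomogeneousIdeal 𝒜} (hm : GrLC.IsStarLocal 𝒜 m) :
    GrLC.IsStarLocal (agGr 𝒜) (agIdeal m) := by
  have key : ∀ n : HomogeneousIdeal (agGr 𝒜), IsCoatom n →
      IsCoatom (⟨n.toIdeal, isHomogeneous_of_agGr n.isHomogeneous⟩ : HomogeneousIdeal 𝒜) := by
    intro n hn
    refine ⟨fun h => hn.1 (HomogeneousIdeal.ext ?_), fun b hb => HomogeneousIdeal.ext ?_⟩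
    · have := congrArg HomogeneousIdeal.toIdeal h
      exact this
    · have h1 := congrArg HomogeneousIdeal.toIdeal (hn.2 (agIdeal b) hb)
      exact h1
  refine ⟨⟨fun h => hm.1.1 (HomogeneousIdeal.ext ?_), fun b hb => HomogeneousIdeal.ext ?_⟩, fun n hn => ?_⟩
  · have := congrArg HomogeneousIdeal.toIdeal h
    exact this
  · have h1 := congrArg HomogeneousIdeal.toIdeal (hm.1.2 ⟨b.toIdeal, isHomogeneous_of_agGr b.isHomogeneous⟩ hb)
    exact h1
  · have h1 := congrArg HomogeneousIdeal.toIdeal (hm.2 _ (key n hn))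
    exact HomogeneousIdeal.ext h1

/-- Top local cohomology of a Gorenstein ring is a shift of the hull. -/
theorem exists_top_equiv' [LocCoh.IsGorensteinRing R] (m : HomogeneousIdeal 𝒜) (hm : GrLC.IsStarLocal 𝒜 m) (n : ℕ)
    (hn : m.toIdeal.height = n) (I : GrLC.StarInjRes 𝒜 𝒜) {E' : Type u} [AddCommGroup E'] [Module R E']
    {𝓔 : ℤ → AddSubgroup E'} [Decomposition 𝓔] [SetLike.GradedSMul 𝒜 𝓔] {e : (R ⧸ m.toIdeal) →ₗ[R] E'}
    (he : GrLC.IsStarInjHull 𝒜 (GrLC.quotGr 𝒜 m) 𝓔 e) :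
    ∃ (g : ℤ) (φ : I.H m n ≃ₗ[R] E'), GrLC.IsGrHomDeg (I.Hgr m n) 𝓔 φ.toLinearMap g := by
  haveI : SetLike.GradedSMul (agGr 𝒜) 𝓔 :=
    ⟨fun {_ _ _ _} hr hx => SetLike.GradedSMul.smul_mem (A := 𝒜) (B := 𝓔) hr hx⟩
  exact CAlgH3.GrGorenstein.exists_top_equiv (agIdeal m) (isStarLocal_agGr hm) n hn (agRingRes I) (𝓔 := 𝓔) (e := e)
    { injective := he.injective
      grHom := fun g x hx => he.grHom g x hx
      essential := he.essential
      starInj := starInj_agGr he.starInj }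

/-- A hull of a graded module. -/
theorem exists_hull' [IsNoetherianRing R] {M : Type u} [AddCommGroup M] [Module R M] (ℳ : ℤ → AddSubgroup M)
    [Decomposition ℳ] [SetLike.GradedSMul 𝒜 ℳ] :
    ∃ (X : GrLC.GMod.{u} 𝒜) (f : M →ₗ[R] X.carrier), GrLC.IsStarInjHull 𝒜 ℳ X.gr f := by
  obtain ⟨X, e₀, hX, he₀, he₀i⟩ := GrLib.exists_starInj_embedding (𝒜 := 𝒜) (ℳ := ℳ)
  obtain ⟨E, hE, r, hQE, hess, -, -, -, hEinj⟩ :=
    GrLib.exists_hull_inside hX (GrLib.isHomogeneous_range he₀)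
  letI := GrLib.subDecomp X.gr hE
  let f : M →ₗ[R] E := LinearMap.codRestrict E e₀ fun m => hQE ⟨m, rfl⟩
  have hf : GrLC.IsStarInjHull 𝒜 ℳ (GrLib.subGr X.gr E) f :=
    { injective := fun x y h => he₀i (congrArg Subtype.val h)
      grHom := fun g m hm => he₀ g m hm
      essential := fun P hP hP0 => GrLib.essential_of_essIn (𝒜 := 𝒜) (fun g y hy _ hy0 => by
        obtain ⟨a, s, hs, hs0, ⟨m, hm⟩⟩ := hess g y hy y.2 (fun h => hy0 (Subtype.ext h))
        exact ⟨a, s, hs, fun h => hs0 (congrArg Subtype.val h), m, Subtype.ext hm⟩) hP hP0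
      starInj := hEinj }
  exact ⟨GrLib.subGMod 𝒜 X.gr E hE, f, hf⟩

/-- The hull of the residue field. -/
theorem exists_residueHull [IsNoetherianRing R] (m : HomogeneousIdeal 𝒜) :
    ∃ (X : GrLC.GMod.{u} 𝒜) (e : (R ⧸ m.toIdeal) →ₗ[R] X.carrier),
      GrLC.IsStarInjHull 𝒜 (GrLC.quotGr 𝒜 m) X.gr e := by
  letI := GrLib.qDecomp 𝒜 (p := (m.toIdeal : Submodule R R)) m.isHomogeneous
  obtain ⟨X, f, hf⟩ := exists_hull' (𝒜 := 𝒜) (GrLib.qGr 𝒜 (m.toIdeal : Submodule R R))
  exact ⟨X, f, { injective := hf.injective, grHom := hf.grHom, essential := hf.essential, starInj := hf.starInj }⟩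

/-- A ring whose top local cohomology is *injective is Gorenstein. -/
theorem gorenstein_of_top_starInj [LocCoh.IsCohenMacaulayRing R] (m : HomogeneousIdeal 𝒜)
    (hm : GrLC.IsStarLocal 𝒜 m) [m.toIdeal.IsPrime] (n : ℕ) (hn : m.toIdeal.height = n) (I : GrLC.StarInjRes 𝒜 𝒜)
    (X : GrLC.GMod.{u} 𝒜) (φ : I.H m n ≃ₗ[R] X.carrier) (hX : GrLC.IsStarInj 𝒜 X.gr) :
    LocCoh.IsGorensteinRing R := by
  obtain ⟨eH⟩ := GrLib.nonempty_H_equiv I m n
  have hT : _root_.LocCoh.IsPowerTorsion m.toIdeal X.carrier := fun x => by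
    obtain ⟨k, hk⟩ := LocCoh.isPowerTorsion_H n (eH (φ.symm x))
    exact ⟨k, fun r hr => (eH.injective.comp φ.symm.injective) (by
      show eH (φ.symm (r • x)) = eH (φ.symm 0)
      rw [map_smul, map_smul, hk r hr, map_zero, map_zero])⟩
  haveI := CAlgH3.GrCanonApps.injective_localized_of_starInj m hX hT
  haveI := _root_.LocCoh.IsCohenMacaulayRing.isCohenMacaulayLocalRing_localization (R := R) m.toIdeal
  let W := m.toIdeal.primeCompl
  let S := Localization W
  obtain ⟨e3⟩ := LocCoh.nonempty_localized_H_equiv W m.toIdeal R n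
  have eS : LocalizedModule W R ≃ₗ[S] S :=
    LinearEquiv.extendScalarsOfIsLocalization W S (IsLocalizedModule.iso W (Algebra.linearMap R S))
  have e2 := LinearEquiv.extendScalarsOfIsLocalization W S
    (IsLocalizedModule.iso W ((LocalizedModule.mkLinearMap W (_root_.LocCoh.H m.toIdeal n R)).comp
      (φ.symm.trans eH).toLinearMap))
  have e4 := e2.trans (e3.trans (LocCoh.Hequiv (m.toIdeal.map (algebraMap R S)) n eS))
  rw [show m.toIdeal.map (algebraMap R S) = maximalIdeal (Localization.AtPrime m.toIdeal) from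
    Localization.AtPrime.map_eq_maximalIdeal] at e4
  have hd : ringKrullDim (Localization.AtPrime m.toIdeal) = n := by
    rw [IsLocalization.AtPrime.ringKrullDim_eq_height m.toIdeal, hn]; rfl
  exact CAlgH3.GrCanonApps.isGorensteinRing_of_localized hm (LocCoh.gorenstein_of_injective hd
    (LocCoh.subsingleton_H_of_cm hd) (Module.Injective.of_ringEquiv (RingEquiv.refl _) e4))

section overField

variable {k : Type u} [Field k] {A : Type u} [CommRing A] [Nontrivial A] [Algebra k A] (𝒞 : ℤ → Submodule k A)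
  [GradedAlgebra 𝒞] (hpos : ∀ n : ℤ, n < 0 → 𝒞 n = ⊥) (h0 : 𝒞 0 = Submodule.span k {(1 : A)})
  {m : HomogeneousIdeal 𝒞} (hm : m.toIdeal = Ideal.span (⋃ n ∈ Set.Ioi (0 : ℤ), (𝒞 n : Set A)))

include hpos h0 hm in
theorem starLocal_irr : GrLC.IsStarLocal 𝒞 m ∧ m.toIdeal.IsMaximal := by
  have hmI : m.toIdeal = SegreDim.irr 𝒞 := hm
  haveI hmax : m.toIdeal.IsMaximal := hmI ▸ SegreDim.irr_isMaximal 𝒞 hpos h0
  have hle : ∀ n : HomogeneousIdeal 𝒞, n.toIdeal ≠ ⊤ → n.toIdeal ≤ m.toIdeal := fun n hn =>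
    hmI ▸ SegreDim.le_irr_of_isHomogeneous 𝒞 hpos h0 n.isHomogeneous hn
  have hne : m ≠ ⊤ := fun h => hmax.ne_top (congrArg HomogeneousIdeal.toIdeal h)
  refine ⟨⟨⟨hne, fun b hb => ?_⟩, fun n hn => ?_⟩, hmax⟩
  · by_contra hbt
    have : b ≤ m := hle b fun h => hbt (HomogeneousIdeal.ext h)
    exact absurd (lt_of_lt_of_le hb this) (lt_irrefl _)
  · have h1 : n ≤ m := hle n fun h => hn.1 (HomogeneousIdeal.ext h)
    rcases h1.lt_or_eq with h | h
    · exact absurd (hn.2 m h) hne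
    · exact h

include hpos h0 hm in
theorem height_irr [IsNoetherianRing A] {n : ℕ} (hn : ringKrullDim A = n) : m.toIdeal.height = n := by
  have h := GrLib.ringKrullDim_eq_height_starMaximal (𝒜 := 𝒞) (m := m)
    (fun c hc x hx => (Submodule.mem_bot k).1 (hpos c hc ▸ hx)) (starLocal_irr 𝒞 hpos h0 hm).1
  rw [hn] at h
  exact_mod_cast h.symm

end overField

end Groth.Agent.SegreLC
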