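import Mathlib
import Groth.Agent.SegreLC.TopMapBase

/-! The top local cohomology of a Segre product is the Segre product of the top local cohomologies. -/

set_option autoImplicit false
set_option linter.unusedSectionVars false
set_option maxHeartbeats 500000
universe u

open DirectSum TensorProduct

namespace Groth.Agent.SegreLC

section single_cocycle

/-- A cocycle of a total complex whose cohomology is concentrated in one bidegree. -/
theorem exists_single_cocycle {k : Type u} [Field k] {C : ℕ → Type u} [∀ n, AddCommGroup (C n)] [∀ n, Module k (C n)]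
    (dC : ∀ n, C n →ₗ[k] C (n + 1)) {D : ℕ → Type u} [∀ n, AddCommGroup (D n)] [∀ n, Module k (D n)]
    (dD : ∀ n, D n →ₗ[k] D (n + 1)) (hC : ∀ n x, dC (n + 1) (dC n x) = 0) (hD : ∀ n x, dD (n + 1) (dD n x) = 0)
    {n i₀ j₀ : ℕ} (hvan : ∀ i j, i + j = n → (i, j) ≠ (i₀, j₀) → Subsingleton (Coh dC i) ∨ Subsingleton (Coh dD j))
    {V W : Type u} [AddCommGroup V] [Module k V] [AddCommGroup W] [Module k W]
    (f : V →ₗ[k] C i₀) (hfs : ∀ z, dC i₀ z = 0 → ∃ v, f v = z)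
    (g : W →ₗ[k] D j₀) (hgs : ∀ z, dD j₀ z = 0 → ∃ v, g v = z)
    (Φ : V ⊗[k] W → totDeg k C D n) (hΦ : ∀ ζ, (Φ ζ).1 i₀ j₀ = TensorProduct.map f g ζ)
    (hΦc : ∀ ζ, totd dC dD n (Φ ζ) = 0) (q : totDeg k C D n) (hq : totd dC dD n q = 0) :
    ∃ ζ, q - Φ ζ ∈ bdry (totd dC dD) n := by
  obtain ⟨α, β, h, hdα, hβd, hβα, hid0, hids, hβ⟩ := exists_deformation dC hC
  obtain ⟨α', β', h', hdα', hβd', hβα', hid0', hids', hβ'⟩ := exists_deformation dD hD
  have hkey := totKey dC dD (β := β) (β' := β') hdα hβd hid0 hids hid0' hids'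
  have hτR : Function.Surjective ((β i₀).comp f) := fun c => by
    obtain ⟨z, rfl⟩ := Submodule.Quotient.mk_surjective _ c
    obtain ⟨v, hv⟩ := hfs z.1 (LinearMap.mem_ker.1 z.2)
    exact ⟨v, (congrArg (β i₀) hv).trans (hβ _ z)⟩
  have hτS : Function.Surjective ((β' j₀).comp g) := fun c => by
    obtain ⟨z, rfl⟩ := Submodule.Quotient.mk_surjective _ c
    obtain ⟨v, hv⟩ := hgs z.1 (LinearMap.mem_ker.1 z.2)
    exact ⟨v, (congrArg (β' j₀) hv).trans (hβ' _ z)⟩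
  obtain ⟨ζ, hζ⟩ := TensorProduct.map_surjective hτR hτS (TensorProduct.map (β i₀) (β' j₀) (q.1 i₀ j₀))
  have hd : totd dC dD n (q - Φ ζ) = 0 := by rw [map_sub, hq, hΦc, sub_zero]
  refine ⟨ζ, (totTheta_eq_zero_iff dC dD hkey hβd hβd' n _ hd).1 (funext fun p => ?_)⟩
  rw [totTheta_apply]
  obtain ⟨⟨i, j⟩, hp⟩ := p
  show TensorProduct.map (β i) (β' j) (q.1 i j - (Φ ζ).1 i j) = 0
  by_cases hne : (i, j) = (i₀, j₀)
  · obtain ⟨rfl, rfl⟩ := Prod.mk.injEq .. ▸ hne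
    rw [map_sub, hΦ, ← hζ, TensorProduct.map_map, sub_self]
  · generalize TensorProduct.map (β i) (β' j) (q.1 i j - (Φ ζ).1 i j) = c
    induction c using TensorProduct.induction_on with
    | zero => rfl
    | add p r hp hr => rw [hp, hr, add_zero]
    | tmul p r =>
      rcases hvan i j (Finset.HasAntidiagonal.mem_antidiagonal.1 hp) hne with hA | hB
      · rw [Subsingleton.elim p 0, TensorProduct.zero_tmul]
      · rw [Subsingleton.elim r 0, TensorProduct.tmul_zero]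

end single_cocycle

variable {k : Type u} [Field k] {R : Type u} [CommRing R] [Algebra k R] {𝒜 : ℤ → Submodule k R} [GradedAlgebra 𝒜]
  {S : Type u} [CommRing S] [Algebra k S] {ℬ : ℤ → Submodule k S} [GradedAlgebra ℬ]
  {T : Type u} [CommRing T] [Algebra k T] {𝒯 : ℤ → Submodule k T} [GradedAlgebra 𝒯]
  {ψ : T →ₐ[k] R ⊗[k] S} (hdegT : ∀ n : ℤ, (𝒯 n).map ψ.toLinearMap = GrSeg.segrePiece k 𝒜 ℬ n)
  {X₀ : GrLC.GMod.{u} 𝒜} (E : GrLC.StarInjRes 𝒜 X₀.gr) {Y₀ : GrLC.GMod.{u} ℬ} (F : GrLC.StarInjRes ℬ Y₀.gr)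
  [IsNoetherianRing R] [IsNoetherianRing S] [IsNoetherianRing T]
  {mR : HomogeneousIdeal 𝒜} (hmR : mR.toIdeal = Ideal.span (⋃ n ∈ Set.Ioi (0 : ℤ), (𝒜 n : Set R)))
  {mS : HomogeneousIdeal ℬ} (hmS : mS.toIdeal = Ideal.span (⋃ n ∈ Set.Ioi (0 : ℤ), (ℬ n : Set S)))
  {mT : HomogeneousIdeal 𝒯} (hmT : mT.toIdeal = Ideal.span (⋃ n ∈ Set.Ioi (0 : ℤ), (𝒯 n : Set T)))
  {P : Type u} [AddCommGroup P] [Module T P] {𝒬 : ℤ → AddSubgroup P} [Decomposition 𝒬]
  [SetLike.GradedSMul 𝒯 𝒬] (EP : GrLC.StarInjRes 𝒯 𝒬)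
  (U : ∀ n, (totX hdegT E F n).carrier →ₗ[T] (EP.X n).carrier)
  (hUd : ∀ n x, U (n + 1) (totdX hdegT E F n x) = EP.d n (U n x)) (a b : ℕ)

/-- A tensor of elements with torsion boundary, as an element with torsion boundary of the total resolution. -/
noncomputable def uinc : ucyc E mR (a + 1) ⊗[k] ucyc F mS (b + 1) →ₗ[k] (E.X (a + 1)).carrier ⊗[k] (F.X (b + 1)).carrier :=
  TensorProduct.map ((ucyc E mR (a + 1)).subtype.restrictScalars k) ((ucyc F mS (b + 1)).subtype.restrictScalars k)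

/-- The pair of classes. -/
noncomputable def upr : ucyc E mR (a + 1) ⊗[k] ucyc F mS (b + 1) →ₗ[k]
    (HG E mR (a + 1 + 1)).carrier ⊗[k] (HG F mS (b + 1 + 1)).carrier :=
  TensorProduct.map ((ucls E mR (a + 1)).restrictScalars k) ((ucls F mS (b + 1)).restrictScalars k)

include hmR hmS hmT in
theorem wd_mem_omega (z : ucyc E mR (a + 1) ⊗[k] ucyc F mS (b + 1)) :
    wd hdegT E F (a + 1) (b + 1) (by omega : a + 1 + (b + 1) = a + b + 1 + 1) (uinc E F a b z) ∈
      omega hdegT E F mT (a + b + 1 + 1) :=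
  totdX_wd_mem_gam hdegT E F hmR hmS hmT _ z

/-- The class attached to a tensor of elements with torsion boundary. -/
noncomputable def ncls : ucyc E mR (a + 1) ⊗[k] ucyc F mS (b + 1) →ₗ[k] (HG EP mT (a + b + 1 + 1 + 1)).carrier where
  toFun z := cl hdegT E F mT EP U hUd (a + b + 1 + 1) ⟨_, wd_mem_omega hdegT E F hmR hmS hmT a b z⟩
  map_add' z z' := by
    rw [← map_add]
    exact congrArg (cl hdegT E F mT EP U hUd _) (Subtype.ext (by simp only [map_add]; rfl))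
  map_smul' c z := by
    rw [RingHom.id_apply, ← algebraMap_smul T c (cl hdegT E F mT EP U hUd (a + b + 1 + 1)
      ⟨_, wd_mem_omega hdegT E F hmR hmS hmT a b z⟩), ← map_smul]
    refine congrArg (cl hdegT E F mT EP U hUd _) (Subtype.ext ?_)
    show wd hdegT E F (a + 1) (b + 1) _ (uinc E F a b (c • z)) =
      algebraMap k T c • wd hdegT E F (a + 1) (b + 1) _ (uinc E F a b z)
    rw [map_smul (uinc E F a b), map_smul, algebraMap_smul]

include hmR hmS hmT in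
theorem ncls_eq_zero_left {u : ucyc E mR (a + 1)} (hu : ucls E mR (a + 1) u = 0) (v : ucyc F mS (b + 1)) :
    ncls hdegT E F hmR hmS hmT EP U hUd a b (u ⊗ₜ[k] v) = 0 := by
  obtain ⟨y, hy⟩ := exists_bdry_left hdegT E F hmR hmS hmT hu v (show a + 1 + (b + 1) = a + b + 1 + 1 by omega)
  exact cl_eq_zero hdegT E F mT EP U hUd ⟨_, wd_mem_omega hdegT E F hmR hmS hmT a b (u ⊗ₜ[k] v)⟩ y hy

include hmR hmS hmT in
theorem ncls_eq_zero_right (u : ucyc E mR (a + 1)) {v : ucyc F mS (b + 1)} (hv : ucls F mS (b + 1) v = 0) :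
    ncls hdegT E F hmR hmS hmT EP U hUd a b (u ⊗ₜ[k] v) = 0 := by
  obtain ⟨y, hy⟩ := exists_bdry_right hdegT E F hmR hmS hmT u hv (show a + 1 + (b + 1) = a + b + 1 + 1 by omega)
  exact cl_eq_zero hdegT E F mT EP U hUd ⟨_, wd_mem_omega hdegT E F hmR hmS hmT a b (u ⊗ₜ[k] v)⟩ y hy

include hmR hmS hmT in
theorem ncls_act (t : T) {d : ℤ} {u : ucyc E mR (a + 1)} (hu : u.1 ∈ (E.X (a + 1)).gr d) {v : ucyc F mS (b + 1)}
    (hv : v.1 ∈ (F.X (b + 1)).gr d) :
    ncls hdegT E F hmR hmS hmT EP U hUd a b (GrSeg.act k R S _ _ (ψ t) (u ⊗ₜ[k] v)) =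
      t • ncls hdegT E F hmR hmS hmT EP U hUd a b (u ⊗ₜ[k] v) := by
  show cl hdegT E F mT EP U hUd _ _ = t • cl hdegT E F mT EP U hUd _ _
  rw [← map_smul]
  refine congrArg (cl hdegT E F mT EP U hUd _) (Subtype.ext ?_)
  have hmem : uinc (mR := mR) (mS := mS) E F a b (u ⊗ₜ[k] v) ∈ segSub (E.X (a + 1)) (F.X (b + 1)) :=
    piece_le_segSub _ _ d (Submodule.subset_span ⟨u.1, hu, v.1, hv, rfl⟩)
  rw [Submodule.coe_smul, smul_wd hdegT E F _ t hmem]
  refine congrArg (wd hdegT E F (a + 1) (b + 1) _) ?_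
  exact map_act' (ucyc E mR (a + 1)).subtype (ucyc F mS (b + 1)).subtype (ψ t) (u ⊗ₜ[k] v)

include hmR hmS hmT in
/-- The map from the Segre product of classes. -/
theorem exists_topMap (hUg : ∀ n, GrLC.IsGrHom (totX hdegT E F n).gr (EP.X n).gr (U n)) :
    ∃ ν : (seg hdegT (HG E mR (a + 1 + 1)) (HG F mS (b + 1 + 1))).carrier →ₗ[T]
        (HG EP mT (a + b + 1 + 1 + 1)).carrier,
      GrLC.IsGrHom (seg hdegT (HG E mR (a + 1 + 1)) (HG F mS (b + 1 + 1))).gr (HG EP mT (a + b + 1 + 1 + 1)).gr ν ∧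
      ∀ z w, segInc hdegT (HG E mR (a + 1 + 1)) (HG F mS (b + 1 + 1)) w = upr E F a b z →
        ν w = ncls hdegT E F hmR hmS hmT EP U hUd a b z := by
  classical
  obtain ⟨σ, hσ⟩ := ((ucls E mR (a + 1)).restrictScalars k).exists_rightInverse_of_surjective
    (LinearMap.range_eq_top.2 (ucls_surjective E mR (a + 1)))
  obtain ⟨σ', hσ'⟩ := ((ucls F mS (b + 1)).restrictScalars k).exists_rightInverse_of_surjective
    (LinearMap.range_eq_top.2 (ucls_surjective F mS (b + 1)))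
  have hσa : ∀ p, ucls E mR (a + 1) (σ p) = p := LinearMap.congr_fun hσ
  have hσb : ∀ p, ucls F mS (b + 1) (σ' p) = p := LinearMap.congr_fun hσ'
  let N := ncls hdegT E F hmR hmS hmT EP U hUd a b
  have hN : ∀ z, N (TensorProduct.map σ σ' (upr E F a b z)) = N z := fun z => by
    induction z using TensorProduct.induction_on with
    | zero => simp only [map_zero]
    | add p q hp hq => simp only [map_add, hp, hq]
    | tmul u v =>
      have h1 : N ((u - σ (ucls E mR (a + 1) u)) ⊗ₜ[k] v) = 0 :=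
        ncls_eq_zero_left hdegT E F hmR hmS hmT EP U hUd a b (by rw [map_sub, hσa, sub_self]) v
      have h2 : N (σ (ucls E mR (a + 1) u) ⊗ₜ[k] (v - σ' (ucls F mS (b + 1) v))) = 0 :=
        ncls_eq_zero_right hdegT E F hmR hmS hmT EP U hUd a b _ (by rw [map_sub, hσb, sub_self])
      rw [TensorProduct.sub_tmul, map_sub, sub_eq_zero] at h1
      rw [TensorProduct.tmul_sub, map_sub, sub_eq_zero] at h2
      show N (σ (ucls E mR (a + 1) u) ⊗ₜ[k] σ' (ucls F mS (b + 1) v)) = _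
      rw [← h2, ← h1]
  let Φ : (HG E mR (a + 1 + 1)).carrier ⊗[k] (HG F mS (b + 1 + 1)).carrier →ₗ[k] (HG EP mT (a + b + 1 + 1 + 1)).carrier :=
    N.comp (TensorProduct.map σ σ')
  have hΦ : ∀ (t : T) w, w ∈ segSub (HG E mR (a + 1 + 1)) (HG F mS (b + 1 + 1)) →
      Φ (GrSeg.act k R S _ _ (ψ t) w) = t • Φ w := by
    intro t w hw
    refine Submodule.iSup_induction _ (motive := fun w => Φ (GrSeg.act k R S _ _ (ψ t) w) = t • Φ w) hw ?_ ?_ ?_
    · intro d x hx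
      induction hx using Submodule.span_induction with
      | zero => simp only [map_zero, smul_zero]
      | add p q _ _ hp hq => simp only [map_add, smul_add, hp, hq]
      | smul c p _ hp => rw [map_smul, map_smul, map_smul, hp, smul_comm c t]
      | mem x hx =>
        obtain ⟨p, hp, q, hq, rfl⟩ := hx
        obtain ⟨u, hu, rfl⟩ := exists_ucls_hom E mR hp
        obtain ⟨v, hv, rfl⟩ := exists_ucls_hom F mS hq
        have h := map_act' (ucls E mR (a + 1)) (ucls F mS (b + 1)) (ψ t) (u ⊗ₜ[k] v)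
        rw [TensorProduct.map_tmul] at h
        show N (TensorProduct.map σ σ' (GrSeg.act k R S _ _ (ψ t) (ucls E mR (a + 1) u ⊗ₜ[k] ucls F mS (b + 1) v))) =
          t • N (TensorProduct.map σ σ' (upr E F a b (u ⊗ₜ[k] v)))
        rw [hN]
        refine (congrArg (fun x => N (TensorProduct.map σ σ' x)) h.symm).trans ((hN _).trans ?_)
        exact ncls_act hdegT E F hmR hmS hmT EP U hUd a b t hu hv
    · simp only [map_zero, smul_zero]
    · intro p q hp hq; simp only [map_add, smul_add, hp, hq]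
  let ν : (seg hdegT (HG E mR (a + 1 + 1)) (HG F mS (b + 1 + 1))).carrier →ₗ[T]
      (HG EP mT (a + b + 1 + 1 + 1)).carrier :=
    { toFun := fun w => Φ (segInc hdegT _ _ w)
      map_add' := fun w w' => by rw [map_add, map_add]
      map_smul' := fun t w => by
        rw [RingHom.id_apply, segInc_smul]
        exact hΦ t _ (segInc_mem hdegT _ _ w) }
  refine ⟨ν, fun d w hw => ?_, fun z w hw => ?_⟩
  · show Φ (segInc hdegT _ _ w) ∈ kpiece (HG EP mT (a + b + 1 + 1 + 1)) d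
    refine (Submodule.span_le (p := (kpiece (HG EP mT (a + b + 1 + 1 + 1)) d).comap Φ)).2 ?_ hw
    rintro _ ⟨p, hp, q, hq, rfl⟩
    obtain ⟨u, hu, rfl⟩ := exists_ucls_hom E mR hp
    obtain ⟨v, hv, rfl⟩ := exists_ucls_hom F mS hq
    show N (TensorProduct.map σ σ' (upr E F a b (u ⊗ₜ[k] v))) ∈ kpiece (HG EP mT (a + b + 1 + 1 + 1)) d
    rw [hN]
    exact cl_mem hdegT E F mT EP U hUd hUg ⟨_, wd_mem_omega hdegT E F hmR hmS hmT a b (u ⊗ₜ[k] v)⟩
      (wd_mem hdegT E F _ (Submodule.subset_span ⟨u.1, hu, v.1, hv, rfl⟩))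
  · show Φ (segInc hdegT _ _ w) = _
    rw [hw]
    exact hN z

/-- The components in one degree, modulo torsion. -/
noncomputable def qd (d : ℤ) (m : ℕ) :
    (totX hdegT E F m).carrier →ₗ[k] ∀ i j, BC E mR d i ⊗[k] BC F mS d j :=
  ((totMap (bπ E mR d) (bπ F mS d)).comp (totMap (pq E d) (pq F d))).comp (totEmb hdegT E F m)

theorem qd_apply (d : ℤ) (m : ℕ) (y : (totX hdegT E F m).carrier) (i j : ℕ) :
    qd (mR := mR) (mS := mS) hdegT E F d m y i j = TensorProduct.map (bπ E mR d i) (bπ F mS d j)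
      (TensorProduct.map (pq E d i) (pq F d j) (totEmb hdegT E F m y i j)) := rfl

theorem qd_mem (d : ℤ) (m : ℕ) (y : (totX hdegT E F m).carrier) :
    qd hdegT E F d m y ∈ totDeg k (BC E mR d) (BC F mS d) m :=
  totMap_mem _ _ (totMap_mem _ _ (totEmb_mem hdegT E F m y))

theorem qd_totdX (d : ℤ) (m : ℕ) (y : (totX hdegT E F m).carrier) :
    qd hdegT E F d (m + 1) (totdX hdegT E F m y) = totD (bd E mR d) (bd F mS d) (qd hdegT E F d m y) := by
  show totMap (bπ E mR d) (bπ F mS d) (totMap (pq E d) (pq F d) (totEmb hdegT E F (m + 1) _)) =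
    totD _ _ (totMap (bπ E mR d) (bπ F mS d) (totMap (pq E d) (pq F d) (totEmb hdegT E F m y)))
  rw [totEmb_totdX, totD_natural (dC := pd E d) (dD := pd F d) (bπ E mR d) (bπ_comm E mR d) (bπ F mS d)
    (bπ_comm F mS d), totD_natural (dC := kd E) (dD := kd F) (pq E d) (pq_comm E d) (pq F d) (pq_comm F d)]

include hmR hmS hmT in
theorem qd_eq_zero {d : ℤ} {m : ℕ} {y : (totX hdegT E F m).carrier}
    (hy : y ∈ GrLC.gam mT.toIdeal (totX hdegT E F m).carrier) (hyd : y ∈ (totX hdegT E F m).gr d) :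
    qd (mR := mR) (mS := mS) hdegT E F d m y = 0 :=
  gamΨ_ker hdegT hmR hmS hmT E F d m ⟨y, hyd, hy⟩

include hmR hmS hmT in
theorem mem_gam_of_qd_eq_zero {d : ℤ} {m : ℕ} {y : (totX hdegT E F m).carrier}
    (hyd : y ∈ (totX hdegT E F m).gr d) (hy : qd (mR := mR) (mS := mS) hdegT E F d m y = 0) :
    y ∈ GrLC.gam mT.toIdeal (totX hdegT E F m).carrier :=
  mem_gam_totX hdegT hmR hmS hmT E F m y fun p => by
    obtain ⟨⟨i, j⟩, hp⟩ := p
    refine (mem_gam_piece_iff hdegT hmR hmS hmT E F d i j _ (hyd ⟨(i, j), hp⟩)).2 ?_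
    have h := congrFun (congrFun hy i) j
    rw [qd_apply, totEmb_of_eq hdegT E F y (Finset.HasAntidiagonal.mem_antidiagonal.1 hp)] at h
    exact h

include hmR hmS hmT in
theorem exists_totX_cocycle (hUg : ∀ n, GrLC.IsGrHom (totX hdegT E F n).gr (EP.X n).gr (U n))
    (f : (seg hdegT X₀ Y₀).carrier →ₗ[T] P) (hf : Function.Bijective f)
    (hU₀ : ∀ p, U 0 (totε hdegT E F p) = EP.ε (f p)) (n : ℕ) (d : ℤ) {x : (HG EP mT (n + 1)).carrier}
    (hx : x ∈ (HG EP mT (n + 1)).gr d) :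
    ∃ w : omega hdegT E F mT n, w.1 ∈ (totX hdegT E F n).gr d ∧ cl hdegT E F mT EP U hUd n w = x := by
  obtain ⟨e, hed, rfl⟩ := hx
  obtain ⟨-, -, -, c4⟩ := gam_compare (I := mT.toIdeal) (L := fun n => (totX hdegT E F n).carrier)
    (εL := totε hdegT E F) (dL := totdX hdegT E F)
    (totε_injective hdegT E F) (totε_exact hdegT E F) (totdX_exact hdegT E F) (acyc_totX hdegT hmR hmS hmT E F)
    (E := fun n => (EP.X n).carrier) (εE := EP.ε ∘ₗ f) (dE := EP.d) (EP.ε_injective.comp hf.1)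
    (fun x => ⟨fun hx => by
      obtain ⟨m, rfl⟩ := GrLib.exists_ε_eq EP hx
      obtain ⟨p, rfl⟩ := hf.2 m
      exact ⟨p, rfl⟩, fun ⟨p, hp⟩ => hp ▸ GrLib.d_comp_ε EP _⟩)
    (fun n x => ⟨GrLib.exists_d_eq EP n, fun ⟨y, hy⟩ => hy ▸ GrLib.d_comp_d EP n y⟩)
    (fun n i hi => GrLib.subsingleton_H_of_isStarInj (EP.starInj n) mT hi) hU₀ hUd
  obtain ⟨x₁, hx₁, hdx₁, y₁, hy₁, hxy⟩ := c4 n e.1 e.2.1 e.2.2
  have hhom : ∀ Y : GrLC.GMod.{u} 𝒯, (GrLC.gam mT.toIdeal Y.carrier).IsHomogeneous Y.gr := fun Y =>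
    GrLib.isHomogeneous_gam (𝒜 := 𝒯) (ℳ := Y.gr) mT.isHomogeneous
  obtain ⟨w₀, hw₀⟩ := (totdX_exact hdegT E F n x₁).1 hdx₁
  let w := GrLib.proj (totX hdegT E F n).gr d w₀
  have hwd : w ∈ (totX hdegT E F n).gr d := GrLib.proj_mem _ d w₀
  have hdw : totdX hdegT E F n w = GrLib.proj (totX hdegT E F (n + 1)).gr d x₁ := by
    show totdX hdegT E F n (GrLib.proj _ d w₀) = _
    rw [← GrLib.proj_map (totdX_grHom hdegT E F n), hw₀]
  have hwO : w ∈ omega hdegT E F mT n := by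
    show totdX hdegT E F n w ∈ GrLC.gam mT.toIdeal _
    rw [hdw]
    exact hhom _ d hx₁
  have hclw : cl hdegT E F mT EP U hUd n ⟨w, hwO⟩ = EP.toH mT (n + 1) e := by
    refine (Submodule.Quotient.eq _).2 ⟨-(GrLib.proj (EP.X n).gr d y₁), neg_mem (hhom _ d hy₁), ?_⟩
    show EP.d n (-(GrLib.proj (EP.X n).gr d y₁)) = U (n + 1) (totdX hdegT E F n w) - e.1
    rw [map_neg, hdw, ← GrLib.proj_map (hUg (n + 1)), ← GrLib.proj_map (EP.d_grHom n), eq_sub_iff_add_eq,
      neg_add_eq_iff_eq_add, ← map_add, add_comm (EP.d n y₁), hxy]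
    exact (GrLib.proj_of_mem (ℳ := (EP.X (n + 1)).gr) hed).symm
  exact ⟨⟨w, hwO⟩, hwd, hclw⟩

include hmR hmS hmT in
/-- Every class is attached to a tensor. -/
theorem exists_upr_eq [Nontrivial R] [Nontrivial S] (h0R : 𝒜 0 = Submodule.span k {(1 : R)})
    (h0S : ℬ 0 = Submodule.span k {(1 : S)})
    (hM : ∀ (q : ℕ) (d : ℤ), a + 2 < q → E.Hcomp mR q d = ⊥) (hN : ∀ (q : ℕ) (d : ℤ), b + 2 < q → F.Hcomp mS q d = ⊥)
    (hUg : ∀ n, GrLC.IsGrHom (totX hdegT E F n).gr (EP.X n).gr (U n))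
    (f : (seg hdegT X₀ Y₀).carrier →ₗ[T] P) (hf : Function.Bijective f)
    (hU₀ : ∀ p, U 0 (totε hdegT E F p) = EP.ε (f p))
    (d : ℤ) {x : (HG EP mT (a + b + 1 + 1 + 1)).carrier} (hx : x ∈ (HG EP mT (a + b + 1 + 1 + 1)).gr d) :
    ∃ z, upr (mR := mR) (mS := mS) E F a b z ∈
        GrSeg.segrePiece k (HG E mR (a + 1 + 1)).gr (HG F mS (b + 1 + 1)).gr d ∧
      ncls hdegT E F hmR hmS hmT EP U hUd a b z = x := by
  classical
  obtain ⟨w, hwd, rfl⟩ := exists_totX_cocycle hdegT E F hmR hmS hmT EP U hUd hUg f hf hU₀ (a + b + 1 + 1) d hx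
  let VR : Submodule k (PC E d (a + 1)) := (LinearMap.ker (bd E mR d (a + 1))).comap (bπ E mR d (a + 1))
  let VS : Submodule k (PC F d (b + 1)) := (LinearMap.ker (bd F mS d (b + 1))).comap (bπ F mS d (b + 1))
  have hjR : ∀ v : VR, pInc E d (a + 1) v.1 ∈ ucyc E mR (a + 1) := fun v => by
    show E.d (a + 1) _ ∈ GrLC.gam mR.toIdeal _
    rw [← pInc_pd]
    refine (bπ_eq_zero_iff E mR d _ _).1 ?_
    rw [bπ_comm]
    exact v.2
  have hjS : ∀ v : VS, pInc F d (b + 1) v.1 ∈ ucyc F mS (b + 1) := fun v => by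
    show F.d (b + 1) _ ∈ GrLC.gam mS.toIdeal _
    rw [← pInc_pd]
    refine (bπ_eq_zero_iff F mS d _ _).1 ?_
    rw [bπ_comm]
    exact v.2
  let jR : VR →ₗ[k] ucyc E mR (a + 1) :=
    { toFun := fun v => ⟨pInc E d (a + 1) v.1, hjR v⟩
      map_add' := fun v v' => Subtype.ext (map_add (pInc E d (a + 1)) v.1 v'.1)
      map_smul' := fun c v => Subtype.ext (map_smul (pInc E d (a + 1)) c v.1) }
  let jS : VS →ₗ[k] ucyc F mS (b + 1) :=
    { toFun := fun v => ⟨pInc F d (b + 1) v.1, hjS v⟩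
      map_add' := fun v v' => Subtype.ext (map_add (pInc F d (b + 1)) v.1 v'.1)
      map_smul' := fun c v => Subtype.ext (map_smul (pInc F d (b + 1)) c v.1) }
  have hn : a + 1 + (b + 1) = a + b + 1 + 1 := by omega
  have hinc : ∀ ζ, uinc (mR := mR) (mS := mS) E F a b (TensorProduct.map jR jS ζ) =
      TensorProduct.map (pInc E d (a + 1)) (pInc F d (b + 1)) (TensorProduct.map VR.subtype VS.subtype ζ) := fun ζ => by
    show TensorProduct.map _ _ (TensorProduct.map _ _ ζ) = _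
    rw [TensorProduct.map_map, TensorProduct.map_map]
    rfl
  let W : VR ⊗[k] VS → omega hdegT E F mT (a + b + 1 + 1) := fun ζ =>
    ⟨_, wd_mem_omega hdegT E F hmR hmS hmT a b (TensorProduct.map jR jS ζ)⟩
  have hWd : ∀ ζ, (W ζ).1 ∈ (totX hdegT E F (a + b + 1 + 1)).gr d := fun ζ =>
    wd_mem hdegT E F hn (by rw [hinc]; exact map_pInc_mem E F d _ _ _)
  have hcyc : ∀ v : omega hdegT E F mT (a + b + 1 + 1), v.1 ∈ (totX hdegT E F (a + b + 1 + 1)).gr d →
      totd (bd E mR d) (bd F mS d) (a + b + 1 + 1) ⟨qd hdegT E F d _ v.1, qd_mem hdegT E F d _ v.1⟩ = 0 :=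
    fun v hvd => Subtype.ext (by
      show totD (bd E mR d) (bd F mS d) (qd hdegT E F d _ v.1) = 0
      rw [← qd_totdX]
      exact qd_eq_zero hdegT E F hmR hmS hmT v.2 (totdX_grHom hdegT E F _ d _ hvd))
  obtain ⟨ζ, hζ⟩ := exists_single_cocycle (bd E mR d) (bd F mS d) (bd_bd E mR d) (bd_bd F mS d)
    (n := a + b + 1 + 1) (i₀ := a + 1) (j₀ := b + 1)
    (fun i j hij hne => by
      rcases Nat.lt_trichotomy i (a + 1) with hi | hi | hi
      · obtain ⟨l, rfl⟩ : ∃ l, j = l + 1 := ⟨j - 1, by omega⟩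
        haveI := subsingleton_kerd F mS d h0S (l + 2) (hN (l + 2) d (by omega))
        exact Or.inr (nonempty_bdEquiv_succ F mS d l).some.toEquiv.subsingleton
      · exact absurd (Prod.ext hi (show j = b + 1 by omega)) hne
      · obtain ⟨l, rfl⟩ : ∃ l, i = l + 1 := ⟨i - 1, by omega⟩
        haveI := subsingleton_kerd E mR d h0R (l + 2) (hM (l + 2) d (by omega))
        exact Or.inl (nonempty_bdEquiv_succ E mR d l).some.toEquiv.subsingleton)
    ((bπ E mR d (a + 1)).comp VR.subtype)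
    (fun z hz => by
      obtain ⟨v, rfl⟩ := bπ_surjective E mR d (a + 1) z
      exact ⟨⟨v, hz⟩, rfl⟩)
    ((bπ F mS d (b + 1)).comp VS.subtype)
    (fun z hz => by
      obtain ⟨v, rfl⟩ := bπ_surjective F mS d (b + 1) z
      exact ⟨⟨v, hz⟩, rfl⟩)
    (fun ζ => ⟨qd hdegT E F d _ (W ζ).1, qd_mem hdegT E F d _ (W ζ).1⟩)
    (fun ζ => by
      show qd hdegT E F d _ (wd hdegT E F (a + 1) (b + 1) hn _) (a + 1) (b + 1) = _
      rw [qd_apply, wd_self, hinc, dg_eq_self _ _ (piece_le_segSub _ _ d (map_pInc_mem E F d _ _ _)), map_pq_pInc,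
        TensorProduct.map_map])
    (fun ζ => hcyc (W ζ) (hWd ζ)) ⟨qd hdegT E F d _ w.1, qd_mem hdegT E F d _ w.1⟩ (hcyc w hwd)
  obtain ⟨r, hr⟩ := hζ
  refine ⟨TensorProduct.map jR jS ζ, ?_, ?_⟩
  · clear hr
    induction ζ using TensorProduct.induction_on with
    | zero => rw [map_zero, map_zero]; exact zero_mem _
    | add p q hp hq => rw [map_add, map_add]; exact add_mem hp hq
    | tmul p q =>
      exact Submodule.subset_span ⟨_, ucls_mem E mR (u := jR p) (pInc_mem E d (a + 1) p.1), _,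
        ucls_mem F mS (u := jS q) (pInc_mem F d (b + 1) q.1), rfl⟩
  choose L hL using fun p : TI (a + b + 1) => TensorProduct.map_surjective (bπ_surjective E mR d p.1.1)
    (bπ_surjective F mS d p.1.2) (r.1 p.1.1 p.1.2)
  choose v hv using fun p : TI (a + b + 1) => exists_seg hdegT (E.X p.1.1) (F.X p.1.2)
    (piece_le_segSub _ _ d (map_pInc_mem E F d p.1.1 p.1.2 (L p)))
  obtain ⟨y, hy⟩ := exists_totX hdegT E F v
  have hyd : y ∈ (totX hdegT E F (a + b + 1)).gr d := fun p => by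
    show totπ hdegT E F _ p y ∈ (seg hdegT (E.X p.1.1) (F.X p.1.2)).gr d
    rw [hy, mem_seg_gr, hv]
    exact map_pInc_mem E F d _ _ _
  have hQy : qd hdegT E F d (a + b + 1) y = r.1 := funext fun i => funext fun j => by
    rw [qd_apply]
    by_cases hij : i + j = a + b + 1
    · rw [totEmb_of_eq hdegT E F y hij, hy, show segInc hdegT (E.X i) (F.X j) (v (ti i j hij)) =
        TensorProduct.map (pInc E d i) (pInc F d j) (L (ti i j hij)) from hv (ti i j hij), map_pq_pInc]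
      exact hL (ti i j hij)
    · rw [totEmb_mem hdegT E F _ y i j hij, map_zero, map_zero, r.2 i j hij]
  have hz0 : (w - W ζ).1 - totdX hdegT E F (a + b + 1) y ∈
      GrLC.gam mT.toIdeal (totX hdegT E F (a + b + 1 + 1)).carrier := by
    refine mem_gam_of_qd_eq_zero (d := d) hdegT E F hmR hmS hmT
      (sub_mem (sub_mem hwd (hWd ζ)) (totdX_grHom hdegT E F _ d _ hyd)) ?_
    rw [Submodule.coe_sub, map_sub, map_sub, qd_totdX, hQy]
    exact sub_eq_zero.2 (congrArg Subtype.val hr).symm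
  have h0 := cl_eq_zero hdegT E F mT EP U hUd _ y hz0
  rw [map_sub, sub_eq_zero] at h0
  exact h0.symm

end Groth.Agent.SegreLC
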