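import Mathlib
import Groth.Agent.SegreLC.TopMap

/-! The top local cohomology of a Segre product, as a Segre product. -/

set_option autoImplicit false
set_option linter.unusedSectionVars false
set_option maxHeartbeats 500000
universe u

open DirectSum TensorProduct

namespace Groth.Agent.SegreLC

theorem bijective_of_pieces {T : Type u} [CommRing T] {σ : Type u} [SetLike σ T] [AddSubgroupClass σ T] {𝒯 : ℤ → σ}
    [GradedRing 𝒯] (X Y : GrLC.GMod.{u} 𝒯) (ν : X.carrier →ₗ[T] Y.carrier) (hν : GrLC.IsGrHom X.gr Y.gr ν)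
    (hinj : ∀ d, ∀ x ∈ X.gr d, ν x = 0 → x = 0) (hsurj : ∀ d, ∀ y ∈ Y.gr d, ∃ x ∈ X.gr d, ν x = y) :
    Function.Bijective ν := by
  refine ⟨(injective_iff_map_eq_zero _).2 fun x hx => ?_, fun y => ?_⟩
  · refine (Submodule.mem_bot T).1 (GrLib.mem_of_proj_mem (ℳ := X.gr) (p := (⊥ : Submodule T X.carrier)) fun d => ?_)
    refine (Submodule.mem_bot T).2 (hinj d _ (GrLib.proj_mem X.gr d x) ?_)
    rw [← GrLib.proj_map hν, hx, map_zero]
  · induction y using GrLib.induction Y.gr with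
    | zero => exact ⟨0, map_zero ν⟩
    | add p q hp hq =>
      obtain ⟨p', rfl⟩ := hp
      obtain ⟨q', rfl⟩ := hq
      exact ⟨p' + q', map_add ν p' q'⟩
    | hom d q hq =>
      obtain ⟨x, -, rfl⟩ := hsurj d q hq
      exact ⟨x, rfl⟩

variable {k : Type u} [Field k] {R : Type u} [CommRing R] [Nontrivial R] [Algebra k R] {𝒜 : ℤ → Submodule k R}
  [GradedAlgebra 𝒜] [Algebra.FiniteType k R] (hposR : ∀ n : ℤ, n < 0 → 𝒜 n = ⊥) (h0R : 𝒜 0 = Submodule.span k {(1 : R)})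
  {S : Type u} [CommRing S] [Nontrivial S] [Algebra k S] {ℬ : ℤ → Submodule k S}
  [GradedAlgebra ℬ] [Algebra.FiniteType k S] (hposS : ∀ n : ℤ, n < 0 → ℬ n = ⊥) (h0S : ℬ 0 = Submodule.span k {(1 : S)})
  {T : Type u} [CommRing T] [Algebra k T] {𝒯 : ℤ → Submodule k T} [GradedAlgebra 𝒯] {ψ : T →ₐ[k] R ⊗[k] S}
  (hT : GrSeg.IsSegreRing 𝒜 ℬ 𝒯 ψ)
  {mR : HomogeneousIdeal 𝒜} (hmR : mR.toIdeal = Ideal.span (⋃ n ∈ Set.Ioi (0 : ℤ), (𝒜 n : Set R)))
  {mS : HomogeneousIdeal ℬ} (hmS : mS.toIdeal = Ideal.span (⋃ n ∈ Set.Ioi (0 : ℤ), (ℬ n : Set S)))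
  {mT : HomogeneousIdeal 𝒯} (hmT : mT.toIdeal = Ideal.span (⋃ n ∈ Set.Ioi (0 : ℤ), (𝒯 n : Set T)))
  (X₀ : GrLC.GMod.{u} 𝒜) (E : GrLC.StarInjRes 𝒜 X₀.gr) (Y₀ : GrLC.GMod.{u} ℬ) (F : GrLC.StarInjRes ℬ Y₀.gr)
  {P : Type u} [AddCommGroup P] [Module T P]
  [Module k P] [IsScalarTower k T P] {𝒬 : ℤ → AddSubgroup P} [Decomposition 𝒬] [SetLike.GradedSMul 𝒯 𝒬]
  {φ : P →ₗ[k] X₀.carrier ⊗[k] Y₀.carrier} (hP : GrSeg.IsSegreMod ψ X₀.gr Y₀.gr 𝒬 φ)
  (EP : GrLC.StarInjRes 𝒯 𝒬)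

include h0R in
theorem finite_HG [Module.Finite R X₀.carrier] (hpR : ∀ c : ℤ, c < 0 → ∀ x ∈ 𝒜 c, x = 0)
    (hmR : mR.toIdeal = Ideal.span (⋃ n ∈ Set.Ioi (0 : ℤ), (𝒜 n : Set R))) (q : ℕ) (d : ℤ) :
    Module.Finite k (kpiece (HG E mR q) d) ∧
      Module.finrank k (kpiece (HG E mR q) d) = Module.finrank (GrLC.deg0 𝒜) (E.Hcomp mR q d) := by
  haveI := Algebra.FiniteType.isNoetherianRing k R
  have hc : GrLC.comp 𝒜 (HG E mR q).gr d = E.Hcomp mR q d := SetLike.ext fun _ => Iff.rfl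
  refine ⟨?_, (rank_piece h0R (HG E mR q) d).trans (congrArg (fun p : Submodule (GrLC.deg0 𝒜) _ => Module.finrank (GrLC.deg0 𝒜) p) hc)⟩
  haveI : IsNoetherian (GrLC.deg0 𝒜) (GrLC.comp 𝒜 (HG E mR q).gr d) :=
    hc ▸ GrLib.isNoetherian_Hcomp_irrelevant hpR mR hmR q inferInstance E d
  haveI : Nontrivial (GrLC.deg0 𝒜) := nontrivial_of_ne (0 : GrLC.deg0 𝒜) 1 fun h => zero_ne_one (congrArg Subtype.val h)
  exact Module.rank_lt_aleph0_iff.1 (rank_piece' h0R (HG E mR q) d ▸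
    Module.rank_lt_aleph0 (GrLC.deg0 𝒜) (GrLC.comp 𝒜 (HG E mR q).gr d))

include hposR h0R hposS h0S hT hmR hmS hmT hP in
/-- The top local cohomology of the Segre product is the Segre product of the top local cohomologies. -/
theorem exists_topIso [Module.Finite R X₀.carrier] [Module.Finite S Y₀.carrier] (a b : ℕ)
    (hM : ∀ (q : ℕ) (d : ℤ), a + 2 < q → E.Hcomp mR q d = ⊥)
    (hN : ∀ (q : ℕ) (d : ℤ), b + 2 < q → F.Hcomp mS q d = ⊥) :
    ∃ ν : (seg hT.2 (HG E mR (a + 2)) (HG F mS (b + 2))).carrier →ₗ[T] (HG EP mT (a + b + 3)).carrier,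
      GrLC.IsGrHom (seg hT.2 (HG E mR (a + 2)) (HG F mS (b + 2))).gr (HG EP mT (a + b + 3)).gr ν ∧
        Function.Bijective ν := by
  classical
  haveI := Algebra.FiniteType.isNoetherianRing k R
  haveI := Algebra.FiniteType.isNoetherianRing k S
  haveI := segre_noetherian hT
  haveI : Nontrivial T := ⟨⟨0, 1, fun h => one_ne_zero (α := R ⊗[k] S) (by rw [← map_one ψ, ← h, map_zero])⟩⟩
  obtain ⟨f, hf, hfb⟩ := exists_segIso hT X₀ Y₀ hP
  obtain ⟨U, hUg, hU₀, hUd⟩ := exists_liftTo (totX hT.2 E F) (totdX hT.2 E F) (totdX_grHom hT.2 E F)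
    (totε hT.2 E F) (totε_grHom hT.2 E F) (totε_injective hT.2 E F) (totε_exact hT.2 E F) (totdX_exact hT.2 E F)
    EP f hf
  obtain ⟨ν, hνg, hν⟩ := exists_topMap hT.2 E F hmR hmS hmT EP U hUd a b hUg
  refine ⟨ν, hνg, ?_⟩
  let XS := seg hT.2 (HG E mR (a + 1 + 1)) (HG F mS (b + 1 + 1))
  let HT := HG EP mT (a + b + 1 + 1 + 1)
  have hsurj : ∀ d, ∀ y ∈ HT.gr d, ∃ x ∈ XS.gr d, ν x = y := fun d y hy => by
    obtain ⟨z, hz, rfl⟩ := exists_upr_eq hT.2 E F hmR hmS hmT EP U hUd a b h0R h0S hM hN hUg f hfb hU₀ d hy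
    obtain ⟨w, hw⟩ := exists_seg hT.2 _ _ (piece_le_segSub _ _ d hz)
    refine ⟨w, ?_, hν z w hw⟩
    rw [mem_seg_gr, hw]
    exact hz
  refine bijective_of_pieces XS HT ν hνg (fun d x hx hx0 => ?_) hsurj
  have hpR : ∀ c : ℤ, c < 0 → ∀ x ∈ 𝒜 c, x = 0 := fun c hc x hx => (Submodule.mem_bot k).1 (hposR c hc ▸ hx)
  have hpS : ∀ c : ℤ, c < 0 → ∀ x ∈ ℬ c, x = 0 := fun c hc x hx => (Submodule.mem_bot k).1 (hposS c hc ▸ hx)
  obtain ⟨fR, rR⟩ := finite_HG h0R X₀ E hpR hmR (a + 1 + 1) d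
  obtain ⟨fS, rS⟩ := finite_HG h0S Y₀ F hpS hmS (b + 1 + 1) d
  let K := LinearMap.range (TensorProduct.map (kpiece (HG E mR (a + 1 + 1)) d).subtype
    (kpiece (HG F mS (b + 1 + 1)) d).subtype)
  have hK : ∀ v : kpiece XS d, segInc hT.2 _ _ v.1 ∈ K := fun v => by
    refine (Submodule.span_le (p := K)).2 ?_ (show segInc hT.2 _ _ v.1 ∈ GrSeg.segrePiece k _ _ d from v.2)
    rintro _ ⟨p, hp, q, hq, rfl⟩
    exact ⟨(⟨p, hp⟩ : kpiece (HG E mR (a + 1 + 1)) d) ⊗ₜ[k] (⟨q, hq⟩ : kpiece (HG F mS (b + 1 + 1)) d), rfl⟩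
  let g : kpiece XS d →ₗ[k] K := ((segInc hT.2 _ _).comp (kpiece XS d).subtype).codRestrict K hK
  have hg : Function.Injective g := fun v v' h =>
    Subtype.ext (segInc_injective hT.2 _ _ (congrArg (fun z : K => z.1) h))
  haveI : FiniteDimensional k (kpiece XS d) := Module.Finite.of_injective g hg
  have hle : Module.finrank k (kpiece XS d) ≤ Module.finrank k (kpiece (HG E mR (a + 1 + 1)) d) *
      Module.finrank k (kpiece (HG F mS (b + 1 + 1)) d) :=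
    (LinearMap.finrank_le_finrank_of_injective hg).trans
      ((LinearMap.finrank_range_le _).trans (le_of_eq (Module.finrank_tensorProduct)))
  let νd : kpiece XS d →ₗ[k] kpiece HT d :=
    ((ν.restrictScalars k).comp (kpiece XS d).subtype).codRestrict _ fun v => hνg d v.1 v.2
  have hνd : Function.Surjective νd := fun y => by
    obtain ⟨w, hw, hwy⟩ := hsurj d y.1 y.2
    exact ⟨⟨w, hw⟩, Subtype.ext hwy⟩
  haveI : FiniteDimensional k (kpiece HT d) := Module.Finite.of_surjective νd hνd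
  have htop := finrank_Hcomp_top hposR h0R hposS h0S hT hmR hmS hmT X₀ E Y₀ F hP EP a b hM hN d
  have hT' : Module.finrank k (kpiece HT d) = Module.finrank (GrLC.deg0 𝒯) (EP.Hcomp mT (a + b + 3) d) :=
    (rank_piece (segre_zero h0R h0S hT) HT d).trans
      (congrArg (fun p : Submodule (GrLC.deg0 𝒯) _ => Module.finrank (GrLC.deg0 𝒯) p)
        (show GrLC.comp 𝒯 HT.gr d = EP.Hcomp mT (a + b + 3) d from SetLike.ext fun _ => Iff.rfl))
  have heq : Module.finrank k (kpiece XS d) = Module.finrank k (kpiece HT d) :=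
    le_antisymm (hle.trans (by rw [hT', htop, rR, rS])) (LinearMap.finrank_le_finrank_of_surjective hνd)
  have hinj := (LinearMap.injective_iff_surjective_of_finrank_eq_finrank heq).2 hνd
  exact congrArg Subtype.val ((injective_iff_map_eq_zero νd).1 hinj ⟨x, hx⟩ (Subtype.ext hx0))

end Groth.Agent.SegreLC
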