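import Mathlib
import Groth.Agent.SegreLC.TopIso
import Groth.Agent.SegreLC.CMSegre

/-! The top local cohomology of a Segre ring. -/

set_option autoImplicit false
set_option linter.unusedSectionVars false
universe u

open DirectSum TensorProduct

namespace Groth.Agent.SegreLC

variable {k : Type u} [Field k] {R : Type u} [CommRing R] [Nontrivial R] [Algebra k R] {𝒜 : ℤ → Submodule k R}
  [GradedAlgebra 𝒜] [Algebra.FiniteType k R]
  {S : Type u} [CommRing S] [Nontrivial S] [Algebra k S] {ℬ : ℤ → Submodule k S}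
  [GradedAlgebra ℬ] [Algebra.FiniteType k S]
  {T : Type u} [CommRing T] [Algebra k T] {𝒯 : ℤ → Submodule k T} [GradedAlgebra 𝒯] {ψ : T →ₐ[k] R ⊗[k] S}
  {mR : HomogeneousIdeal 𝒜} {mS : HomogeneousIdeal ℬ} {mT : HomogeneousIdeal 𝒯}

section modules

variable {M : Type u} [AddCommGroup M] [Module R M] [iM : Module k M] [IsScalarTower k R M] {ℳ : ℤ → AddSubgroup M}
  [Decomposition ℳ] [SetLike.GradedSMul 𝒜 ℳ] [Module.Finite R M] (EM : GrLC.StarInjRes 𝒜 ℳ)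
  {N : Type u} [AddCommGroup N] [Module S N] [iN : Module k N] [IsScalarTower k S N] {𝒩 : ℤ → AddSubgroup N}
  [Decomposition 𝒩] [SetLike.GradedSMul ℬ 𝒩] [Module.Finite S N] (EN : GrLC.StarInjRes ℬ 𝒩)
  {P : Type u} [AddCommGroup P] [Module T P] [Module k P] [IsScalarTower k T P] {𝒬 : ℤ → AddSubgroup P}
  [Decomposition 𝒬] [SetLike.GradedSMul 𝒯 𝒬]

/-- The top local cohomology of a Segre product of modules. -/
theorem exists_topIso_mod (hposR : ∀ n : ℤ, n < 0 → 𝒜 n = ⊥) (h0R : 𝒜 0 = Submodule.span k {(1 : R)})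
    (hposS : ∀ n : ℤ, n < 0 → ℬ n = ⊥) (h0S : ℬ 0 = Submodule.span k {(1 : S)}) (hT : GrSeg.IsSegreRing 𝒜 ℬ 𝒯 ψ)
    (hmR : mR.toIdeal = Ideal.span (⋃ n ∈ Set.Ioi (0 : ℤ), (𝒜 n : Set R)))
    (hmS : mS.toIdeal = Ideal.span (⋃ n ∈ Set.Ioi (0 : ℤ), (ℬ n : Set S)))
    (hmT : mT.toIdeal = Ideal.span (⋃ n ∈ Set.Ioi (0 : ℤ), (𝒯 n : Set T)))
    (φ : P →ₗ[k] M ⊗[k] N) (hP : GrSeg.IsSegreMod ψ ℳ 𝒩 𝒬 φ) (EP : GrLC.StarInjRes 𝒯 𝒬) (a b : ℕ)
    (hM : ∀ (q : ℕ) (d : ℤ), a + 2 < q → EM.Hcomp mR q d = ⊥) (hN : ∀ (q : ℕ) (d : ℤ), b + 2 < q → EN.Hcomp mS q d = ⊥) :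
    ∃ ν : (seg hT.2 (HG EM mR (a + 2)) (HG EN mS (b + 2))).carrier →ₗ[T] (HG EP mT (a + b + 3)).carrier,
      GrLC.IsGrHom (seg hT.2 (HG EM mR (a + 2)) (HG EN mS (b + 2))).gr (HG EP mT (a + b + 3)).gr ν ∧
        Function.Bijective ν := by
  obtain rfl : iM = (gmodModule (GrLC.GMod.of 𝒜 M ℳ) : Module k M) :=
    Module.ext (funext₂ fun c m => (algebraMap_smul R c m).symm)
  obtain rfl : iN = (gmodModule (GrLC.GMod.of ℬ N 𝒩) : Module k N) :=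
    Module.ext (funext₂ fun c m => (algebraMap_smul S c m).symm)
  haveI : Module.Finite R (GrLC.GMod.of 𝒜 M ℳ).carrier := ‹Module.Finite R M›
  haveI : Module.Finite S (GrLC.GMod.of ℬ N 𝒩).carrier := ‹Module.Finite S N›
  exact exists_topIso hposR h0R hposS h0S hT hmR hmS hmT (GrLC.GMod.of 𝒜 M ℳ) EM (GrLC.GMod.of ℬ N 𝒩) EN
    hP EP a b hM hN

end modules

/-- The top local cohomology of a Segre ring. -/
theorem exists_topIso_ring (hposR : ∀ n : ℤ, n < 0 → 𝒜 n = ⊥) (h0R : 𝒜 0 = Submodule.span k {(1 : R)})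
    (hposS : ∀ n : ℤ, n < 0 → ℬ n = ⊥) (h0S : ℬ 0 = Submodule.span k {(1 : S)}) (hT : GrSeg.IsSegreRing 𝒜 ℬ 𝒯 ψ)
    (hmR : mR.toIdeal = Ideal.span (⋃ n ∈ Set.Ioi (0 : ℤ), (𝒜 n : Set R)))
    (hmS : mS.toIdeal = Ideal.span (⋃ n ∈ Set.Ioi (0 : ℤ), (ℬ n : Set S)))
    (hmT : mT.toIdeal = Ideal.span (⋃ n ∈ Set.Ioi (0 : ℤ), (𝒯 n : Set T)))
    (I : GrLC.StarInjRes 𝒜 𝒜) (J : GrLC.StarInjRes ℬ ℬ) (IT : GrLC.StarInjRes 𝒯 𝒯) {r s : ℕ}
    (hr : ringKrullDim R = r) (hs : ringKrullDim S = s) (h2r : 2 ≤ r) (h2s : 2 ≤ s) :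
    ∃ ν : (seg hT.2 (HG I mR r) (HG J mS s)).carrier →ₗ[T] (HG IT mT (r + s - 1)).carrier,
      GrLC.IsGrHom (seg hT.2 (HG I mR r) (HG J mS s)).gr (HG IT mT (r + s - 1)).gr ν ∧ Function.Bijective ν := by
  obtain ⟨a, rfl⟩ : ∃ a, r = a + 2 := ⟨r - 2, by omega⟩
  obtain ⟨b, rfl⟩ : ∃ b, s = b + 2 := ⟨s - 2, by omega⟩
  rw [show a + 2 + (b + 2) - 1 = a + b + 3 by omega]
  haveI := Algebra.FiniteType.isNoetherianRing k R
  haveI := Algebra.FiniteType.isNoetherianRing k S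
  haveI := segre_noetherian hT
  have hP : GrSeg.IsSegreMod ψ (agGr 𝒜) (agGr ℬ) (agGr 𝒯) ψ.toLinearMap := {
    injective := hT.1
    image_piece := fun n => congrArg SetLike.coe (hT.2 n)
    map_smul := fun t p => by
      rw [SegreDim.act_eq_mul]
      exact map_mul ψ t p }
  exact exists_topIso_mod (agRes I) (agRes J) hposR h0R hposS h0S hT hmR hmS hmT ψ.toLinearMap hP (agRes IT) a b
    (fun q d hq => (subsingleton_H_iff (agRes I) mR q).1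
      (LocCoh.subsingleton_H_of_supportDim_lt (by rw [Module.supportDim_self_eq_ringKrullDim, hr]; exact_mod_cast hq)) d)
    (fun q d hq => (subsingleton_H_iff (agRes J) mS q).1
      (LocCoh.subsingleton_H_of_supportDim_lt (by rw [Module.supportDim_self_eq_ringKrullDim, hs]; exact_mod_cast hq)) d)

end Groth.Agent.SegreLC
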