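import Mathlib
import Groth.Agent.SegreLC.TopRing
import Groth.Agent.SegreLC.CanonSegAux
import Groth.Agent.SegreLC.GorConv
import Groth.Agent.GrLib.RegPoly
import Groth.Agent.SegreDim.DimOneSegre
import Groth.Agent.SegreDim.Segre

/-! Segre products of hulls, and maps of Segre products of a given degree. -/

set_option autoImplicit false
set_option linter.unusedSectionVars false
set_option maxHeartbeats 500000
universe u

open DirectSum TensorProduct

namespace Groth.Agent.SegreLC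

/-- The inverse of a homogeneous bijection of graded modules is homogeneous. -/
theorem symm_grHomDeg {R : Type u} [CommRing R] {M N : Type u} [AddCommGroup M] [Module R M] [AddCommGroup N]
    [Module R N] {ℳ : ℤ → AddSubgroup M} [Decomposition ℳ] {𝒩 : ℤ → AddSubgroup N} [Decomposition 𝒩]
    (φ : M ≃ₗ[R] N) {g : ℤ} (hφ : GrLC.IsGrHomDeg ℳ 𝒩 φ.toLinearMap g) :
    GrLC.IsGrHomDeg 𝒩 ℳ φ.symm.toLinearMap (-g) := by
  intro d x hx
  have key : ∀ y : M, φ (GrLib.proj ℳ (d + -g) y) = GrLib.proj 𝒩 d (φ y) := fun y => by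
    induction y using GrLib.induction ℳ with
    | zero => simp only [map_zero]
    | add a b ha hb => simp only [map_add, ha, hb]
    | hom i y hy =>
      by_cases h : i = d + -g
      · subst h
        have h' : φ y ∈ 𝒩 d := by
          have := hφ _ y hy
          rwa [show d + -g + g = d by ring] at this
        rw [GrLib.proj_of_mem hy, GrLib.proj_of_mem h']
      · rw [GrLib.proj_of_mem_ne hy h, map_zero,
          GrLib.proj_of_mem_ne (show φ y ∈ 𝒩 (i + g) from hφ i y hy) (fun e => h (by omega))]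
  have h1 := key (φ.symm x)
  rw [φ.apply_symm_apply, GrLib.proj_of_mem hx] at h1
  have h2 := φ.injective (h1.trans (φ.apply_symm_apply x).symm)
  show φ.symm x ∈ ℳ (d + -g)
  rw [← h2]
  exact GrLib.proj_mem ℳ _ _

variable {k : Type u} [Field k] {R : Type u} [CommRing R] [Algebra k R] {𝒜 : ℤ → Submodule k R} [GradedAlgebra 𝒜]
  {S : Type u} [CommRing S] [Algebra k S] {ℬ : ℤ → Submodule k S} [GradedAlgebra ℬ]
  {T : Type u} [CommRing T] [Algebra k T] {𝒯 : ℤ → Submodule k T} [GradedAlgebra 𝒯]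
  {ψ : T →ₐ[k] R ⊗[k] S} (hdegT : ∀ n : ℤ, (𝒯 n).map ψ.toLinearMap = GrSeg.segrePiece k 𝒜 ℬ n)

section deg

variable {X X' : GrLC.GMod.{u} 𝒜} {Y Y' : GrLC.GMod.{u} ℬ} (f : X.carrier →ₗ[R] X'.carrier)
  (f' : Y.carrier →ₗ[S] Y'.carrier) {g : ℤ} (hf : GrLC.IsGrHomDeg X.gr X'.gr f g)
  (hf' : GrLC.IsGrHomDeg Y.gr Y'.gr f' g)

include hf hf' in
theorem map_mem_piece_deg {n : ℤ} {w : X.carrier ⊗[k] Y.carrier} (hw : w ∈ GrSeg.segrePiece k X.gr Y.gr n) :
    TensorProduct.map (f.restrictScalars k) (f'.restrictScalars k) w ∈ GrSeg.segrePiece k X'.gr Y'.gr (n + g) := by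
  induction hw using Submodule.span_induction with
  | mem w hw =>
    obtain ⟨a, ha, b, hb, rfl⟩ := hw
    exact Submodule.subset_span ⟨f a, hf n a ha, f' b, hf' n b hb, rfl⟩
  | zero => simp
  | add p q _ _ hp hq => rw [map_add]; exact add_mem hp hq
  | smul c p _ hp => rw [map_smul]; exact Submodule.smul_mem _ c hp

include hf hf' in
/-- The Segre product of two maps of the same degree. -/
theorem exists_segMapDeg : ∃ F : (seg hdegT X Y).carrier →ₗ[T] (seg hdegT X' Y').carrier,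
    GrLC.IsGrHomDeg (seg hdegT X Y).gr (seg hdegT X' Y').gr F g ∧
      ∀ w, segInc hdegT X' Y' (F w) =
        TensorProduct.map (f.restrictScalars k) (f'.restrictScalars k) (segInc hdegT X Y w) := by
  have hmem : ∀ w : (seg hdegT X Y).carrier,
      TensorProduct.map (f.restrictScalars k) (f'.restrictScalars k) (segInc hdegT X Y w) ∈ segSub X' Y' := fun w => by
    refine Submodule.iSup_induction _
      (motive := fun w => TensorProduct.map (f.restrictScalars k) (f'.restrictScalars k) w ∈ segSub X' Y')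
      (segInc_mem hdegT X Y w) ?_ ?_ ?_
    · intro n x hx; exact piece_le_segSub X' Y' (n + g) (map_mem_piece_deg f f' hf hf' hx)
    · rw [map_zero]; exact zero_mem _
    · intro x y hx hy; rw [map_add]; exact add_mem hx hy
  choose F hF using fun w => exists_seg hdegT X' Y' (hmem w)
  refine ⟨{ toFun := F, map_add' := fun a b => segInc_injective hdegT X' Y' ?_,
            map_smul' := fun t a => segInc_injective hdegT X' Y' ?_ }, fun n w hw => ?_, hF⟩
  · rw [map_add, hF, hF, hF, map_add, map_add]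
  · rw [RingHom.id_apply, segInc_smul, hF, hF, segInc_smul]
    exact map_act' f f' (ψ t) _
  · show segInc hdegT X' Y' (F w) ∈ GrSeg.segrePiece k X'.gr Y'.gr (n + g)
    rw [hF]
    exact map_mem_piece_deg f f' hf hf' hw

theorem injective_of_segInc {F : (seg hdegT X Y).carrier →ₗ[T] (seg hdegT X' Y').carrier}
    (hF : ∀ w, segInc hdegT X' Y' (F w) =
      TensorProduct.map (f.restrictScalars k) (f'.restrictScalars k) (segInc hdegT X Y w))
    (hfi : Function.Injective f) (hfi' : Function.Injective f') : Function.Injective F := fun a b h =>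
  segInc_injective hdegT X Y (tensorMap_injective (f := f.restrictScalars k) (g := f'.restrictScalars k) hfi hfi'
    (by rw [← hF, ← hF, h]))

end deg

/-- The Segre product of two isomorphisms of the same degree. -/
theorem exists_segEquivDeg {X X' : GrLC.GMod.{u} 𝒜} {Y Y' : GrLC.GMod.{u} ℬ} (α : X.carrier ≃ₗ[R] X'.carrier)
    (β : Y.carrier ≃ₗ[S] Y'.carrier) {g : ℤ} (hα : GrLC.IsGrHomDeg X.gr X'.gr α.toLinearMap g)
    (hβ : GrLC.IsGrHomDeg Y.gr Y'.gr β.toLinearMap g) :
    ∃ e : (seg hdegT X Y).carrier ≃ₗ[T] (seg hdegT X' Y').carrier,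
      GrLC.IsGrHomDeg (seg hdegT X Y).gr (seg hdegT X' Y').gr e.toLinearMap g := by
  obtain ⟨F, hF, hFi⟩ := exists_segMapDeg hdegT α.toLinearMap β.toLinearMap hα hβ
  obtain ⟨G, -, hGi⟩ := exists_segMapDeg hdegT α.symm.toLinearMap β.symm.toLinearMap (symm_grHomDeg α hα)
    (symm_grHomDeg β hβ)
  have hinj := injective_of_segInc hdegT α.toLinearMap β.toLinearMap hFi α.injective β.injective
  refine ⟨LinearEquiv.ofBijective F ⟨hinj, fun w => ⟨G w, segInc_injective hdegT X' Y' ?_⟩⟩, hF⟩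
  rw [hFi, hGi, TensorProduct.map_map]
  have h1 : (α.toLinearMap.restrictScalars k).comp (α.symm.toLinearMap.restrictScalars k) = LinearMap.id :=
    LinearMap.ext fun x => α.apply_symm_apply x
  have h2 : (β.toLinearMap.restrictScalars k).comp (β.symm.toLinearMap.restrictScalars k) = LinearMap.id :=
    LinearMap.ext fun x => β.apply_symm_apply x
  rw [h1, h2, TensorProduct.map_id]
  rfl

section hull

variable [Nontrivial R] [IsNoetherianRing R] (hposR : ∀ n : ℤ, n < 0 → 𝒜 n = ⊥)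
  (h0R : 𝒜 0 = Submodule.span k {(1 : R)})
  {mR : HomogeneousIdeal 𝒜} (hmR : mR.toIdeal = Ideal.span (⋃ n ∈ Set.Ioi (0 : ℤ), (𝒜 n : Set R)))
  {XE : GrLC.GMod.{u} 𝒜} {eR : (R ⧸ mR.toIdeal) →ₗ[R] XE.carrier}
  (heR : GrLC.IsStarInjHull 𝒜 (GrLC.quotGr 𝒜 mR) XE.gr eR)

include hposR hmR heR in
/-- The hull lives in nonpositive degrees. -/
theorem hull_gr_pos {n : ℤ} (hn : 0 < n) {y : XE.carrier} (hy : y ∈ XE.gr n) : y = 0 := by
  by_contra hy0
  obtain ⟨a, r, hr, hr0, hag, -⟩ := exists_smul_socle heR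
    (fun c hc x hx => (Submodule.mem_bot k).1 (hposR c hc ▸ hx)) (fun c hc x hx => mem_of_pos hmR hc hx) hy hy0
  refine hr0 ?_
  have : r ∈ 𝒜 a := hr
  rw [hposR a (by omega)] at this
  rw [(Submodule.mem_bot k).1 this, zero_smul]

include hposR hmR heR in
/-- The end of a shift of the hull. -/
theorem endDeg_of_hull_shift {H : GrLC.GMod.{u} 𝒜} (φ : H.carrier ≃ₗ[R] XE.carrier) {g : ℤ}
    (hφ : GrLC.IsGrHomDeg H.gr XE.gr φ.toLinearMap g) :
    GrLC.endDeg H.gr = (((-g : ℤ) : WithTop ℤ) : WithBot (WithTop ℤ)) := by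
  refine le_antisymm ((GrLib.endDeg_le_int _ _).2 fun n hn y hy => φ.map_eq_zero_iff.1 ?_) ?_
  · exact hull_gr_pos hposR hmR heR (show 0 < n + g by omega) (hφ n y hy)
  · have hmem := symm_grHomDeg φ hφ 0 _ (socle_mem XE heR)
    rw [zero_add] at hmem
    refine le_iSup₂ (f := fun (m : ℤ) (_ : H.gr m ≠ ⊥) => ((m : WithTop ℤ) : WithBot (WithTop ℤ))) (-g) fun h => ?_
    refine socle_ne_zero XE heR (top_ne_of_irrelevant hposR hmR) (φ.symm.map_eq_zero_iff.1 ?_)
    exact (AddSubgroup.eq_bot_iff_forall _).1 h _ hmem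

variable [Nontrivial S] [IsNoetherianRing S] (hposS : ∀ n : ℤ, n < 0 → ℬ n = ⊥)
  (h0S : ℬ 0 = Submodule.span k {(1 : S)})
  {mS : HomogeneousIdeal ℬ} (hmS : mS.toIdeal = Ideal.span (⋃ n ∈ Set.Ioi (0 : ℤ), (ℬ n : Set S)))
  {YE : GrLC.GMod.{u} ℬ} {eS : (S ⧸ mS.toIdeal) →ₗ[S] YE.carrier}
  (heS : GrLC.IsStarInjHull ℬ (GrLC.quotGr ℬ mS) YE.gr eS)
  [Nontrivial T] [IsNoetherianRing T] (hposT : ∀ n : ℤ, n < 0 → 𝒯 n = ⊥)
  (h0T : 𝒯 0 = Submodule.span k {(1 : T)})
  {mT : HomogeneousIdeal 𝒯} (hmT : mT.toIdeal = Ideal.span (⋃ n ∈ Set.Ioi (0 : ℤ), (𝒯 n : Set T)))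
  {ZE : GrLC.GMod.{u} 𝒯} {eT : (T ⧸ mT.toIdeal) →ₗ[T] ZE.carrier}
  (heT : GrLC.IsStarInjHull 𝒯 (GrLC.quotGr 𝒯 mT) ZE.gr eT)

include hposR h0R hposS h0S hposT h0T hmR hmS hmT heR heS heT in
/-- The Segre product of the hulls is the hull. -/
theorem exists_hullSeg (hψ : Function.Injective ψ) :
    ∃ θ : (seg hdegT XE YE).carrier ≃ₗ[T] ZE.carrier,
      GrLC.IsGrHomDeg (seg hdegT XE YE).gr ZE.gr θ.toLinearMap 0 := by
  have hP : GrSeg.IsSegreMod ψ (agGr 𝒜) (agGr ℬ) (agGr 𝒯) ψ.toLinearMap := {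
    injective := hψ
    image_piece := fun n => congrArg SetLike.coe (hdegT n)
    map_smul := fun t p => by
      rw [SegreDim.act_eq_mul]
      exact map_mul ψ t p }
  obtain ⟨θ, hθ⟩ := exists_canonSegAux hdegT hposR h0R hposS h0S hposT h0T hmR hmS hmT eR heR eS heS eT heT
    (HR := XE) (LinearMap.ringLmapEquivSelf R R XE.carrier)
    (fun d f hf => by
      have := hf 0 1 (SetLike.one_mem_graded 𝒜)
      rw [zero_add] at this
      exact this)
    (HS := YE) (LinearMap.ringLmapEquivSelf S S YE.carrier)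
    (fun d f hf => by
      have := hf 0 1 (SetLike.one_mem_graded ℬ)
      rw [zero_add] at this
      exact this) hP
  let e := θ.trans (LinearMap.ringLmapEquivSelf T T ZE.carrier)
  have hsymm : GrLC.IsGrHomDeg ZE.gr (seg hdegT XE YE).gr e.symm.toLinearMap 0 := fun d y hy => by
    rw [add_zero]
    show θ.symm ((LinearMap.ringLmapEquivSelf T T ZE.carrier).symm y) ∈ (seg hdegT XE YE).gr d
    refine hθ _ d fun i t ht => ?_
    show ((LinearMap.ringLmapEquivSelf T T ZE.carrier).symm y) t ∈ ZE.gr (i + d)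
    rw [LinearMap.ringLmapEquivSelf_symm_apply]
    exact GrLib.smul_mem (ℳ := ZE.gr) (show t ∈ 𝒯 i from ht) hy
  refine ⟨e, ?_⟩
  have := symm_grHomDeg e.symm hsymm
  rwa [neg_zero] at this

end hull

end Groth.Agent.SegreLC
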