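import Mathlib
import Groth.Agent.SegreLC.TopMapBase
import Groth.Agent.SegreLC.CMSegre
import Groth.Agent.SegreLC.StdPiece

/-! Pieces of the top local cohomology of a standard graded Cohen–Macaulay ring below the top degree. -/

set_option autoImplicit false
set_option linter.unusedSectionVars false
set_option maxHeartbeats 500000
universe u

open DirectSum

namespace Groth.Agent.SegreLC

variable {k : Type u} [Field k] {S : Type u} [CommRing S] [Algebra k S] {ℬ : ℤ → Submodule k S} [GradedAlgebra ℬ]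
  [Algebra.FiniteType k S] (hpos : ∀ n : ℤ, n < 0 → ℬ n = ⊥) (h0 : ℬ 0 = Submodule.span k {(1 : S)})
  (hstd : Ideal.span (⋃ n ∈ Set.Ioi (0 : ℤ), (ℬ n : Set S)) = Ideal.span ((ℬ 1 : Submodule k S) : Set S))

include hpos h0 hstd in
/-- A prime containing a hyperplane of a positive piece has quotient of dimension at most one. -/
theorem ringKrullDim_quotient_le_one [Nontrivial S] {d : ℕ} (hd : 0 < d) (W : Submodule k S) (hW : W ≤ ℬ (d : ℤ))
    (m : S) (hm : m ∈ ℬ (d : ℤ)) (hdW : ∀ x ∈ ℬ (d : ℤ), x ∈ W ⊔ Submodule.span k {m})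
    (P : Ideal S) [P.IsPrime] (hP : ∀ w ∈ W, w ∈ P) : ringKrullDim (S ⧸ P) ≤ 1 := by
  classical
  haveI := Algebra.FiniteType.isNoetherianRing k S
  obtain ⟨t, htW, htspan⟩ := (Submodule.fg_span_iff_fg_span_finset_subset (W : Set S)).1
    (IsNoetherian.noetherian (Ideal.span (W : Set S)))
  let l := t.toList
  let y : Fin (l.length + 1) → S := Fin.cons m fun i => l.get i
  have hy : ∀ i, 0 < d ∧ y i ∈ ℬ (d : ℤ) := fun i => ⟨hd, by
    refine Fin.cases ?_ (fun j => ?_) i
    · exact hm
    · exact hW (htW (Finset.mem_toList.1 (List.get_mem l j)))⟩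
  have hrad : SegreDim.irr ℬ ≤ (Ideal.span (Set.range y)).radical := by
    rw [show SegreDim.irr ℬ = Ideal.span ((ℬ 1 : Submodule k S) : Set S) from hstd, Ideal.span_le]
    intro x hx
    refine ⟨d, ?_⟩
    have hxd : x ^ d ∈ ℬ (d : ℤ) := by
      have := SetLike.pow_mem_graded (A := ℬ) d hx
      rwa [nsmul_eq_mul, mul_one] at this
    obtain ⟨w, hw, z, hz, hwz⟩ := Submodule.mem_sup.1 (hdW _ hxd)
    obtain ⟨c, rfl⟩ := Submodule.mem_span_singleton.1 hz
    rw [← hwz]
    refine add_mem ?_ ?_
    · have hw' : w ∈ Ideal.span (t : Set S) := by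
        have e : Ideal.span (t : Set S) = Ideal.span (W : Set S) := htspan.symm
        rw [e]
        exact Ideal.subset_span hw
      refine Ideal.span_mono ?_ hw'
      intro z hz
      obtain ⟨j, hj⟩ := List.mem_iff_get.1 (Finset.mem_toList.2 hz)
      exact ⟨j.succ, (Fin.cons_succ _ _ _).trans hj⟩
    · rw [Algebra.smul_def]
      exact Ideal.mul_mem_left _ _ (Ideal.subset_span ⟨0, rfl⟩)
  have hfin := SegreDim.finite_of_radical ℬ hpos h0 y (fun _ => d) hy hrad
  let ε : MvPolynomial (Fin (l.length + 1)) k →ₐ[k] Polynomial k :=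
    MvPolynomial.aeval (Fin.cons Polynomial.X fun _ => 0)
  let g : Polynomial k →ₐ[k] S ⧸ P := Polynomial.aeval (Ideal.Quotient.mk P m)
  have hcomp : (Ideal.Quotient.mkₐ k P).comp (MvPolynomial.aeval y) = g.comp ε := MvPolynomial.algHom_ext fun i => by
    rw [AlgHom.comp_apply, AlgHom.comp_apply, MvPolynomial.aeval_X, MvPolynomial.aeval_X]
    refine Fin.cases ?_ (fun j => ?_) i
    · simp [y, g]
    · simp only [y, Fin.cons_succ, map_zero]
      exact Ideal.Quotient.eq_zero_iff_mem.2 (hP _ (htW (Finset.mem_toList.1 (List.get_mem l j))))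
  have hfin2 : ((g.comp ε).toRingHom).Finite := by
    rw [← hcomp]
    exact RingHom.Finite.comp (RingHom.Finite.of_surjective _ Ideal.Quotient.mk_surjective) hfin
  have hgfin : g.toRingHom.Finite := RingHom.Finite.of_comp_finite (f := ε.toRingHom) (g := g.toRingHom) hfin2
  haveI : Algebra.IsIntegral g.range (S ⧸ P) := by
    constructor
    intro x
    obtain ⟨p, hp, hpx⟩ := hgfin.to_isIntegral x
    refine ⟨p.map g.rangeRestrict.toRingHom, hp.map _, ?_⟩
    rw [Polynomial.eval₂_map]; exact hpx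
  refine (DimLib.ringKrullDim_eq_of_isIntegral (R := g.range) (S := S ⧸ P) Subtype.val_injective).ge.trans ?_
  refine (ringKrullDim_le_of_surjective g.rangeRestrict.toRingHom g.rangeRestrict_surjective).trans (le_of_eq ?_)
  rw [Polynomial.ringKrullDim_of_isNoetherianRing, ringKrullDim_eq_zero_of_field, zero_add]

include hpos h0 hstd in
/-- Below the top degree the pieces of the top local cohomology are not lines. -/
theorem not_line [LocCoh.IsCohenMacaulayRing S] {s : ℕ} (hs : ringKrullDim S = s) (h2s : 2 ≤ s)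
    (mS : HomogeneousIdeal ℬ) (J : GrLC.StarInjRes ℬ ℬ) {a b : ℤ} (hab : a < b)
    {y : (HG J mS s).carrier} (hy : y ∈ (HG J mS s).gr b) (hy0 : y ≠ 0)
    (q : (HG J mS s).carrier) (hq : ∀ x ∈ (HG J mS s).gr a, x ∈ Submodule.span k {q}) : False := by
  classical
  haveI : Nontrivial S := not_subsingleton_iff_nontrivial.1 fun _ => by
    rw [ringKrullDim_eq_bot_of_subsingleton] at hs; exact WithBot.bot_ne_natCast s hs
  haveI := Algebra.FiniteType.isNoetherianRing k S
  obtain ⟨d, rfl⟩ : ∃ d : ℕ, b = a + (d : ℤ) := ⟨(b - a).toNat, by omega⟩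
  have hd : 0 < d := by omega
  obtain ⟨lam, hlam⟩ := (LinearMap.toSpanSingleton k _ y).exists_leftInverse_of_injective
    (LinearMap.ker_toSpanSingleton k hy0)
  let L : (HG J mS s).carrier →ₗ[k] k := lam.comp (SegreDim.pieceProj ℬ (HG J mS s).gr (a + d))
  have hL : L y = 1 := by
    show lam (GrLib.proj (HG J mS s).gr (a + d) y) = 1
    rw [GrLib.proj_of_mem hy]
    have := LinearMap.congr_fun hlam 1
    rwa [LinearMap.comp_apply, LinearMap.toSpanSingleton_apply, one_smul] at this
  have hL0 : ∀ i (z : (HG J mS s).carrier), z ∈ (HG J mS s).gr i → i ≠ a + d → L z = 0 := fun i z hz hi => by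
    show lam (GrLib.proj (HG J mS s).gr (a + d) z) = 0
    rw [GrLib.proj_of_mem_ne hz hi, map_zero]
  let μ : S →ₗ[k] k :=
    L.comp ((LinearMap.toSpanSingleton S (HG J mS s).carrier q).restrictScalars k)
  let W : Submodule k S := ℬ (d : ℤ) ⊓ LinearMap.ker μ
  obtain ⟨m, hm, hdW⟩ : ∃ m ∈ ℬ (d : ℤ), ∀ x ∈ ℬ (d : ℤ), x ∈ W ⊔ Submodule.span k {m} := by
    by_cases h : ∀ x ∈ ℬ (d : ℤ), μ x = 0
    · exact ⟨0, zero_mem _, fun x hx => Submodule.mem_sup_left ⟨hx, h x hx⟩⟩
    push Not at h
    obtain ⟨m, hm, hm0⟩ := h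
    refine ⟨m, hm, fun x hx => ?_⟩
    rw [show x = (x - (μ x / μ m) • m) + (μ x / μ m) • m by abel]
    refine Submodule.add_mem_sup ⟨sub_mem hx (Submodule.smul_mem _ _ hm), ?_⟩
      (Submodule.smul_mem _ _ (Submodule.mem_span_singleton_self m))
    show μ (x - (μ x / μ m) • m) = 0
    rw [map_sub, map_smul, smul_eq_mul, div_mul_cancel₀ _ hm0, sub_self]
  have hkill : ∀ w ∈ W, ∀ z : (HG J mS s).carrier, L (w • z) = 0 := fun w hw z => by
    induction z using GrLib.induction (HG J mS s).gr with
    | zero => rw [smul_zero, map_zero]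
    | add p r hp hr => rw [smul_add, map_add, hp, hr, add_zero]
    | hom i z hz =>
      by_cases hi : i = a
      · subst hi
        obtain ⟨c, rfl⟩ := Submodule.mem_span_singleton.1 (hq z hz)
        rw [smul_comm, map_smul]
        exact smul_eq_zero_of_right c (show L (w • q) = 0 from hw.2)
      · exact hL0 _ _ (GrLib.smul_mem (ℳ := (HG J mS s).gr) (show w ∈ ℬ (d : ℤ) from hw.1) hz) (by omega)
  let Jd : Ideal S := Ideal.span (W : Set S)
  have hfin : (minimalPrimes S).Finite := minimalPrimes.finite_of_isNoetherianRing S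
  obtain ⟨f, hfJ, hf⟩ : ∃ f ∈ Jd, ∀ P ∈ minimalPrimes S, f ∉ P := by
    by_contra hcon
    push Not at hcon
    have hsub : (Jd : Set S) ⊆ ⋃ P ∈ (↑hfin.toFinset : Set (Ideal S)), ((id P : Ideal S) : Set S) := fun f hf => by
      obtain ⟨P, hP, hfP⟩ := hcon f hf
      exact Set.mem_iUnion₂.2 ⟨P, hfin.mem_toFinset.2 hP, hfP⟩
    obtain ⟨P, hP, hle⟩ := (Ideal.subset_union_prime (f := id) ⊥ ⊥ fun P hP _ _ =>
      Ideal.minimalPrimes_isPrime (hfin.mem_toFinset.1 hP)).1 hsub
    have hP' : P ∈ minimalPrimes S := hfin.mem_toFinset.1 hP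
    haveI := Ideal.minimalPrimes_isPrime hP'
    have hle1 := ringKrullDim_quotient_le_one hpos h0 hstd hd W inf_le_left m hm hdW P
      fun w hw => hle (Ideal.subset_span hw)
    have hann : Module.annihilator S S = ⊥ := Module.annihilator_eq_bot.mpr inferInstance
    have hass := Module.associatedPrimes.minimalPrimes_annihilator_subset_associatedPrimes S S
      (show P ∈ (Module.annihilator S S).minimalPrimes from hann.symm ▸ hP')
    have hdim := SegreDim.ringKrullDim_quotient_eq_supportDim_of_cm ℬ hpos h0 (agGr ℬ) (M := S)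
      (cmRing_iff.1 inferInstance).2 hass
    rw [Module.supportDim_self_eq_ringKrullDim, hs] at hdim
    rw [hdim] at hle1
    have : s ≤ 1 := by exact_mod_cast hle1
    omega
  have hle : Module.supportDim S S ≤ s := le_of_eq (by rw [Module.supportDim_self_eq_ringKrullDim, hs])
  have hlt : Module.supportDim S (QuotSMulTop f S) < s := by
    have hann : Module.annihilator S S = ⊥ := Module.annihilator_eq_bot.mpr inferInstance
    have h1 := Module.supportDim_quotSMulTop_succ_le_of_notMem_minimalPrimes (M := S) (x := f)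
      (fun p hp => hf p (by rw [hann] at hp; exact hp))
    rw [Module.supportDim_self_eq_ringKrullDim, hs] at h1
    generalize Module.supportDim S (QuotSMulTop f S) = D at h1 ⊢
    induction D with
    | bot => exact WithBot.bot_lt_coe _
    | coe D =>
      have h2 : D + 1 ≤ (s : ℕ∞) := by exact_mod_cast h1
      exact_mod_cast ENat.add_one_le_iff (ENat.coe_ne_top s |> fun h => ne_top_of_le_ne_top h (le_self_add.trans h2)) |>.1 h2
  obtain ⟨eH⟩ := GrLib.nonempty_H_equiv J mS s
  obtain ⟨z, hz⟩ := LocCoh.smul_H_surjective (I := mS.toIdeal) (M := S) f hle hlt (eH y)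
  have hyz : f • eH.symm z = y := eH.injective (by rw [map_smul, eH.apply_symm_apply]; exact hz)
  have hfkill : ∀ g ∈ Jd, ∀ u : (HG J mS s).carrier, L (g • u) = 0 := fun g hg => by
    induction hg using Submodule.span_induction with
    | mem w hw => exact hkill w hw
    | zero => intro u; rw [zero_smul, map_zero]
    | add p r _ _ hp hr => intro u; rw [add_smul, map_add, hp, hr, add_zero]
    | smul c p _ hp => intro u; rw [smul_eq_mul, mul_comm, mul_smul, hp]
  have h1 := hfkill f hfJ (eH.symm z)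
  rw [show L (f • (show (HG J mS s).carrier from eH.symm z)) = L y from congrArg L hyz, hL] at h1
  exact one_ne_zero h1

end Groth.Agent.SegreLC
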