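import Mathlib
import Groth.Agent.SegreLC.SegreGor
import Groth.Agent.SegreLC.SocleLine

/-! Factors of a Segre product with a simple socle. -/

set_option autoImplicit false
set_option linter.unusedSectionVars false
set_option maxHeartbeats 500000
universe u

open DirectSum TensorProduct

namespace Groth.Agent.SegreLC

variable {k : Type u} [Field k] {R : Type u} [CommRing R] [Algebra k R] {𝒜 : ℤ → Submodule k R} [GradedAlgebra 𝒜]
  {S : Type u} [CommRing S] [Algebra k S] {ℬ : ℤ → Submodule k S} [GradedAlgebra ℬ]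

theorem tmul_ne_zero' (X : GrLC.GMod.{u} 𝒜) (Y : GrLC.GMod.{u} ℬ) {x : X.carrier} (hx : x ≠ 0) {y : Y.carrier}
    (hy : y ≠ 0) : x ⊗ₜ[k] y ≠ 0 := fun h => by
  have h1 : ((1 : k) ⊗ₜ[k] (1 : k)) = 0 := tensorMap_injective
    (f := LinearMap.toSpanSingleton k X.carrier x) (g := LinearMap.toSpanSingleton k Y.carrier y)
    (LinearMap.ker_eq_bot.1 (LinearMap.ker_toSpanSingleton k hx))
    (LinearMap.ker_eq_bot.1 (LinearMap.ker_toSpanSingleton k hy)) (by
      rw [TensorProduct.map_tmul, map_zero, LinearMap.toSpanSingleton_apply, LinearMap.toSpanSingleton_apply,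
        one_smul, one_smul]
      exact h)
  simpa using congrArg (TensorProduct.lid k k) h1

theorem mem_range_of_tmul {M N M' N' : Type u} [AddCommGroup M] [Module k M] [AddCommGroup N] [Module k N]
    [AddCommGroup M'] [Module k M'] [AddCommGroup N'] [Module k N'] (f : M →ₗ[k] M') (g : N →ₗ[k] N')
    {z : M ⊗[k] N} {y : M'} {y' : N'} (hy' : y' ≠ 0) (h : TensorProduct.map f g z = y ⊗ₜ[k] y') :
    y ∈ LinearMap.range f := by
  obtain ⟨lam, hlam⟩ := (LinearMap.toSpanSingleton k _ y').exists_leftInverse_of_injective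
    (LinearMap.ker_toSpanSingleton k hy')
  have h1 : lam y' = 1 := by
    have := LinearMap.congr_fun hlam 1
    rwa [LinearMap.comp_apply, LinearMap.toSpanSingleton_apply, one_smul] at this
  let C : M' ⊗[k] N' →ₗ[k] M' := (TensorProduct.rid k M').toLinearMap.comp (lam.lTensor M')
  have hC : C (y ⊗ₜ[k] y') = y := by
    show TensorProduct.rid k M' (y ⊗ₜ[k] lam y') = y
    rw [h1, TensorProduct.rid_tmul, one_smul]
  rw [← hC, ← h]
  clear h hC
  induction z using TensorProduct.induction_on with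
  | zero => rw [map_zero, map_zero]; exact zero_mem _
  | add p q hp hq => rw [map_add, map_add]; exact add_mem hp hq
  | tmul a b => exact ⟨lam (g b) • a, by
      rw [map_smul]; exact (TensorProduct.rid_tmul (f a) (lam (g b))).symm⟩

variable [IsNoetherianRing R] (hposR : ∀ n : ℤ, n < 0 → 𝒜 n = ⊥)
  (h0R : 𝒜 0 = Submodule.span k {(1 : R)})
  {mR : HomogeneousIdeal 𝒜} (hmR : mR.toIdeal = Ideal.span (⋃ n ∈ Set.Ioi (0 : ℤ), (𝒜 n : Set R)))
  {XE : GrLC.GMod.{u} 𝒜} {eR : (R ⧸ mR.toIdeal) →ₗ[R] XE.carrier}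
  (heR : GrLC.IsStarInjHull 𝒜 (GrLC.quotGr 𝒜 mR) XE.gr eR)

include hposR h0R hmR heR in
/-- A module whose nonzero homogeneous elements move to a line embeds in a shift of the hull. -/
theorem exists_hull_embedding [Nontrivial R] (X : GrLC.GMod.{u} 𝒜) {a : ℤ} {p : X.carrier} (hp : p ∈ X.gr a)
    (hp0 : p ≠ 0) (hline : ∀ x ∈ X.gr a, x ∈ Submodule.span k {p})
    (hmove : ∀ (n : ℤ) (x : X.carrier), x ∈ X.gr n → x ≠ 0 → ∃ r ∈ 𝒜 (a - n), r • x ≠ 0) :
    ∃ f : X.carrier →ₗ[R] XE.carrier, GrLC.IsGrHomDeg X.gr XE.gr f (-a) ∧ Function.Injective f := by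
  classical
  obtain ⟨lam, hlam⟩ := (LinearMap.toSpanSingleton k _ p).exists_leftInverse_of_injective
    (LinearMap.ker_toSpanSingleton k hp0)
  obtain ⟨f, hf, hfv⟩ := exists_extend_functional hposR h0R hmR XE heR X a (lam.comp (kpiece X a).subtype)
  have hfp : f p = eR (Ideal.Quotient.mk mR.toIdeal 1) := by
    have h1 := hfv ⟨p, hp⟩
    have h2 := LinearMap.congr_fun hlam 1
    rw [LinearMap.comp_apply, LinearMap.toSpanSingleton_apply, one_smul, LinearMap.id_apply] at h2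
    rw [LinearMap.comp_apply, Submodule.subtype_apply, h2, one_smul] at h1
    exact h1
  have hinj : ∀ (n : ℤ) (x : X.carrier), x ∈ X.gr n → f x = 0 → x = 0 := fun n x hx hfx => by
    by_contra hx0
    obtain ⟨r, hr, hr0⟩ := hmove n x hx hx0
    obtain ⟨c, hc⟩ := Submodule.mem_span_singleton.1 (hline (r • x) (by
      have := GrLib.smul_mem (ℳ := X.gr) hr hx
      rwa [sub_add_cancel] at this))
    have h1 : f (r • x) = 0 := by rw [map_smul, hfx, smul_zero]
    rw [← hc, ← algebraMap_smul R c p, map_smul, hfp, algebraMap_smul, smul_eq_zero] at h1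
    rcases h1 with h1 | h1
    · exact hr0 (by rw [← hc, h1, zero_smul])
    · exact socle_ne_zero XE heR (top_ne_of_irrelevant hposR hmR) h1
  refine ⟨f, hf, (injective_iff_map_eq_zero _).2 fun x hx => ?_⟩
  refine (Submodule.mem_bot R).1 (GrLib.mem_of_proj_mem (ℳ := X.gr) (p := (⊥ : Submodule R X.carrier)) fun d =>
    (Submodule.mem_bot R).2 (hinj d _ (GrLib.proj_mem X.gr d x) ?_))
  have key : ∀ y : X.carrier, f (GrLib.proj X.gr d y) = GrLib.proj XE.gr (d + -a) (f y) := fun y => by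
    induction y using GrLib.induction X.gr with
    | zero => simp only [map_zero]
    | add u v hu hv => simp only [map_add, hu, hv]
    | hom i y hy =>
      by_cases h : i = d
      · subst h; rw [GrLib.proj_of_mem hy, GrLib.proj_of_mem (hf i y hy)]
      · rw [GrLib.proj_of_mem_ne hy h, map_zero,
          GrLib.proj_of_mem_ne (hf i y hy) fun e => h (by omega)]
  rw [key, hx, map_zero]

variable [IsNoetherianRing S] (hposS : ∀ n : ℤ, n < 0 → ℬ n = ⊥)
  (h0S : ℬ 0 = Submodule.span k {(1 : S)})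
  {mS : HomogeneousIdeal ℬ} (hmS : mS.toIdeal = Ideal.span (⋃ n ∈ Set.Ioi (0 : ℤ), (ℬ n : Set S)))
  {YE : GrLC.GMod.{u} ℬ} {eS : (S ⧸ mS.toIdeal) →ₗ[S] YE.carrier}
  (heS : GrLC.IsStarInjHull ℬ (GrLC.quotGr ℬ mS) YE.gr eS)
  {T : Type u} [CommRing T] [Algebra k T] [IsNoetherianRing T] {𝒯 : ℤ → Submodule k T} [GradedAlgebra 𝒯]
  {ψ : T →ₐ[k] R ⊗[k] S} (hdegT : ∀ n : ℤ, (𝒯 n).map ψ.toLinearMap = GrSeg.segrePiece k 𝒜 ℬ n)
  (hposT : ∀ n : ℤ, n < 0 → 𝒯 n = ⊥)
  {mT : HomogeneousIdeal 𝒯} (hmT : mT.toIdeal = Ideal.span (⋃ n ∈ Set.Ioi (0 : ℤ), (𝒯 n : Set T)))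
  {ZE : GrLC.GMod.{u} 𝒯} {eT : (T ⧸ mT.toIdeal) →ₗ[T] ZE.carrier}
  (heT : GrLC.IsStarInjHull 𝒯 (GrLC.quotGr 𝒯 mT) ZE.gr eT)
  (X : GrLC.GMod.{u} 𝒜) (Y : GrLC.GMod.{u} ℬ) {a : ℤ}
  (Φ : (seg hdegT X Y).carrier ≃ₗ[T] ZE.carrier) (hΦ : GrLC.IsGrHomDeg (seg hdegT X Y).gr ZE.gr Φ.toLinearMap (-a))

include hposT hmT heT hΦ in
/-- Nonzero tensors of the same degree are moved to degree `a`. -/
theorem exists_move {n : ℤ} {x : X.carrier} (hx : x ∈ X.gr n) {q : Y.carrier} (hq : q ∈ Y.gr n) (hx0 : x ≠ 0)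
    (hq0 : q ≠ 0) : (∃ r ∈ 𝒜 (a - n), r • x ≠ 0) ∧ ∃ s ∈ ℬ (a - n), s • q ≠ 0 := by
  have hm : x ⊗ₜ[k] q ∈ GrSeg.segrePiece k X.gr Y.gr n := Submodule.subset_span ⟨x, hx, q, hq, rfl⟩
  obtain ⟨w, hw⟩ := exists_seg hdegT X Y (piece_le_segSub X Y n hm)
  have hwn : w ∈ (seg hdegT X Y).gr n := by rw [mem_seg_gr, hw]; exact hm
  have hw0 : Φ w ≠ 0 := fun h => tmul_ne_zero' X Y hx0 hq0 (by
    rw [← hw, Φ.map_eq_zero_iff.1 h, map_zero])
  obtain ⟨i, t, ht, ht0, hti, -⟩ := exists_smul_socle heT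
    (fun c hc x hx => (Submodule.mem_bot k).1 (hposT c hc ▸ hx)) (fun c hc x hx => mem_of_pos hmT hc hx)
    (hΦ n w hwn) hw0
  have hψ : ψ t ∈ GrSeg.segrePiece k 𝒜 ℬ (a - n) := by
    rw [← hdegT, show a - n = i by omega]
    exact ⟨t, ht, rfl⟩
  have key : GrSeg.act k R S X.carrier Y.carrier (ψ t) (x ⊗ₜ[k] q) ≠ 0 := fun h => ht0 (by
    rw [← map_smul, show t • w = 0 from segInc_injective hdegT X Y (by rw [segInc_smul, hw, h, map_zero]), map_zero])
  constructor
  · by_contra hcon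
    push Not at hcon
    refine key ?_
    generalize ψ t = z at hψ ⊢
    induction hψ using Submodule.span_induction with
    | zero => rw [map_zero, LinearMap.zero_apply]
    | add u v _ _ hu hv => rw [map_add, LinearMap.add_apply, hu, hv, add_zero]
    | smul c u _ hu => rw [map_smul, LinearMap.smul_apply, hu, smul_zero]
    | mem z hz =>
      obtain ⟨r, hr, s, -, rfl⟩ := hz
      rw [GrSeg.act_tmul, hcon r hr, TensorProduct.zero_tmul]
  · by_contra hcon
    push Not at hcon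
    refine key ?_
    generalize ψ t = z at hψ ⊢
    induction hψ using Submodule.span_induction with
    | zero => rw [map_zero, LinearMap.zero_apply]
    | add u v _ _ hu hv => rw [map_add, LinearMap.add_apply, hu, hv, add_zero]
    | smul c u _ hu => rw [map_smul, LinearMap.smul_apply, hu, smul_zero]
    | mem z hz =>
      obtain ⟨r, -, s, hs, rfl⟩ := hz
      rw [GrSeg.act_tmul, hcon s hs, TensorProduct.tmul_zero]

variable [Nontrivial R] [Nontrivial S] [Nontrivial T] (h0T : 𝒯 0 = Submodule.span k {(1 : T)})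

include hposR h0R hmR heR hposS h0S hmS heS hposT h0T hmT heT hΦ in
/-- The factors are shifts of hulls. -/
theorem exists_factor_equivs (hψ : Function.Injective ψ)
    {p : X.carrier} (hp : p ∈ X.gr a) (hp0 : p ≠ 0) (hpl : ∀ x ∈ X.gr a, x ∈ Submodule.span k {p})
    {q : Y.carrier} (hq : q ∈ Y.gr a) (hq0 : q ≠ 0) (hql : ∀ x ∈ Y.gr a, x ∈ Submodule.span k {q})
    (hX : ∀ n, a < n → ∀ x ∈ X.gr n, x = 0) (hY : ∀ n, a < n → ∀ x ∈ Y.gr n, x = 0)
    (hXne : ∀ n ≤ a, ∃ x ∈ X.gr n, x ≠ 0) (hYne : ∀ n ≤ a, ∃ x ∈ Y.gr n, x ≠ 0)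
    (hfin : ∀ d, Module.Finite k (kpiece ZE d)) :
    (∃ φ : X.carrier ≃ₗ[R] XE.carrier, GrLC.IsGrHomDeg X.gr XE.gr φ.toLinearMap (-a)) ∧
      ∃ φ : Y.carrier ≃ₗ[S] YE.carrier, GrLC.IsGrHomDeg Y.gr YE.gr φ.toLinearMap (-a) := by
  classical
  obtain ⟨fR, hfR, hfRi⟩ := exists_hull_embedding hposR h0R hmR heR X hp hp0 hpl fun n x hx hx0 => by
    have hna : n ≤ a := not_lt.1 fun h => hx0 (hX n h x hx)
    obtain ⟨z, hz, hz0⟩ := hYne n hna
    exact (exists_move hdegT hposT hmT heT X Y Φ hΦ hx hz hx0 hz0).1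
  obtain ⟨fS, hfS, hfSi⟩ := exists_hull_embedding hposS h0S hmS heS Y hq hq0 hql fun n x hx hx0 => by
    have hna : n ≤ a := not_lt.1 fun h => hx0 (hY n h x hx)
    obtain ⟨z, hz, hz0⟩ := hXne n hna
    exact (exists_move hdegT hposT hmT heT X Y Φ hΦ hz hx hz0 hx0).2
  obtain ⟨θ, hθ⟩ := exists_hullSeg hdegT hposR h0R hmR heR hposS h0S hmS heS hposT h0T hmT heT hψ
  obtain ⟨F, hF, hFi⟩ := exists_segMapDeg hdegT fR fS hfR hfS
  have hFinj := injective_of_segInc hdegT fR fS hFi hfRi hfSi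
  let G : ZE.carrier →ₗ[T] ZE.carrier := θ.toLinearMap ∘ₗ F ∘ₗ Φ.symm.toLinearMap
  have hG : ∀ d, ∀ z ∈ ZE.gr d, G z ∈ ZE.gr d := fun d z hz => by
    have h1 := hθ _ _ (hF _ _ (symm_grHomDeg Φ hΦ d z hz))
    rw [show d + -(-a) + -a + 0 = d by ring] at h1
    exact h1
  have hGs : ∀ d, ∀ z ∈ ZE.gr d, ∃ u ∈ ZE.gr d, G u = z := fun d z hz => by
    haveI := hfin d
    let Gd : kpiece ZE d →ₗ[k] kpiece ZE d :=
      ((G.restrictScalars k).comp (kpiece ZE d).subtype).codRestrict _ fun v => hG d v.1 v.2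
    have hGd : Function.Injective Gd := fun u v huv =>
      Subtype.ext (Φ.symm.injective (hFinj (θ.injective (congrArg Subtype.val huv))))
    obtain ⟨u, hu⟩ := (LinearMap.injective_iff_surjective.1 hGd) ⟨z, hz⟩
    exact ⟨u.1, u.2, congrArg Subtype.val hu⟩
  have hbound : ∀ {n : ℤ} {y : XE.carrier}, y ∈ XE.gr n → y ≠ 0 → n ≤ 0 := fun hy hy0 =>
    not_lt.1 fun h => hy0 (hull_gr_pos hposR hmR heR h hy)
  have hboundS : ∀ {n : ℤ} {y : YE.carrier}, y ∈ YE.gr n → y ≠ 0 → n ≤ 0 := fun hy hy0 =>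
    not_lt.1 fun h => hy0 (hull_gr_pos hposS hmS heS h hy)
  have hpre : ∀ (n : ℤ) (y : XE.carrier), y ∈ XE.gr n → ∀ y' ∈ YE.gr n,
      ∃ z : X.carrier ⊗[k] Y.carrier, TensorProduct.map (fR.restrictScalars k) (fS.restrictScalars k) z = y ⊗ₜ[k] y' := by
    intro n y hy y' hy'
    have hm : y ⊗ₜ[k] y' ∈ GrSeg.segrePiece k XE.gr YE.gr n := Submodule.subset_span ⟨y, hy, y', hy', rfl⟩
    obtain ⟨w, hw⟩ := exists_seg hdegT XE YE (piece_le_segSub XE YE n hm)
    have hwn : w ∈ (seg hdegT XE YE).gr n := by rw [mem_seg_gr, hw]; exact hm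
    obtain ⟨u, -, hu⟩ := hGs n (θ w) (by have := hθ n w hwn; rwa [add_zero] at this)
    exact ⟨segInc hdegT X Y (Φ.symm u), by rw [← hFi, show F (Φ.symm u) = w from θ.injective hu, hw]⟩
  have hsR : Function.Surjective fR := fun y => by
    induction y using GrLib.induction XE.gr with
    | zero => exact ⟨0, map_zero fR⟩
    | add u v hu hv =>
      obtain ⟨u', rfl⟩ := hu
      obtain ⟨v', rfl⟩ := hv
      exact ⟨u' + v', map_add fR u' v'⟩
    | hom n y hy =>
      by_cases hy0 : y = 0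
      · exact ⟨0, by rw [map_zero, hy0]⟩
      obtain ⟨z, hz, hz0⟩ := hYne (n + a) (by have := hbound hy hy0; omega)
      have hz' := hfS _ z hz
      rw [show n + a + -a = n by ring] at hz'
      obtain ⟨x, hx⟩ := hpre n y hy (fS z) hz'
      exact mem_range_of_tmul (fR.restrictScalars k) (fS.restrictScalars k)
        (fun h => hz0 (hfSi (h.trans (map_zero fS).symm))) hx
  have hsS : Function.Surjective fS := fun y => by
    induction y using GrLib.induction YE.gr with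
    | zero => exact ⟨0, map_zero fS⟩
    | add u v hu hv =>
      obtain ⟨u', rfl⟩ := hu
      obtain ⟨v', rfl⟩ := hv
      exact ⟨u' + v', map_add fS u' v'⟩
    | hom n y hy =>
      by_cases hy0 : y = 0
      · exact ⟨0, by rw [map_zero, hy0]⟩
      obtain ⟨z, hz, hz0⟩ := hXne (n + a) (by have := hboundS hy hy0; omega)
      have hz' := hfR _ z hz
      rw [show n + a + -a = n by ring] at hz'
      obtain ⟨x, hx⟩ := hpre n (fR z) hz' y hy
      refine mem_range_of_tmul (fS.restrictScalars k) (fR.restrictScalars k) (z := TensorProduct.comm k _ _ x)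
        (fun h => hz0 (hfRi (h.trans (map_zero fR).symm))) ?_
      have h2 := congrArg (TensorProduct.comm k XE.carrier YE.carrier) hx
      rw [TensorProduct.comm_tmul] at h2
      rw [← h2]
      clear h2 hx
      induction x using TensorProduct.induction_on with
      | zero => simp
      | add u v hu hv => simp only [map_add, hu, hv]
      | tmul u v => simp
  exact ⟨⟨LinearEquiv.ofBijective fR ⟨hfRi, hsR⟩, hfR⟩, ⟨LinearEquiv.ofBijective fS ⟨hfSi, hsS⟩, hfS⟩⟩

end Groth.Agent.SegreLC
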