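import Mathlib
import Groth.Agent.SegreLC.TopMapBase
import Groth.Agent.SegreLC.SegreGor
import Groth.Agent.SegreLC.GorFactor
import Groth.Agent.SegreDim.Hsop

/-! The minimal generators of a Segre product of shifted standard graded rings. -/

set_option autoImplicit false
set_option linter.unusedSectionVars false
universe u

open DirectSum TensorProduct

namespace Groth.Agent.SegreLC

section single

variable {k : Type u} [Field k] {R : Type u} [CommRing R] [Algebra k R] {𝒜 : ℤ → Submodule k R} [GradedAlgebra 𝒜]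

/-- A top local cohomology isomorphic to a shift of the hull makes the shifted ring canonical. -/
theorem isStarCanonical_shift {m : HomogeneousIdeal 𝒜} {n : ℕ} (I : GrLC.StarInjRes 𝒜 𝒜) {XE : GrLC.GMod.{u} 𝒜}
    {g a : ℤ} (hga : g + a = 0) (φ : I.H m n ≃ₗ[R] XE.carrier)
    (hφ : GrLC.IsGrHomDeg (I.Hgr m n) XE.gr φ.toLinearMap g) :
    GrLC.IsStarCanonical 𝒜 (GrLib.shiftGMod 𝒜 𝒜 a).gr XE.gr m n I := by
  refine ⟨Module.Finite.self R, (LinearMap.ringLmapEquivSelf R R XE.carrier).trans φ.symm, fun d f hf => ?_⟩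
  have h1 : (1 : R) ∈ GrLib.shiftGr 𝒜 a g := by
    rw [GrLib.mem_shiftGr, hga]; exact SetLike.one_mem_graded 𝒜
  have h2 := hf g (1 : R) h1
  rw [add_comm g d] at h2
  have h3 := symm_grHomDeg (M := (HG I m n).carrier) (ℳ := (HG I m n).gr) φ hφ (d + g) _ h2
  rwa [add_neg_cancel_right] at h3

/-- Pieces of a standard graded ring are products. -/
theorem piece_succ_le (hpos : ∀ n : ℤ, n < 0 → 𝒜 n = ⊥)
    (hstd : Ideal.span (⋃ n ∈ Set.Ioi (0 : ℤ), (𝒜 n : Set R)) = Ideal.span ((𝒜 1 : Submodule k R) : Set R))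
    (m : ℤ) (hm : 0 ≤ m) : 𝒜 (m + 1) ≤ 𝒜 m * 𝒜 1 := by
  classical
  have key : ∀ x ∈ Ideal.span ((𝒜 1 : Submodule k R) : Set R), ∀ g : ℤ,
      GrLib.proj 𝒜 (g + 1) x ∈ 𝒜 g * 𝒜 1 := by
    intro x hx
    induction hx using Submodule.span_induction with
    | mem x hx =>
      intro g
      by_cases hg : g = 0
      · subst hg
        rw [zero_add, GrLib.proj_of_mem hx, ← one_mul x]
        exact Submodule.mul_mem_mul (SetLike.one_mem_graded 𝒜) hx
      · rw [GrLib.proj_of_mem_ne hx (by omega)]; exact zero_mem _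
    | zero => intro g; rw [map_zero]; exact zero_mem _
    | add p q _ _ hp hq => intro g; rw [map_add]; exact add_mem (hp g) (hq g)
    | smul c p _ hp =>
      intro g
      induction c using GrLib.induction 𝒜 with
      | zero => rw [zero_smul, map_zero]; exact zero_mem _
      | add c d hc hd => rw [add_smul, map_add]; exact add_mem hc hd
      | hom i c hc =>
        rw [GrLib.proj_smul' (ℳ := 𝒜) hc, show g + 1 - i = (g - i) + 1 by ring, smul_eq_mul]
        have h1 : c * GrLib.proj 𝒜 (g - i + 1) p ∈ 𝒜 i * (𝒜 (g - i) * 𝒜 1) :=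
          Submodule.mul_mem_mul hc (hp (g - i))
        rw [← mul_assoc] at h1
        refine mul_le_mul' (Submodule.mul_le.2 fun u hu v hv => ?_) le_rfl h1
        have := SetLike.mul_mem_graded hu hv
        rwa [add_sub_cancel] at this
  intro x hx
  have h := key x (hstd ▸ Ideal.subset_span (Set.mem_iUnion₂.2 ⟨m + 1, show (0 : ℤ) < m + 1 by omega, hx⟩)) m
  rwa [GrLib.proj_of_mem hx] at h

/-- Pieces of a standard graded ring multiply onto one another. -/
theorem piece_add_le (hpos : ∀ n : ℤ, n < 0 → 𝒜 n = ⊥)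
    (hstd : Ideal.span (⋃ n ∈ Set.Ioi (0 : ℤ), (𝒜 n : Set R)) = Ideal.span ((𝒜 1 : Submodule k R) : Set R))
    (m : ℤ) (hm : 0 ≤ m) (j : ℕ) : 𝒜 (m + j) ≤ 𝒜 m * 𝒜 (j : ℤ) := by
  induction j with
  | zero =>
    intro x hx
    rw [Nat.cast_zero, add_zero] at hx
    rw [← mul_one x]
    exact Submodule.mul_mem_mul hx (SetLike.one_mem_graded 𝒜)
  | succ j ih =>
    rw [Nat.cast_succ, ← add_assoc]
    refine (piece_succ_le hpos hstd (m + j) (by omega)).trans ((mul_le_mul' ih le_rfl).trans ?_)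
    rw [mul_assoc]
    exact mul_le_mul' le_rfl (Submodule.mul_le.2 fun u hu v hv => SetLike.mul_mem_graded hu hv)

end single

variable {k : Type u} [Field k] {R : Type u} [CommRing R] [Algebra k R] {𝒜 : ℤ → Submodule k R} [GradedAlgebra 𝒜]
  (hposR : ∀ n : ℤ, n < 0 → 𝒜 n = ⊥)
  (hstdR : Ideal.span (⋃ n ∈ Set.Ioi (0 : ℤ), (𝒜 n : Set R)) = Ideal.span ((𝒜 1 : Submodule k R) : Set R))
  {S : Type u} [CommRing S] [Nontrivial S] [Algebra k S] {ℬ : ℤ → Submodule k S} [GradedAlgebra ℬ]
  (hposS : ∀ n : ℤ, n < 0 → ℬ n = ⊥) (h0S : ℬ 0 = Submodule.span k {(1 : S)})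
  {T : Type u} [CommRing T] [Algebra k T] {𝒯 : ℤ → Submodule k T} [GradedAlgebra 𝒯]
  (hposT : ∀ n : ℤ, n < 0 → 𝒯 n = ⊥) (h0T : 𝒯 0 = Submodule.span k {(1 : T)})
  {ψ : T →ₐ[k] R ⊗[k] S} (hdegT : ∀ n : ℤ, (𝒯 n).map ψ.toLinearMap = GrSeg.segrePiece k 𝒜 ℬ n)
  {mT : HomogeneousIdeal 𝒯} (hmT : mT.toIdeal = Ideal.span (⋃ n ∈ Set.Ioi (0 : ℤ), (𝒯 n : Set T)))

include hposT h0T hmT in
theorem finrank_quot_irr [mT.toIdeal.IsMaximal] : Module.finrank k (T ⧸ mT.toIdeal) = 1 := by
  letI := Ideal.Quotient.field mT.toIdeal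
  have hs : Function.Surjective (Algebra.linearMap k (T ⧸ mT.toIdeal)) := by
    intro z
    obtain ⟨t, rfl⟩ := Ideal.Quotient.mk_surjective z
    induction t using GrLib.induction 𝒯 with
    | zero => exact ⟨0, by simp⟩
    | add p q hp hq =>
      obtain ⟨c, hc⟩ := hp
      obtain ⟨d, hd⟩ := hq
      exact ⟨c + d, by rw [map_add, map_add, hc, hd]⟩
    | hom c t ht =>
      rcases lt_trichotomy c 0 with h | h | h
      · rw [hposT c h, Submodule.mem_bot] at ht
        exact ⟨0, by rw [ht]; simp⟩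
      · subst h
        rw [h0T, Submodule.mem_span_singleton] at ht
        obtain ⟨l, rfl⟩ := ht
        exact ⟨l, by rw [Algebra.linearMap_apply, ← Algebra.algebraMap_eq_smul_one]; rfl⟩
      · refine ⟨0, ?_⟩
        rw [map_zero, eq_comm, Ideal.Quotient.eq_zero_iff_mem, hmT]
        exact Ideal.subset_span (Set.mem_iUnion₂.2 ⟨c, h, ht⟩)
  rw [← (LinearEquiv.ofBijective (Algebra.linearMap k (T ⧸ mT.toIdeal)) ⟨(algebraMap k (T ⧸ mT.toIdeal)).injective, hs⟩).finrank_eq,
    Module.finrank_self]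

include hposR hstdR hposS h0S hposT h0T hmT in
/-- The Segre product of shifted standard graded rings is generated in its bottom degree. -/
theorem finrank_residue_seg [mT.toIdeal.IsMaximal] (a b : ℤ) (hab : b ≤ a) :
    Module.finrank (T ⧸ mT.toIdeal) ((T ⧸ mT.toIdeal) ⊗[T]
      (seg hdegT (GrLib.shiftGMod 𝒜 𝒜 a) (GrLib.shiftGMod ℬ ℬ b)).carrier) =
      Module.finrank k (𝒜 (a - b)) := by
  classical
  let X := GrLib.shiftGMod 𝒜 𝒜 a
  let Y := GrLib.shiftGMod ℬ ℬ b
  let C := seg hdegT X Y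
  let W : Submodule T C.carrier := mT.toIdeal • ⊤
  let one : Y.carrier := (1 : S)
  have hone : one ∈ Y.gr (-b) := by
    show (1 : S) ∈ ℬ (-b + b)
    rw [neg_add_cancel]; exact SetLike.one_mem_graded ℬ
  have hone0 : one ≠ 0 := one_ne_zero (α := S)
  let inX : 𝒜 (a - b) → X.carrier := fun v => v.1
  let toX : R → X.carrier := id
  let toY : S → Y.carrier := id
  have hinX : ∀ v, inX v ∈ X.gr (-b) := fun v => by
    show v.1 ∈ 𝒜 (-b + a)
    rw [neg_add_eq_sub]; exact v.2
  have hinX_smul : ∀ (c : k) v, inX (c • v) = c • inX v := fun c v => by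
    show c • v.1 = algebraMap k R c * v.1
    rw [Algebra.smul_def]
  have hmem : ∀ v, inX v ⊗ₜ[k] one ∈ GrSeg.segrePiece k X.gr Y.gr (-b) := fun v =>
    Submodule.subset_span ⟨_, hinX v, one, hone, rfl⟩
  choose f₀ hf₀ using fun v => exists_seg hdegT X Y (piece_le_segSub X Y _ (hmem v))
  let f : 𝒜 (a - b) →ₗ[k] C.carrier :=
    { toFun := f₀
      map_add' := fun u v => segInc_injective hdegT X Y (by
        rw [map_add, hf₀, hf₀, hf₀, ← TensorProduct.add_tmul]; rfl)
      map_smul' := fun c v => segInc_injective hdegT X Y (by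
        rw [RingHom.id_apply, map_smul, hf₀, hf₀, TensorProduct.smul_tmul', hinX_smul]) }
  have hfd : ∀ v, f v ∈ C.gr (-b) := fun v => by
    rw [mem_seg_gr]; show segInc hdegT X Y (f₀ v) ∈ _; rw [hf₀]; exact hmem v
  have hlow : ∀ {n : ℤ}, n < -b → ∀ w ∈ C.gr n, w = 0 := fun {n} hn w hw => by
    refine segInc_injective hdegT X Y ?_
    rw [map_zero]
    refine (Submodule.mem_bot k).1 ((Submodule.span_le (p := (⊥ : Submodule k _))).2 ?_ ((mem_seg_gr hdegT X Y).1 hw))
    rintro _ ⟨p, _, q, hq, rfl⟩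
    have hz0 : ∀ z : S, z ∈ ℬ (n + b) → z = 0 := fun z hz => by
      rwa [hposS (n + b) (by omega), Submodule.mem_bot] at hz
    rw [show q = 0 from hz0 q hq, TensorProduct.tmul_zero]
    exact zero_mem _
  have hirr : ∀ t ∈ mT.toIdeal, ∀ w : C.carrier, GrLib.proj C.gr (-b) (t • w) = 0 := by
    intro t ht
    rw [hmT] at ht
    induction ht using Submodule.span_induction with
    | mem t ht =>
      obtain ⟨c, hc, htc⟩ := Set.mem_iUnion₂.1 ht
      intro w
      rw [GrLib.proj_smul' (ℳ := C.gr) htc, hlow (show -b - c < -b by simp at hc; omega) _ (GrLib.proj_mem C.gr _ w),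
        smul_zero]
    | zero => intro w; rw [zero_smul, map_zero]
    | add p q _ _ hp hq => intro w; rw [add_smul, map_add, hp, hq, add_zero]
    | smul c p _ hp => intro w; rw [smul_eq_mul, mul_comm, mul_smul]; exact hp _
  have hW : ∀ w ∈ W, GrLib.proj C.gr (-b) w = 0 := fun w hw =>
    Submodule.smul_induction_on hw (fun t ht w _ => hirr t ht w) fun p q hp hq => by rw [map_add, hp, hq, add_zero]
  have hinj : ∀ v, f v ∈ W → v = 0 := fun v hv => by
    have h := hW _ hv
    rw [GrLib.proj_of_mem (hfd v)] at h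
    have h' : inX v ⊗ₜ[k] one = 0 := by rw [← hf₀ v]; show segInc hdegT X Y (f v) = 0; rw [h, map_zero]
    by_contra hne
    exact tmul_ne_zero' X Y (x := inX v) (fun h0 => hne (Subtype.ext h0)) hone0 h'
  have hsurj : ∀ w : C.carrier, ∃ v, w - f v ∈ W := by
    intro w
    induction w using GrLib.induction C.gr with
    | zero => exact ⟨0, by rw [map_zero, sub_zero]; exact zero_mem _⟩
    | add p q hp hq =>
      obtain ⟨u, hu⟩ := hp
      obtain ⟨v, hv⟩ := hq
      exact ⟨u + v, by rw [map_add, add_sub_add_comm]; exact add_mem hu hv⟩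
    | hom n w hw =>
      have hw' := (mem_seg_gr hdegT X Y).1 hw
      rcases lt_trichotomy n (-b) with h | h | h
      · exact ⟨0, by rw [hlow h w hw, map_zero, sub_zero]; exact zero_mem _⟩
      · subst h
        have hr : segInc hdegT X Y w ∈ LinearMap.range ((segInc hdegT X Y).comp f) := by
          refine (Submodule.span_le.2 ?_) hw'
          rintro _ ⟨x, hx, y, hy, rfl⟩
          have hz0 : ∀ z : S, z ∈ ℬ (-b + b) → ∃ c : k, c • (1 : S) = z := fun z hz => by
            rwa [neg_add_cancel, h0S, Submodule.mem_span_singleton] at hz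
          obtain ⟨c, hc⟩ := hz0 y hy
          have hx' : (x : R) ∈ 𝒜 (a - b) := by rw [← neg_add_eq_sub]; exact hx
          refine ⟨c • ⟨x, hx'⟩, ?_⟩
          rw [map_smul, LinearMap.comp_apply, show segInc hdegT X Y (f ⟨x, hx'⟩) = _ from hf₀ _,
            ← TensorProduct.tmul_smul]
          refine congrArg (x ⊗ₜ[k] ·) ?_
          show algebraMap k S c * (1 : S) = y
          rw [← Algebra.smul_def]; exact hc
        obtain ⟨v, hv⟩ := hr
        refine ⟨v, ?_⟩
        rw [show f v = w from segInc_injective hdegT X Y hv, sub_self]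
        exact zero_mem _
      · refine ⟨0, ?_⟩
        rw [map_zero, sub_zero]
        have hr : segInc hdegT X Y w ∈ (W.restrictScalars k).map (segInc hdegT X Y) := by
          refine (Submodule.span_le.2 ?_) hw'
          rintro _ ⟨x, hx, y, hy, rfl⟩
          obtain ⟨j, hj⟩ : ∃ j : ℕ, (j : ℤ) = a - b := ⟨(a - b).toNat, by omega⟩
          have hx' : (x : R) ∈ 𝒜 (n + b) * 𝒜 (a - b) := by
            rw [← hj]
            refine piece_add_le hposR hstdR (n + b) (by omega) j ?_
            rw [hj, show n + b + (a - b) = n + a by ring]; exact hx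
          refine Submodule.mul_induction_on (C := fun x : R =>
            toX x ⊗ₜ[k] y ∈ (W.restrictScalars k).map (segInc hdegT X Y)) hx' ?_ ?_
          · intro u hu v hv
            let yS : S := y
            have hy' : yS ∈ ℬ (n + b) := hy
            have hz : u ⊗ₜ[k] yS ∈ GrSeg.segrePiece k 𝒜 ℬ (n + b) :=
              Submodule.subset_span ⟨u, hu, _, hy', rfl⟩
            rw [← hdegT] at hz
            obtain ⟨t, ht, htz⟩ := hz
            have htm : t ∈ mT.toIdeal := by
              rw [hmT]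
              exact Ideal.subset_span (Set.mem_iUnion₂.2 ⟨n + b, show (0 : ℤ) < n + b by omega, ht⟩)
            refine ⟨t • f ⟨v, hv⟩, Submodule.smul_mem_smul htm Submodule.mem_top, ?_⟩
            rw [segInc_smul, show ψ t = _ from htz, show segInc hdegT X Y (f ⟨v, hv⟩) = _ from hf₀ _,
              GrSeg.act_tmul]
            show toX (u * v) ⊗ₜ[k] toY (yS * 1) = _
            rw [mul_one]
            rfl
          · intro p q hp hq
            rw [show toX (p + q) = toX p + toX q from rfl, TensorProduct.add_tmul]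
            exact add_mem hp hq
        obtain ⟨w', hw1, hw2⟩ := hr
        rw [← segInc_injective hdegT X Y hw2]
        exact hw1
  let q : 𝒜 (a - b) →ₗ[k] C.carrier ⧸ W := (W.mkQ.restrictScalars k).comp f
  have hq : Function.Bijective q := by
    refine ⟨(injective_iff_map_eq_zero q).2 fun v hv => hinj v ((Submodule.Quotient.mk_eq_zero W).1 hv), fun z => ?_⟩
    obtain ⟨w, rfl⟩ := Submodule.mkQ_surjective W z
    obtain ⟨v, hv⟩ := hsurj w
    exact ⟨v, ((Submodule.Quotient.eq W).2 hv).symm⟩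
  letI := Ideal.Quotient.field mT.toIdeal
  have h1 := Module.finrank_mul_finrank k (T ⧸ mT.toIdeal) ((T ⧸ mT.toIdeal) ⊗[T] C.carrier)
  rw [finrank_quot_irr hposT h0T hmT, one_mul] at h1
  refine h1.trans ?_
  rw [((TensorProduct.quotTensorEquivQuotSMul C.carrier mT.toIdeal).restrictScalars k).finrank_eq,
    ← (LinearEquiv.ofBijective q hq).finrank_eq]

end Groth.Agent.SegreLC
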