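import Mathlib
import Groth.Agent.SegreLC.SegInj
import Groth.Agent.SegreLC.TopMapBase

/-! Segre products with a factor on which a homogeneous element acts bijectively. -/

set_option autoImplicit false
set_option linter.unusedSectionVars false
universe u

open DirectSum TensorProduct

namespace Groth.Agent.SegreLC

section flat

variable {k : Type u} [Field k] {R : Type u} [CommRing R] [Algebra k R] {A B C : Type u} [AddCommGroup A] [Module R A]
  [Module k A] [IsScalarTower k R A] [AddCommGroup B] [Module R B] [Module k B] [IsScalarTower k R B]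
  [AddCommGroup C] [Module R C] [Module k C] [IsScalarTower k R C] (W : Type u) [AddCommGroup W] [Module k W]

/-- Tensors killed by two maps come from the common kernel. -/
theorem mem_range_rTensor_inf (f : A →ₗ[R] B) (p : Submodule R A) {w : A ⊗[k] W}
    (h₁ : (f.restrictScalars k).rTensor W w = 0)
    (h₂ : (p.mkQ.restrictScalars k).rTensor W w = 0) :
    ∃ u, ((p ⊓ LinearMap.ker f).subtype.restrictScalars k).rTensor W u = w := by
  let F : A →ₗ[k] B × (A ⧸ p) := (f.restrictScalars k).prod (p.mkQ.restrictScalars k)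
  have hex : Function.Exact ((p ⊓ LinearMap.ker f).subtype.restrictScalars k) F := fun x => by
    constructor
    · intro hx
      exact ⟨⟨x, (Submodule.Quotient.mk_eq_zero p).1 (congrArg Prod.snd hx), congrArg Prod.fst hx⟩, rfl⟩
    · rintro ⟨y, rfl⟩
      exact Prod.ext y.2.2 ((Submodule.Quotient.mk_eq_zero p).2 y.2.1)
  have hid : ∀ v : A ⊗[k] W, TensorProduct.prodLeft k k B (A ⧸ p) W (F.rTensor W v) =
      ((f.restrictScalars k).rTensor W v, (p.mkQ.restrictScalars k).rTensor W v) := fun v => by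
    induction v using TensorProduct.induction_on with
    | zero => simp only [map_zero]; rfl
    | add a b ha hb => simp only [map_add, ha, hb, Prod.mk_add_mk]
    | tmul a b => rfl
  refine (Module.Flat.rTensor_exact W hex w).1 ((TensorProduct.prodLeft k k B (A ⧸ p) W).injective ?_)
  rw [hid, h₁, h₂, map_zero]
  rfl

theorem rTensor_mkQ_range {p : Submodule R A} (u : p ⊗[k] W) :
    (p.mkQ.restrictScalars k).rTensor W ((p.subtype.restrictScalars k).rTensor W u) = 0 := by
  induction u using TensorProduct.induction_on with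
  | zero => simp only [map_zero]
  | add a b ha hb => simp only [map_add, ha, hb, add_zero]
  | tmul a b =>
    show (p.mkQ a.1) ⊗ₜ[k] b = 0
    rw [Submodule.mkQ_apply, (Submodule.Quotient.mk_eq_zero p).2 a.2, TensorProduct.zero_tmul]

end flat

variable {k : Type u} [Field k] {R : Type u} [CommRing R] [Algebra k R] {𝒜 : ℤ → Submodule k R} [GradedAlgebra 𝒜]
  {S : Type u} [CommRing S] [Algebra k S] {ℬ : ℤ → Submodule k S} [GradedAlgebra ℬ]
  {T : Type u} [CommRing T] [Algebra k T] {𝒯 : ℤ → Submodule k T} [GradedAlgebra 𝒯]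
  {ψ : T →ₐ[k] R ⊗[k] S} (hdegT : ∀ n : ℤ, (𝒯 n).map ψ.toLinearMap = GrSeg.segrePiece k 𝒜 ℬ n)
  [IsNoetherianRing R] [IsNoetherianRing S] [IsNoetherianRing T]
  {mR : HomogeneousIdeal 𝒜} (hmR : mR.toIdeal = Ideal.span (⋃ n ∈ Set.Ioi (0 : ℤ), (𝒜 n : Set R)))
  {mS : HomogeneousIdeal ℬ} (hmS : mS.toIdeal = Ideal.span (⋃ n ∈ Set.Ioi (0 : ℤ), (ℬ n : Set S)))
  {mT : HomogeneousIdeal 𝒯} (hmT : mT.toIdeal = Ideal.span (⋃ n ∈ Set.Ioi (0 : ℤ), (𝒯 n : Set T)))
  {Y : GrLC.GMod.{u} ℬ} {e : ℕ} (he : 0 < e) {g : S} (hg : g ∈ ℬ (e : ℤ))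
  (hgY : Function.Bijective fun y : Y.carrier => g • y)

section lifting

variable {X X' X'' : GrLC.GMod.{u} 𝒜} {f : X.carrier →ₗ[R] X'.carrier} (hf : GrLC.IsGrHom X.gr X'.gr f)
  {f' : X'.carrier →ₗ[R] X''.carrier} (hf' : GrLC.IsGrHom X'.gr X''.gr f')

/-- The Segre product with a fixed factor is exact. -/
theorem segMap_exact (hex : Function.Exact f f') :
    Function.Exact (segMap (Y := Y) (Y' := Y) hdegT f hf LinearMap.id (idHom Y))
      (segMap (Y := Y) (Y' := Y) hdegT f' hf' LinearMap.id (idHom Y)) := by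
  intro v
  constructor
  · intro hv
    have h := congrArg (segInc hdegT X'' Y) hv
    rw [segInc_segMap, map_zero] at h
    obtain ⟨u, hu⟩ := (Module.Flat.rTensor_exact Y.carrier (f := f.restrictScalars k) (g := f'.restrictScalars k)
      hex (segInc hdegT X' Y v)).1 h
    obtain ⟨w, hw⟩ := exists_seg hdegT X Y (dg_mem X Y u)
    refine ⟨w, segInc_injective hdegT X' Y ?_⟩
    rw [segInc_segMap, hw, map_dg hf (idHom Y), show TensorProduct.map (f.restrictScalars k)
      ((LinearMap.id : Y.carrier →ₗ[S] Y.carrier).restrictScalars k) u = segInc hdegT X' Y v from hu,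
      dg_eq_self _ _ (segInc_mem hdegT X' Y v)]
  · rintro ⟨w, rfl⟩
    refine segInc_injective hdegT X'' Y ?_
    rw [segInc_segMap, segInc_segMap, map_zero]
    exact (Module.Flat.rTensor_exact Y.carrier (f := f.restrictScalars k) (g := f'.restrictScalars k)
      hex).apply_apply_eq_zero _

end lifting

variable {X : GrLC.GMod.{u} 𝒜}

include hmR hmS hmT in
omit hmS in
theorem segMap_torsion_mem (hmS : mS.toIdeal = Ideal.span (⋃ n ∈ Set.Ioi (0 : ℤ), (ℬ n : Set S)))
    {a : X.carrier →ₗ[R] X.carrier} (ha : GrLC.IsGrHom X.gr X.gr a)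
    (haΓ : ∀ x, a x ∈ GrLC.gam mR.toIdeal X.carrier) (v : (seg hdegT X Y).carrier) :
    segMap (Y := Y) (Y' := Y) hdegT a ha LinearMap.id (idHom Y) v ∈ GrLC.gam mT.toIdeal (seg hdegT X Y).carrier := by
  refine mem_gam_seg hdegT X Y hmR hmS hmT ?_
  rw [segInc_segMap]
  generalize segInc hdegT X Y v = w
  induction w using TensorProduct.induction_on with
  | zero => rw [map_zero]; exact zero_mem _
  | add p q hp hq => rw [map_add]; exact add_mem hp hq
  | tmul x y => exact Submodule.subset_span ⟨a x, y, TensorProduct.map_tmul _ _ x y, Or.inl (haΓ x)⟩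

theorem sum_map_tmul {l : ℕ} {B : Fin l → GrLC.GMod.{u} 𝒜} (a : X.carrier →ₗ[R] X.carrier)
    (p : ∀ i, X.carrier →ₗ[R] (B i).carrier) (s : ∀ i, (B i).carrier →ₗ[R] X.carrier)
    (hsum : ∀ x, a x + ∑ i, s i (p i x) = x) (w : X.carrier ⊗[k] Y.carrier) :
    TensorProduct.map (a.restrictScalars k) ((LinearMap.id : Y.carrier →ₗ[S] Y.carrier).restrictScalars k) w +
      ∑ i, TensorProduct.map ((s i).restrictScalars k) ((LinearMap.id : Y.carrier →ₗ[S] Y.carrier).restrictScalars k)
        (TensorProduct.map ((p i).restrictScalars k)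
          ((LinearMap.id : Y.carrier →ₗ[S] Y.carrier).restrictScalars k) w) = w := by
  induction w using TensorProduct.induction_on with
  | zero => simp
  | add p q hp hq =>
    simp only [map_add, Finset.sum_add_distrib]
    conv_rhs => rw [← hp, ← hq]
    abel
  | tmul x y =>
    simp only [TensorProduct.map_tmul, LinearMap.coe_restrictScalars, LinearMap.id_apply]
    rw [← TensorProduct.sum_tmul, ← TensorProduct.add_tmul, hsum]

variable (hX : GrLC.IsStarInj 𝒜 X.gr)

include hmR he hg hgY hX in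
theorem exists_split_right : ∃ (l : ℕ) (a : X.carrier →ₗ[R] X.carrier) (B : Fin l → GrLC.GMod.{u} 𝒜)
    (p : ∀ i, X.carrier →ₗ[R] (B i).carrier) (s : ∀ i, (B i).carrier →ₗ[R] X.carrier) (D : ℕ) (f : Fin l → R) (h : S),
    0 < D ∧ (∀ i, f i ∈ 𝒜 (D : ℤ)) ∧ h ∈ ℬ (D : ℤ) ∧ Function.Bijective (fun y : Y.carrier => h • y) ∧
    GrLC.IsGrHom X.gr X.gr a ∧ (∀ x, a x ∈ GrLC.gam mR.toIdeal X.carrier) ∧
    (∀ i, GrLC.IsGrHom X.gr (B i).gr (p i)) ∧ (∀ i, GrLC.IsGrHom (B i).gr X.gr (s i)) ∧
    (∀ i, Function.Bijective fun b : (B i).carrier => f i • b) ∧ ∀ x, a x + ∑ i, s i (p i x) = x := by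
  obtain ⟨DR, hDR, hpR⟩ := exists_params_deg hmR
  obtain ⟨l, f, hf, hfr⟩ := hpR (DR * e) (dvd_mul_right _ _) (Nat.mul_pos hDR he)
  obtain ⟨a, B, p, s, ha, haΓ, hp, hs, hB, hsum⟩ := exists_split hmR X hX f (fun _ => _) hf hfr
  refine ⟨l, a, B, p, s, DR * e, f, g ^ DR, Nat.mul_pos hDR he, hf, ?_, ?_, ha, haΓ, hp, hs, hB, hsum⟩
  · have h := SetLike.pow_mem_graded (A := ℬ) DR hg
    rwa [nsmul_eq_mul, ← Nat.cast_mul] at h
  · rw [← smul_iterate]
    exact hgY.iterate DR

include hmR hmS hmT he hg hgY hX in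
/-- Segre products with an *injective factor are acyclic. -/
theorem acyc_seg_right : Acyc mT.toIdeal (seg hdegT X Y).carrier := by
  intro j hj
  obtain ⟨l, a, B, p, s, D, f, h, hD, hf, hh, hhY, ha, haΓ, hp, hs, hB, hsum⟩ := exists_split_right hmR he hg hgY hX
  refine subsingleton_H_of_torsion_add (segMap hdegT a ha LinearMap.id (idHom Y))
    (segMap_torsion_mem hdegT hmR hmT hmS ha haΓ) (fun i => (seg hdegT (B i) Y).carrier)
    (fun i => segMap hdegT (p i) (hp i) LinearMap.id (idHom Y))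
    (fun i => segMap hdegT (s i) (hs i) LinearMap.id (idHom Y)) (fun v => segInc_injective hdegT X Y ?_) hj
    (fun i => ?_)
  · rw [map_add, map_sum]
    simp only [segInc_segMap]
    exact sum_map_tmul a p s hsum _
  · obtain ⟨t, ht, htψ⟩ := SegreOne.exists_lift 𝒜 ℬ 𝒯 ψ hdegT (hf i) hh
    exact LocCoh.subsingleton_H_of_bijective_smul (Ideal.le_radical (segLift_mem hmT hD ht))
      (bijective_smul_seg hdegT (hf i) (hB i) hh hhY htψ) j

include hmR hmS hmT he hg hgY hX in
/-- The torsion of a Segre product with an *injective factor. -/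
theorem mem_gam_seg_right_iff (v : (seg hdegT X Y).carrier) :
    v ∈ GrLC.gam mT.toIdeal (seg hdegT X Y).carrier ↔
      ∃ u, ((GrLC.gam mR.toIdeal X.carrier).subtype.restrictScalars k).rTensor Y.carrier u = segInc hdegT X Y v := by
  constructor
  · intro hv
    obtain ⟨l, a, B, p, s, D, f, h, hD, hf, hh, hhY, ha, haΓ, hp, hs, hB, hsum⟩ := exists_split_right hmR he hg hgY hX
    have h0 : ∀ i, segMap (Y := Y) (Y' := Y) hdegT (p i) (hp i) LinearMap.id (idHom Y) v = 0 := fun i => by
      obtain ⟨t, ht, htψ⟩ := SegreOne.exists_lift 𝒜 ℬ 𝒯 ψ hdegT (hf i) hh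
      obtain ⟨n, hn⟩ := hv
      have hb : Function.Injective (fun b : (seg hdegT (B i) Y).carrier => t ^ n • b) := by
        rw [← smul_iterate]; exact (bijective_smul_seg hdegT (hf i) (hB i) hh hhY htψ).1.iterate n
      refine hb ?_
      show t ^ n • segMap (Y := Y) (Y' := Y) hdegT (p i) (hp i) LinearMap.id (idHom Y) v = t ^ n • (0 : (seg hdegT (B i) Y).carrier)
      rw [smul_zero, ← map_smul, hn _ (Ideal.pow_mem_pow (segLift_mem hmT hD ht) n), map_zero]
    refine ⟨(((a.codRestrict _ haΓ).restrictScalars k).rTensor Y.carrier) (segInc hdegT X Y v), ?_⟩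
    conv_rhs => rw [← sum_map_tmul a p s hsum (segInc hdegT X Y v)]
    rw [Finset.sum_eq_zero fun i _ => by rw [← segInc_segMap hdegT (p i) (hp i) _ (idHom Y), h0 i, map_zero, map_zero],
      add_zero, ← LinearMap.comp_apply, ← LinearMap.rTensor_comp]
    rfl
  · rintro ⟨u, hu⟩
    refine mem_gam_seg hdegT X Y hmR hmS hmT ?_
    rw [← hu]
    clear hu
    induction u using TensorProduct.induction_on with
    | zero => rw [map_zero]; exact zero_mem _
    | add p q hp hq => rw [map_add]; exact add_mem hp hq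
    | tmul x y => exact Submodule.subset_span ⟨x.1, y, rfl, Or.inl x.2⟩

end Groth.Agent.SegreLC
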