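import Mathlib
import Groth.Agent.SegreLC.BijRight
import Groth.Agent.SegreLC.Compare

/-! Local cohomology of a Segre product with a factor on which a homogeneous element acts bijectively. -/

set_option autoImplicit false
set_option linter.unusedSectionVars false
set_option maxHeartbeats 1000000
universe u

open DirectSum TensorProduct

namespace Groth.Agent.SegreLC

variable {k : Type u} [Field k] {R : Type u} [CommRing R] [Algebra k R] {𝒜 : ℤ → Submodule k R} [GradedAlgebra 𝒜]
  {S : Type u} [CommRing S] [Algebra k S] {ℬ : ℤ → Submodule k S} [GradedAlgebra ℬ]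
  {T : Type u} [CommRing T] [Algebra k T] {𝒯 : ℤ → Submodule k T} [GradedAlgebra 𝒯]
  {ψ : T →ₐ[k] R ⊗[k] S} (hdegT : ∀ n : ℤ, (𝒯 n).map ψ.toLinearMap = GrSeg.segrePiece k 𝒜 ℬ n)
  [IsNoetherianRing R] [IsNoetherianRing S] [IsNoetherianRing T]
  {mR : HomogeneousIdeal 𝒜} (hmR : mR.toIdeal = Ideal.span (⋃ n ∈ Set.Ioi (0 : ℤ), (𝒜 n : Set R)))
  {mS : HomogeneousIdeal ℬ} (hmS : mS.toIdeal = Ideal.span (⋃ n ∈ Set.Ioi (0 : ℤ), (ℬ n : Set S)))
  {mT : HomogeneousIdeal 𝒯} (hmT : mT.toIdeal = Ideal.span (⋃ n ∈ Set.Ioi (0 : ℤ), (𝒯 n : Set T)))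
  {M : Type u} [AddCommGroup M] [Module R M] [Module k M] [IsScalarTower k R M] {ℳ : ℤ → AddSubgroup M}
  [Decomposition ℳ] [SetLike.GradedSMul 𝒜 ℳ] (E : GrLC.StarInjRes 𝒜 ℳ)
  {N : Type u} [AddCommGroup N] [Module S N] [Module k N] [IsScalarTower k S N]
  {𝒩 : ℤ → AddSubgroup N} [Decomposition 𝒩] [SetLike.GradedSMul ℬ 𝒩]
  {Y : GrLC.GMod.{u} ℬ} (ι : N ≃ₗ[S] Y.carrier) (hι : ∀ n y, y ∈ 𝒩 n ↔ ι y ∈ Y.gr n)
  {e : ℕ} (he : 0 < e) {g : S} (hg : g ∈ ℬ (e : ℤ)) (hgY : Function.Bijective fun y : Y.carrier => g • y)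

/-- A term of the complex computing the cohomology. -/
noncomputable abbrev segT (n : ℕ) : GrLC.GMod.{u} 𝒯 := seg hdegT (E.X n) Y

/-- The differential of the complex computing the cohomology. -/
noncomputable abbrev segD (n : ℕ) : (segT (Y := Y) hdegT E n).carrier →ₗ[T] (segT (Y := Y) hdegT E (n + 1)).carrier :=
  segMap hdegT (E.d n) (E.d_grHom n) LinearMap.id (idHom Y)

/-- The torsion cocycles of the complex computing the cohomology. -/
noncomputable def segZ (mT : HomogeneousIdeal 𝒯) (q : ℕ) : Submodule T (segT (Y := Y) hdegT E q).carrier :=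
  GrLC.gam mT.toIdeal (segT (Y := Y) hdegT E q).carrier ⊓ LinearMap.ker (segD hdegT E q)

theorem segD_exact (n : ℕ) : Function.Exact (segD (Y := Y) hdegT E n) (segD (Y := Y) hdegT E (n + 1)) :=
  segMap_exact hdegT _ _ fun _ => ⟨GrLib.exists_d_eq E n, fun ⟨y, hy⟩ => hy ▸ GrLib.d_comp_d E n y⟩

section augmentation

variable {P : Type u} [AddCommGroup P] [Module T P] [Module k P] [IsScalarTower k T P] {𝒬 : ℤ → AddSubgroup P}
  [Decomposition 𝒬] [SetLike.GradedSMul 𝒯 𝒬] {φ : P →ₗ[k] M ⊗[k] N} (hP : GrSeg.IsSegreMod ψ ℳ 𝒩 𝒬 φ)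

include hP hι in
theorem aug_mem_piece {n : ℤ} {p : P} (hp : p ∈ 𝒬 n) :
    TensorProduct.map (E.ε.restrictScalars k) (ι.toLinearMap.restrictScalars k) (φ p) ∈
      GrSeg.segrePiece k (E.X 0).gr Y.gr n := by
  have h : φ p ∈ GrSeg.segrePiece k ℳ 𝒩 n := by
    rw [← SetLike.mem_coe, ← hP.image_piece]; exact ⟨p, hp, rfl⟩
  generalize φ p = w at h ⊢
  induction h using Submodule.span_induction with
  | mem w hw =>
    obtain ⟨a, ha, b, hb, rfl⟩ := hw
    exact Submodule.subset_span ⟨E.ε a, E.ε_grHom n a ha, ι b, (hι n b).1 hb, rfl⟩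
  | zero => rw [map_zero]; exact zero_mem _
  | add a b _ _ ha hb => rw [map_add]; exact add_mem ha hb
  | smul c a _ ha => rw [map_smul]; exact Submodule.smul_mem _ c ha

include hP hι in
/-- The augmentation of the complex computing the cohomology. -/
theorem exists_aug : ∃ ε : (GrLC.GMod.of 𝒯 P 𝒬).carrier →ₗ[T] (segT (Y := Y) hdegT E 0).carrier,
    GrLC.IsGrHom (GrLC.GMod.of 𝒯 P 𝒬).gr (segT (Y := Y) hdegT E 0).gr ε ∧ Function.Injective ε ∧
      Function.Exact ε (segD (Y := Y) hdegT E 0) := by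
  classical
  let j : M ⊗[k] N →ₗ[k] (E.X 0).carrier ⊗[k] Y.carrier :=
    TensorProduct.map (E.ε.restrictScalars k) (ι.toLinearMap.restrictScalars k)
  have hj : Function.Injective j := TensorProduct.map_injective_of_flat_flat _ _ E.ε_injective ι.injective
  have hmem : ∀ p : P, j (φ p) ∈ segSub (E.X 0) Y := fun p => by
    induction p using GrLib.induction 𝒬 with
    | zero => rw [map_zero, map_zero]; exact zero_mem _
    | add a b ha hb => rw [map_add, map_add]; exact add_mem ha hb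
    | hom n p hp => exact piece_le_segSub _ _ n (aug_mem_piece E ι hι hP hp)
  choose v hv using fun p => exists_seg hdegT (E.X 0) Y (hmem p)
  let ε : (GrLC.GMod.of 𝒯 P 𝒬).carrier →ₗ[T] (segT (Y := Y) hdegT E 0).carrier :=
    { toFun := v
      map_add' := fun (a b : P) => segInc_injective hdegT _ _ (by rw [map_add, hv, hv, hv]; exact (congrArg j (map_add φ a b)).trans (map_add j _ _))
      map_smul' := fun t (p : P) => segInc_injective hdegT _ _ (by
        rw [RingHom.id_apply, segInc_smul, hv, hv]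
        refine Eq.trans (congrArg j (hP.map_smul t p)) ?_
        exact map_act' E.ε ι.toLinearMap (ψ t) (φ p)) }
  refine ⟨ε, fun n p hp => ?_, fun a b h => ?_, fun w => ⟨fun hw => ?_, ?_⟩⟩
  · rw [mem_seg_gr]
    show segInc hdegT _ _ (v p) ∈ _
    rw [hv]
    exact aug_mem_piece E ι hι hP hp
  · exact hP.injective (hj ((hv a).symm.trans ((congrArg (segInc hdegT _ _) h).trans (hv b))))
  · refine GrLib.mem_of_proj_mem (ℳ := (segT (Y := Y) hdegT E 0).gr) (LinearMap.range ε) (fun n => ?_)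
    have hn := GrLib.proj_mem (segT (Y := Y) hdegT E 0).gr n w
    have hdn : segD hdegT E 0 (GrLib.proj (segT (Y := Y) hdegT E 0).gr n w) = 0 := by
      rw [← GrLib.proj_map (segMap_grHom hdegT _ _ _ _), hw, map_zero]
    generalize GrLib.proj (segT (Y := Y) hdegT E 0).gr n w = x at hn hdn
    have h := congrArg (segInc hdegT _ _) hdn
    rw [segInc_segMap, map_zero] at h
    have hex : Function.Exact (E.ε.restrictScalars k) ((E.d 0).restrictScalars k) := fun m =>
      ⟨GrLib.exists_ε_eq E, fun ⟨y, hy⟩ => hy ▸ GrLib.d_comp_ε E y⟩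
    obtain ⟨u, hu⟩ := (Module.Flat.rTensor_exact Y.carrier hex (segInc hdegT _ _ x)).1 h
    obtain ⟨u, rfl⟩ := TensorProduct.map_surjective
      (show Function.Surjective (LinearMap.id : M →ₗ[k] M) from Function.surjective_id)
      (show Function.Surjective (ι.toLinearMap.restrictScalars k) from ι.surjective) u
    have hu' : j u = segInc hdegT _ _ x := by
      rw [← hu, ← LinearMap.comp_apply, LinearMap.rTensor_comp_map]
      rfl
    let π := TensorProduct.map (SegreDim.pieceProj 𝒜 ℳ n) (SegreDim.pieceProj ℬ 𝒩 n)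
    have hπ : ∀ u, j (π u) = TensorProduct.map (SegreDim.pieceProj 𝒜 (E.X 0).gr n) (SegreDim.pieceProj ℬ Y.gr n) (j u) :=
      fun u => by
        induction u using TensorProduct.induction_on with
        | zero => simp only [map_zero]
        | add a b ha hb => simp only [map_add, ha, hb]
        | tmul a b =>
          show E.ε (GrLib.proj ℳ n a) ⊗ₜ[k] ι (GrLib.proj 𝒩 n b) =
            GrLib.proj (E.X 0).gr n (E.ε a) ⊗ₜ[k] GrLib.proj Y.gr n (ι b)
          rw [GrLib.proj_map E.ε_grHom]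
          exact congrArg (E.ε (GrLib.proj ℳ n a) ⊗ₜ[k] ·)
            (GrLib.proj_map (f := ι.toLinearMap) (fun m y hy => (hι m y).1 hy) n b).symm
    have hπu : j (π u) = segInc hdegT _ _ x := by
      rw [hπ, hu']
      exact (segProjAux_of_mem _ _ ((mem_seg_gr hdegT _ _).1 hn)).trans (if_pos rfl)
    have hpiece : π u ∈ GrSeg.segrePiece k ℳ 𝒩 n := by
      clear hπu hu hu'
      induction u using TensorProduct.induction_on with
      | zero => rw [map_zero]; exact zero_mem _
      | add a b ha hb => rw [map_add]; exact add_mem ha hb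
      | tmul a b => exact Submodule.subset_span ⟨_, (decompose ℳ a n).2, _, (decompose 𝒩 b n).2, rfl⟩
    rw [← SetLike.mem_coe, ← hP.image_piece] at hpiece
    obtain ⟨p, -, hp⟩ := hpiece
    exact ⟨p, segInc_injective hdegT _ _ ((hv p).trans ((congrArg j hp).trans hπu))⟩
  · rintro ⟨p, rfl⟩
    refine segInc_injective hdegT _ _ ?_
    rw [segInc_segMap, map_zero, show segInc hdegT _ _ (ε p) = j (φ p) from hv p, ← LinearMap.comp_apply,
      ← TensorProduct.map_comp]
    generalize φ p = w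
    induction w using TensorProduct.induction_on with
    | zero => rw [map_zero]
    | add a b ha hb => rw [map_add, ha, hb, add_zero]
    | tmul a b =>
      show E.d 0 (E.ε a) ⊗ₜ[k] _ = 0
      rw [GrLib.d_comp_ε, TensorProduct.zero_tmul]

end augmentation

variable {H : Type u} [AddCommGroup H] [Module R H] [Module k H] [IsScalarTower k R H]
  {𝓗 : ℤ → AddSubgroup H}

section beta

include hmR hmS hmT he hg hgY in
/-- Torsion cocycles come from tensors of cocycles. -/
theorem exists_lift_segZ {q : ℕ} (v : segZ (Y := Y) hdegT E mT q) :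
    ∃ u, ((E.cocyc mR q).subtype.restrictScalars k).rTensor Y.carrier u = segInc hdegT (E.X q) Y v.1 := by
  refine mem_range_rTensor_inf Y.carrier (E.d q) (GrLC.gam mR.toIdeal (E.X q).carrier) ?_ ?_
  · have h := congrArg (segInc hdegT _ _) (LinearMap.mem_ker.1 v.2.2)
    rw [segInc_segMap, map_zero] at h
    exact h
  · obtain ⟨u, hu⟩ := (mem_gam_seg_right_iff hdegT hmR hmS hmT he hg hgY (E.starInj q) v.1).1 v.2.1
    rw [← hu]
    exact rTensor_mkQ_range _ u

include hmR hmS hmT he hg hgY in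
/-- The classes of the factors of a torsion cocycle. -/
theorem exists_beta (q : ℕ) (tc : E.cocyc mR q →ₗ[R] H) :
    ∃ β : segZ (Y := Y) hdegT E mT q →ₗ[k] H ⊗[k] N,
      ∀ v u, ((E.cocyc mR q).subtype.restrictScalars k).rTensor Y.carrier u = segInc hdegT (E.X q) Y v.1 →
        β v = TensorProduct.map (tc.restrictScalars k) (ι.symm.toLinearMap.restrictScalars k) u := by
  let κ := ((E.cocyc mR q).subtype.restrictScalars k).rTensor Y.carrier
  have hκ : Function.Injective κ :=
    Module.Flat.rTensor_preserves_injective_linearMap _ (Submodule.subtype_injective _)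
  choose L hL using fun v => exists_lift_segZ (Y := Y) hdegT hmR hmS hmT E he hg hgY (q := q) v
  let L' : segZ (Y := Y) hdegT E mT q →ₗ[k] E.cocyc mR q ⊗[k] Y.carrier :=
    { toFun := L
      map_add' := fun a b => hκ (by rw [map_add, hL, hL, hL, Submodule.coe_add, map_add])
      map_smul' := fun c a => hκ (by
        rw [RingHom.id_apply, map_smul, hL, hL]
        exact map_smul (segInc hdegT (E.X q) Y) c a.1) }
  exact ⟨(TensorProduct.map (tc.restrictScalars k) (ι.symm.toLinearMap.restrictScalars k)).comp L',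
    fun v u hu => congrArg _ (hκ ((hL v).trans hu.symm))⟩

variable {q : ℕ} {tc : E.cocyc mR q →ₗ[R] H}
  {β : segZ (Y := Y) hdegT E mT q →ₗ[k] H ⊗[k] N}
  (hβ : ∀ v u, ((E.cocyc mR q).subtype.restrictScalars k).rTensor Y.carrier u = segInc hdegT (E.X q) Y v.1 →
        β v = TensorProduct.map (tc.restrictScalars k) (ι.symm.toLinearMap.restrictScalars k) u)

include hmR hmS hmT he hg hgY hβ in
theorem beta_smul (t : T) (v : segZ (Y := Y) hdegT E mT q) :
    β (t • v) = GrSeg.act k R S H N (ψ t) (β v) := by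
  obtain ⟨u, hu⟩ := exists_lift_segZ (Y := Y) hdegT hmR hmS hmT E he hg hgY v
  rw [hβ v u hu, hβ (t • v) (GrSeg.act k R S _ _ (ψ t) u) ?_]
  · exact map_act' tc ι.symm.toLinearMap (ψ t) u
  · refine (map_act' (E.cocyc mR q).subtype (LinearMap.id : Y.carrier →ₗ[S] Y.carrier) (ψ t) u).trans ?_
    rw [Submodule.coe_smul, segInc_smul]
    exact congrArg (GrSeg.act k R S (E.X q).carrier Y.carrier (ψ t)) hu

variable (htc : ∀ n x, x ∈ 𝓗 n ↔ ∃ z : E.cocyc mR q, z.1 ∈ (E.X q).gr n ∧ tc z = x)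

include hmR hmS hmT he hg hgY hβ hι htc in
/-- The classes of a homogeneous torsion cocycle lie in the piece of its degree. -/
theorem beta_mem {n : ℤ} (v : segZ (Y := Y) hdegT E mT q) (hv : v.1 ∈ (segT (Y := Y) hdegT E q).gr n) :
    β v ∈ GrSeg.segrePiece k 𝓗 𝒩 n := by
  obtain ⟨u, hu⟩ := exists_lift_segZ (Y := Y) hdegT hmR hmS hmT E he hg hgY v
  have hcoc : ∀ z ∈ E.cocyc mR q, GrLib.proj (E.X q).gr n z ∈ E.cocyc mR q := fun z hz => by
    refine ⟨GrLib.isHomogeneous_gam (𝒜 := 𝒜) (ℳ := (E.X q).gr) mR.isHomogeneous n hz.1, ?_⟩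
    show E.d q (GrLib.proj (E.X q).gr n z) = 0
    rw [← GrLib.proj_map (E.d_grHom q), show E.d q z = 0 from hz.2, map_zero]
  let Pc : E.cocyc mR q →ₗ[k] E.cocyc mR q :=
    { toFun := fun z => ⟨SegreDim.pieceProj 𝒜 (E.X q).gr n z.1, hcoc z.1 z.2⟩
      map_add' := fun a b => Subtype.ext (map_add (SegreDim.pieceProj 𝒜 (E.X q).gr n) a.1 b.1)
      map_smul' := fun c a => Subtype.ext (map_smul (SegreDim.pieceProj 𝒜 (E.X q).gr n) c a.1) }
  have hπ : ∀ u, ((E.cocyc mR q).subtype.restrictScalars k).rTensor Y.carrier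
      (TensorProduct.map Pc (SegreDim.pieceProj ℬ Y.gr n) u) =
        segProjAux (E.X q) Y n (((E.cocyc mR q).subtype.restrictScalars k).rTensor Y.carrier u) := fun u => by
    induction u using TensorProduct.induction_on with
    | zero => simp only [map_zero]
    | add a b ha hb => simp only [map_add, ha, hb]
    | tmul a b => rfl
  rw [hβ v (TensorProduct.map Pc (SegreDim.pieceProj ℬ Y.gr n) u)
    (by rw [hπ, hu, segProjAux_of_mem _ _ ((mem_seg_gr hdegT _ _).1 hv), if_pos rfl])]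
  clear hu
  induction u using TensorProduct.induction_on with
  | zero => rw [map_zero, map_zero]; exact zero_mem _
  | add a b ha hb => rw [map_add, map_add]; exact add_mem ha hb
  | tmul a b =>
    refine Submodule.subset_span ⟨_, (htc n _).2 ⟨Pc a, GrLib.proj_mem (E.X q).gr n a.1, rfl⟩, _, ?_, rfl⟩
    refine (hι n _).2 ?_
    show ι (ι.symm (GrLib.proj Y.gr n b)) ∈ Y.gr n
    rw [ι.apply_symm_apply]
    exact GrLib.proj_mem Y.gr n b

include hmR hmS hmT he hg hgY hβ hι htc in
/-- Every elementary tensor of classes comes from a torsion cocycle. -/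
theorem exists_beta_eq {n : ℤ} {p : H} (hp : p ∈ 𝓗 n) {y : N} (hy : y ∈ 𝒩 n) :
    ∃ v : segZ (Y := Y) hdegT E mT q, v.1 ∈ (segT (Y := Y) hdegT E q).gr n ∧ β v = p ⊗ₜ[k] y := by
  obtain ⟨z, hz, rfl⟩ := (htc n p).1 hp
  have hm : (z.1 ⊗ₜ[k] ι y : (E.X q).carrier ⊗[k] Y.carrier) ∈ GrSeg.segrePiece k (E.X q).gr Y.gr n :=
    Submodule.subset_span ⟨z.1, hz, ι y, (hι n y).1 hy, rfl⟩
  obtain ⟨v, hv⟩ := exists_seg hdegT (E.X q) Y (piece_le_segSub _ _ n hm)
  have hvZ : v ∈ segZ (Y := Y) hdegT E mT q := by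
    refine ⟨mem_gam_seg hdegT _ _ hmR hmS hmT (by rw [hv]; exact Submodule.subset_span ⟨z.1, ι y, rfl, Or.inl z.2.1⟩),
      LinearMap.mem_ker.2 (segInc_injective hdegT _ _ ?_)⟩
    rw [segInc_segMap, hv, map_zero, TensorProduct.map_tmul]
    show E.d q z.1 ⊗ₜ[k] _ = 0
    rw [show E.d q z.1 = 0 from z.2.2, TensorProduct.zero_tmul]
  refine ⟨⟨v, hvZ⟩, by rw [mem_seg_gr, hv]; exact hm, ?_⟩
  rw [hβ ⟨v, hvZ⟩ (z ⊗ₜ[k] ι y) (by rw [hv]; rfl), TensorProduct.map_tmul]
  show tc z ⊗ₜ[k] ι.symm (ι y) = _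
  rw [ι.symm_apply_apply]

end beta

section kernel

include hmR hmS hmT he hg hgY in
theorem beta_zero_iff {tc : E.cocyc mR 0 →ₗ[R] H} (hker : ∀ z, tc z = 0 ↔ z.1 ∈ E.cobdy mR 0)
    {β : segZ (Y := Y) hdegT E mT 0 →ₗ[k] H ⊗[k] N}
    (hβ : ∀ v u, ((E.cocyc mR 0).subtype.restrictScalars k).rTensor Y.carrier u = segInc hdegT (E.X 0) Y v.1 →
      β v = TensorProduct.map (tc.restrictScalars k) (ι.symm.toLinearMap.restrictScalars k) u)
    (v : segZ (Y := Y) hdegT E mT 0) : β v = 0 ↔ v.1 = 0 := by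
  obtain ⟨u, hu⟩ := exists_lift_segZ (Y := Y) hdegT hmR hmS hmT E he hg hgY v
  have hinj : Function.Injective tc := (injective_iff_map_eq_zero _).2 fun z hz =>
    Subtype.ext ((Submodule.mem_bot R).1 ((hker z).1 hz))
  refine ⟨fun h => ?_, fun h => ?_⟩
  · rw [hβ v u hu] at h
    have h' : u = 0 := TensorProduct.map_injective_of_flat_flat (tc.restrictScalars k)
      (ι.symm.toLinearMap.restrictScalars k) hinj ι.symm.injective (h.trans (map_zero _).symm)
    refine segInc_injective hdegT _ _ ?_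
    rw [← hu, h', map_zero, map_zero]
  · rw [show v = 0 from Subtype.ext h, map_zero]

include hmR hmS hmT he hg hgY in
/-- The kernel of the classes: boundaries of torsion. -/
theorem beta_succ_iff {q : ℕ} {tc : E.cocyc mR (q + 1) →ₗ[R] H} (hker : ∀ z, tc z = 0 ↔ z.1 ∈ E.cobdy mR (q + 1))
    {β : segZ (Y := Y) hdegT E mT (q + 1) →ₗ[k] H ⊗[k] N}
    (hβ : ∀ v u, ((E.cocyc mR (q + 1)).subtype.restrictScalars k).rTensor Y.carrier u =
      segInc hdegT (E.X (q + 1)) Y v.1 →
      β v = TensorProduct.map (tc.restrictScalars k) (ι.symm.toLinearMap.restrictScalars k) u)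
    (v : segZ (Y := Y) hdegT E mT (q + 1)) :
    β v = 0 ↔ ∃ x ∈ GrLC.gam mT.toIdeal (segT (Y := Y) hdegT E q).carrier, segD hdegT E q x = v.1 := by
  obtain ⟨u, hu⟩ := exists_lift_segZ (Y := Y) hdegT hmR hmS hmT E he hg hgY v
  let Γ := GrLC.gam mR.toIdeal (E.X q).carrier
  let δ : Γ →ₗ[R] E.cocyc mR (q + 1) := ((E.d q).comp Γ.subtype).codRestrict _ fun x =>
    ⟨GrLib.map_gam_le (E.d q) (Submodule.mem_map_of_mem x.2), GrLib.d_comp_d E q x.1⟩
  have hex : Function.Exact (δ.restrictScalars k) (tc.restrictScalars k) := fun z => by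
    refine (hker z).trans ⟨fun ⟨x, hx, hxz⟩ => ⟨⟨x, hx⟩, Subtype.ext hxz⟩, ?_⟩
    rintro ⟨x, hx⟩
    exact ⟨x.1, x.2, congrArg Subtype.val hx⟩
  have hcomm : ∀ u', ((E.cocyc mR (q + 1)).subtype.restrictScalars k).rTensor Y.carrier
      ((δ.restrictScalars k).rTensor Y.carrier u') = TensorProduct.map ((E.d q).restrictScalars k)
        ((LinearMap.id : Y.carrier →ₗ[S] Y.carrier).restrictScalars k)
        ((Γ.subtype.restrictScalars k).rTensor Y.carrier u') := fun u' => by
    induction u' using TensorProduct.induction_on with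
    | zero => simp only [map_zero]
    | add a b ha hb => simp only [map_add, ha, hb]
    | tmul a b => rfl
  constructor
  · intro h
    rw [hβ v u hu] at h
    have h1 : (tc.restrictScalars k).rTensor Y.carrier u = 0 := by
      refine TensorProduct.map_injective_of_flat_flat (LinearMap.id : H →ₗ[k] _)
        (ι.symm.toLinearMap.restrictScalars k) Function.injective_id ι.symm.injective ?_
      rw [← LinearMap.comp_apply, LinearMap.map_comp_rTensor, map_zero]
      exact h
    obtain ⟨u', hu'⟩ := (Module.Flat.rTensor_exact Y.carrier hex u).1 h1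
    obtain ⟨x, hx⟩ := exists_seg hdegT (E.X q) Y
      (dg_mem _ _ ((Γ.subtype.restrictScalars k).rTensor Y.carrier u'))
    refine ⟨x, mem_gam_seg hdegT _ _ hmR hmS hmT ?_, segInc_injective hdegT _ _ ?_⟩
    · rw [hx]
      refine dg_mem_gamSpan _ _ mR mS ?_
      clear hu' hx
      induction u' using TensorProduct.induction_on with
      | zero => rw [map_zero]; exact zero_mem _
      | add a b ha hb => rw [map_add]; exact add_mem ha hb
      | tmul a b => exact tmul_mem_gamSpan _ _ mR mS (Or.inl a.2)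
    · rw [segInc_segMap, hx, map_dg (E.d_grHom q) (idHom Y), ← hcomm, hu', hu,
        dg_eq_self _ _ (segInc_mem hdegT _ _ _)]
  · rintro ⟨x, hx, hxv⟩
    obtain ⟨u', hu'⟩ := (mem_gam_seg_right_iff hdegT hmR hmS hmT he hg hgY (E.starInj q) x).1 hx
    rw [hβ v ((δ.restrictScalars k).rTensor Y.carrier u') ?_]
    · clear hu'
      induction u' using TensorProduct.induction_on with
      | zero => simp only [map_zero]
      | add a b ha hb => simp only [map_add, ha, hb, add_zero]
      | tmul a b =>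
        show tc (δ a) ⊗ₜ[k] ι.symm b = 0
        rw [show tc (δ a) = 0 from (hex.apply_apply_eq_zero a), TensorProduct.zero_tmul]
    · rw [hcomm, hu', ← hxv, segInc_segMap]

end kernel

end Groth.Agent.SegreLC
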