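import Mathlib
import Groth.Agent.SegreLC.BijCoh
import Groth.Agent.GrLib.Derived

/-! The local cohomology of a Segre product with a factor on which a homogeneous element acts bijectively. -/

set_option autoImplicit false
set_option linter.unusedSectionVars false
set_option maxHeartbeats 1000000
universe u

open DirectSum TensorProduct

namespace Groth.Agent.SegreLC

theorem proj_mem_cobdy {R : Type u} [CommRing R] {σ : Type u} [SetLike σ R] [AddSubgroupClass σ R] {𝒜 : ℤ → σ}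
    [GradedRing 𝒜] {M : Type u} [AddCommGroup M] [Module R M] {ℳ : ℤ → AddSubgroup M} [Decomposition ℳ]
    [SetLike.GradedSMul 𝒜 ℳ] (E : GrLC.StarInjRes 𝒜 ℳ) (a : HomogeneousIdeal 𝒜) (q : ℕ) (n : ℤ)
    {z : (E.X q).carrier} (hz : z ∈ E.cobdy a q) : GrLib.proj (E.X q).gr n z ∈ E.cobdy a q := by
  cases q with
  | zero => rw [show z = 0 from (Submodule.mem_bot R).1 hz, map_zero]; exact zero_mem _
  | succ q =>
    obtain ⟨w, hw, rfl⟩ := hz
    exact ⟨GrLib.proj (E.X q).gr n w, GrLib.isHomogeneous_gam (𝒜 := 𝒜) (ℳ := (E.X q).gr) a.isHomogeneous n hw,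
      (GrLib.proj_map (E.d_grHom q) n w).symm⟩

variable {k : Type u} [Field k] {R : Type u} [CommRing R] [Algebra k R] {𝒜 : ℤ → Submodule k R} [GradedAlgebra 𝒜]
  {S : Type u} [CommRing S] [Algebra k S] {ℬ : ℤ → Submodule k S} [GradedAlgebra ℬ]
  {T : Type u} [CommRing T] [Algebra k T] {𝒯 : ℤ → Submodule k T} [GradedAlgebra 𝒯]
  {ψ : T →ₐ[k] R ⊗[k] S} (hdegT : ∀ n : ℤ, (𝒯 n).map ψ.toLinearMap = GrSeg.segrePiece k 𝒜 ℬ n)
  [IsNoetherianRing R] [IsNoetherianRing S] [IsNoetherianRing T]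
  {mR : HomogeneousIdeal 𝒜} (hmR : mR.toIdeal = Ideal.span (⋃ n ∈ Set.Ioi (0 : ℤ), (𝒜 n : Set R)))
  {mS : HomogeneousIdeal ℬ} (hmS : mS.toIdeal = Ideal.span (⋃ n ∈ Set.Ioi (0 : ℤ), (ℬ n : Set S)))
  {mT : HomogeneousIdeal 𝒯} (hmT : mT.toIdeal = Ideal.span (⋃ n ∈ Set.Ioi (0 : ℤ), (𝒯 n : Set T)))
  {M : Type u} [AddCommGroup M] [Module R M] [Module k M] [IsScalarTower k R M] {ℳ : ℤ → AddSubgroup M}
  [Decomposition ℳ] [SetLike.GradedSMul 𝒜 ℳ] (E : GrLC.StarInjRes 𝒜 ℳ)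
  {N : Type u} [AddCommGroup N] [Module S N] [Module k N] [IsScalarTower k S N]
  {𝒩 : ℤ → AddSubgroup N} [Decomposition 𝒩] [SetLike.GradedSMul ℬ 𝒩]
  {Y : GrLC.GMod.{u} ℬ} (ι : N ≃ₗ[S] Y.carrier) (hι : ∀ n y, y ∈ 𝒩 n ↔ ι y ∈ Y.gr n)
  {e : ℕ} (he : 0 < e) {g : S} (hg : g ∈ ℬ (e : ℤ)) (hgY : Function.Bijective fun y : Y.carrier => g • y)
  {P : Type u} [AddCommGroup P] [Module T P] [Module k P] [IsScalarTower k T P] {𝒬 : ℤ → AddSubgroup P}
  [Decomposition 𝒬] [SetLike.GradedSMul 𝒯 𝒬] {φ : P →ₗ[k] M ⊗[k] N} (hP : GrSeg.IsSegreMod ψ ℳ 𝒩 𝒬 φ)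
  (EP : GrLC.StarInjRes 𝒯 𝒬) (q : ℕ)
  {H : Type u} [AddCommGroup H] [Module R H] [Module k H] [IsScalarTower k R H] {𝓗 : ℤ → AddSubgroup H}
  (tc : E.cocyc mR q →ₗ[R] H) (hker : ∀ z, tc z = 0 ↔ z.1 ∈ E.cobdy mR q)
  (htc : ∀ n x, x ∈ 𝓗 n ↔ ∃ z : E.cocyc mR q, z.1 ∈ (E.X q).gr n ∧ tc z = x)
  {G : Type u} [AddCommGroup G] [Module T G] [Module k G] [IsScalarTower k T G] {𝒢 : ℤ → AddSubgroup G}
  [Decomposition 𝒢] (tT : EP.cocyc mT q →ₗ[T] G) (hTs : Function.Surjective tT)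
  (hkerT : ∀ z, tT z = 0 ↔ z.1 ∈ EP.cobdy mT q)
  (htT : ∀ n x, x ∈ 𝒢 n ↔ ∃ z : EP.cocyc mT q, z.1 ∈ (EP.X q).gr n ∧ tT z = x)

include hdegT hmR hmS hmT hι he hg hgY hP hker htc hTs hkerT htT in
/-- The local cohomology of the Segre product, as the Segre product of the local cohomology. -/
theorem exists_bij_segre : ∃ φ' : G →ₗ[k] H ⊗[k] N, GrSeg.IsSegreMod ψ 𝓗 𝒩 𝒢 φ' := by
  classical
  let X := segT (Y := Y) hdegT E
  let dX := segD (Y := Y) hdegT E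
  have hdX : ∀ n, GrLC.IsGrHom (X n).gr (X (n + 1)).gr (dX n) := fun n => segMap_grHom hdegT _ _ _ _
  obtain ⟨ε, hε, hεi, h0⟩ := exists_aug (Y := Y) hdegT E ι hι hP
  obtain ⟨U, hU, hU₀, hUd⟩ := exists_liftTo X dX hdX (P := GrLC.GMod.of 𝒯 P 𝒬) ε hε hεi h0
    (segD_exact hdegT E) EP (LinearMap.id : P →ₗ[T] P) (fun _ _ h => h)
  obtain ⟨c1, c2, c3, c4⟩ := gam_compare (I := mT.toIdeal) (L := fun n => (X n).carrier) (εL := ε) (dL := dX)
    hεi h0 (segD_exact hdegT E) (fun n => acyc_seg_right hdegT hmR hmS hmT he hg hgY (E.starInj n))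
    (E := fun n => (EP.X n).carrier) (εE := EP.ε) (dE := EP.d) EP.ε_injective
    (fun x => ⟨GrLib.exists_ε_eq EP, fun ⟨p, hp⟩ => hp ▸ GrLib.d_comp_ε EP p⟩)
    (fun n x => ⟨GrLib.exists_d_eq EP n, fun ⟨y, hy⟩ => hy ▸ GrLib.d_comp_d EP n y⟩)
    (fun n i hi => GrLib.subsingleton_H_of_isStarInj (EP.starInj n) mT hi) hU₀ hUd
  let Z := segZ (Y := Y) hdegT E mT q
  let uc : Z →ₗ[T] EP.cocyc mT q := ((U q).comp Z.subtype).codRestrict _ fun v =>
    ⟨GrLib.map_gam_le (U q) (Submodule.mem_map_of_mem v.2.1), show EP.d q (U q v.1) = 0 by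
      rw [← hUd, show dX q v.1 = 0 from v.2.2, map_zero]⟩
  let α : Z →ₗ[T] G := tT.comp uc
  obtain ⟨β, hβ⟩ := exists_beta (Y := Y) hdegT hmR hmS hmT E ι he hg hgY q tc
  -- surjectivity
  have hαs : Function.Surjective α := by
    intro x
    obtain ⟨z, rfl⟩ := hTs x
    have hz : EP.d q z.1 = 0 := z.2.2
    cases q with
    | zero =>
      obtain ⟨v, hv, hdv, huv⟩ := c3 z.1 z.2.1 hz
      exact ⟨⟨v, hv, hdv⟩, congrArg tT (Subtype.ext huv)⟩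
    | succ m =>
      obtain ⟨v, hv, hdv, y, hy, hxy⟩ := c4 m z.1 z.2.1 hz
      refine ⟨⟨v, hv, hdv⟩, ?_⟩
      rw [← sub_eq_zero, show α ⟨v, hv, hdv⟩ - tT z = tT (uc ⟨v, hv, hdv⟩ - z) from (map_sub tT _ _).symm, hkerT]
      refine ⟨-y, neg_mem hy, ?_⟩
      show EP.d m (-y) = U (m + 1) v - z.1
      rw [← hxy, map_neg, sub_add_eq_sub_sub, sub_self, zero_sub]
  -- the kernels
  have hk : ∀ v, α v = 0 ↔ β v = 0 := by
    cases q with
    | zero =>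
      intro v
      rw [beta_zero_iff (Y := Y) hdegT hmR hmS hmT E ι he hg hgY hker hβ v]
      refine (hkerT _).trans ⟨fun h => c1 v.1 v.2.2 ((Submodule.mem_bot T).1 h), fun h => ?_⟩
      show U 0 v.1 ∈ (⊥ : Submodule T _)
      rw [h, map_zero]
      exact zero_mem _
    | succ m =>
      intro v
      rw [beta_succ_iff (Y := Y) hdegT hmR hmS hmT E ι he hg hgY hker hβ v]
      refine (hkerT _).trans ⟨?_, ?_⟩
      · rintro ⟨w, hw, hwv⟩
        exact c2 m v.1 v.2.1 v.2.2 w hw hwv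
      · rintro ⟨x, hx, hxv⟩
        exact ⟨U m x, GrLib.map_gam_le (U m) (Submodule.mem_map_of_mem hx),
          (hUd m x).symm.trans (congrArg (U (m + 1)) hxv)⟩
  obtain ⟨σ, hσ⟩ := (α.restrictScalars k).exists_rightInverse_of_surjective (LinearMap.range_eq_top.2 hαs)
  let φ' : G →ₗ[k] H ⊗[k] N := β.comp σ
  have hφ' : ∀ v, φ' (α v) = β v := fun v => by
    have h1 : α (σ (α v) - v) = 0 := by
      rw [map_sub, show α (σ (α v)) = α v from LinearMap.congr_fun hσ (α v), sub_self]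
    have h2 := (hk _).1 h1
    rw [map_sub, sub_eq_zero] at h2
    exact h2
  refine ⟨φ', ?_, fun n => Set.ext fun w => ⟨?_, fun hw => ?_⟩, fun t x => ?_⟩
  · refine (injective_iff_map_eq_zero _).2 fun x hx => ?_
    obtain ⟨v, rfl⟩ := hαs x
    rw [hφ'] at hx
    exact (hk v).2 hx
  · rintro ⟨x, hx, rfl⟩
    obtain ⟨z, hz, rfl⟩ := (htT n x).1 hx
    obtain ⟨v, hv⟩ := hαs (tT z)
    let v' : Z := ⟨GrLib.proj (X q).gr n v.1,
      GrLib.isHomogeneous_gam (𝒜 := 𝒯) (ℳ := (X q).gr) mT.isHomogeneous n v.2.1,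
      show dX q (GrLib.proj (X q).gr n v.1) = 0 by rw [← GrLib.proj_map (hdX q), show dX q v.1 = 0 from v.2.2, map_zero]⟩
    have hv' : α v' = tT z := by
      rw [← sub_eq_zero, show α v' - tT z = tT (uc v' - z) from (map_sub tT _ _).symm, hkerT]
      have h : U q v.1 - z.1 ∈ EP.cobdy mT q :=
        (hkerT (uc v - z)).1 (by rw [map_sub, sub_eq_zero]; exact hv)
      have h' := proj_mem_cobdy EP mT q n h
      rw [map_sub, GrLib.proj_of_mem hz, GrLib.proj_map (hU q)] at h'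
      exact h'
    rw [← hv', hφ']
    exact beta_mem (Y := Y) hdegT hmR hmS hmT E ι hι he hg hgY hβ htc v' (GrLib.proj_mem (X q).gr n v.1)
  · have hle : GrSeg.segrePiece k 𝓗 𝒩 n ≤
        ((kpiece (X q) n).comap (Z.subtype.restrictScalars k)).map β := by
      refine Submodule.span_le.2 ?_
      rintro _ ⟨p, hp, y, hy, rfl⟩
      obtain ⟨v, hv, hvβ⟩ := exists_beta_eq (Y := Y) hdegT hmR hmS hmT E ι hι he hg hgY hβ htc hp hy
      exact ⟨v, hv, hvβ⟩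
    obtain ⟨v, hv, rfl⟩ := hle hw
    exact ⟨α v, (htT n _).2 ⟨uc v, hU q n _ hv, rfl⟩, hφ' v⟩
  · obtain ⟨v, rfl⟩ := hαs x
    rw [← map_smul α, hφ', hφ']
    exact beta_smul (Y := Y) hdegT hmR hmS hmT E ι he hg hgY hβ t v

end Groth.Agent.SegreLC
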