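import Mathlib
import Groth.Agent.SegreLC.CMSegre
import Groth.Agent.SegreLC.StdPiece
import Groth.Agent.GrLib.Std
import Groth.Agent.GrLib.Reg
import Groth.Agent.S19764

/-! Shifted polynomial rings. -/

set_option autoImplicit false
set_option linter.unusedSectionVars false
universe u

open DirectSum MvPolynomial

namespace Groth.Agent.SegreLC

variable (k : Type u) [Field k] (m : ℕ)

local notation "S" => MvPolynomial (Fin m) k
local notation "G" => GrSyz.stdGr k (Fin m)
local notation "irS" => GrSyz.irrel (GrSyz.stdGr k (Fin m))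

theorem std_pos : ∀ n : ℤ, n < 0 → G n = ⊥ := fun n hn => S19764.weightedPiece_neg k (Fin m) n hn

theorem std_zero : G 0 = Submodule.span k {(1 : S)} := S19764.weightedPiece_zero k (Fin m)

theorem std_irr : (irS).toIdeal = Ideal.span (⋃ n ∈ Set.Ioi (0 : ℤ), (G n : Set S)) :=
  GrLib.irrel_eq_span_union k m

theorem std_std : Ideal.span (⋃ n ∈ Set.Ioi (0 : ℤ), (G n : Set S)) = Ideal.span ((G 1 : Submodule k S) : Set S) := by
  refine le_antisymm ?_ (Ideal.span_mono fun x hx => Set.mem_biUnion (Set.mem_Ioi.2 one_pos) hx)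
  rw [← std_irr, GrLib.irrel_eq]
  exact Ideal.span_mono fun x ⟨j, hj⟩ => hj ▸ GrLib.X_mem_stdGr k m j

/-- The top local cohomology of the polynomial ring is nonzero in degree `-m`. -/
theorem top_ne_bot (E : GrLC.StarInjRes G G) : E.Hcomp irS m (-(m : ℤ)) ≠ ⊥ := by
  intro h
  have h1 := GrLib.mem_span_pred E irS ((std_irr k m).trans (std_std k m)) 0 (fun i => by
    refine (AddSubgroup.eq_bot_iff_forall _).2 ?_
    by_cases hi : i = m
    · subst hi
      rw [zero_sub]
      exact fun x hx => (Submodule.eq_bot_iff _).1 h x hx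
    · exact GrLib.Hgr_stdGr k m i E _ fun h' => absurd h' hi) 1 (SetLike.one_mem_graded G)
  have h2 : Submodule.span S {p : S | p ∈ G (0 - 1)} = ⊥ := by
    refine Submodule.span_eq_bot.2 fun p hp => ?_
    rw [show G (0 - 1) = ⊥ from std_pos k m _ (by norm_num)] at *
    exact (Submodule.mem_bot k).1 hp
  rw [h2, Submodule.mem_bot] at h1
  exact one_ne_zero h1

theorem dim_self : Module.supportDim S S = (m : WithBot ℕ∞) := by
  rw [Module.supportDim_self_eq_ringKrullDim, MvPolynomial.ringKrullDim_of_isNoetherianRing,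
    ringKrullDim_eq_zero_of_field]
  simp

theorem cm_self (q : Ideal S) [q.IsPrime] : Subsingleton (LocalizedModule q.primeCompl S) ∨
    LocCoh.IsCohenMacaulayModule (Localization.AtPrime q) (LocalizedModule q.primeCompl S) :=
  haveI : IsRegularRing S := inferInstance
  SegreOne.cm_of_projective (B := S) S q

theorem piece_ne_bot_std (hm : 1 ≤ m) (n : ℤ) (hn : 0 ≤ n) : G n ≠ ⊥ :=
  piece_ne_bot G (std_pos k m) (std_zero k m) (std_std k m) (r := m)
    (by rw [← Module.supportDim_self_eq_ringKrullDim]; exact dim_self k m) hm n hn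

end Groth.Agent.SegreLC
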